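import Mathlib
import Cfsg.Agent.Lib.Frob.QuatSquare

/-!
Groups with a subgroup `H` which is the centralizer of each of its involutions.
-/

set_option autoImplicit false

namespace Cfsg.Agent.BSW

open Subgroup

variable {G : Type*} [Group G]

/-- `H` has an involution and is the centralizer of each of its involutions. -/
structure HypI (H : Subgroup G) : Prop where
  cent : ∀ z ∈ H, z ≠ 1 → z * z = 1 → ∀ g : G, g * z = z * g ↔ g ∈ H
  ex : ∃ z ∈ H, z ≠ 1 ∧ z * z = 1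

theorem conj_ne_one {g z : G} (h : z ≠ 1) : g * z * g⁻¹ ≠ 1 := fun e => h (by simpa using e)

theorem conj_mul_self {g z : G} (h : z * z = 1) : g * z * g⁻¹ * (g * z * g⁻¹) = 1 := by
  calc g * z * g⁻¹ * (g * z * g⁻¹) = g * (z * z) * g⁻¹ := by group
    _ = 1 := by rw [h]; group

theorem inv_eq_of_mul_self {z : G} (h : z * z = 1) : z⁻¹ = z := inv_eq_of_mul_eq_one_right h

/-- An element of odd order inverting `c` forces `c ^ 2 = 1`. -/
theorem mul_self_eq_one_of_odd {x c : G} (hx : Odd (orderOf x)) (h : x * c * x⁻¹ = c⁻¹) :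
    c * c = 1 := by
  have h2 : Commute (x ^ 2) c := by
    have : x * c⁻¹ * x⁻¹ = c := by
      rw [show x * c⁻¹ * x⁻¹ = (x * c * x⁻¹)⁻¹ by group, h, inv_inv]
    change x ^ 2 * c = c * x ^ 2
    calc x ^ 2 * c = x * (x * c * x⁻¹) * x⁻¹ * x ^ 2 := by rw [sq]; group
      _ = c * x ^ 2 := by rw [h, this]
  obtain ⟨k, hk⟩ := hx
  have h3 : x * (x ^ 2) ^ k = 1 := by rw [← pow_mul, ← pow_succ', ← hk, pow_orderOf_eq_one]
  have h4 : Commute x c := by
    rw [eq_inv_of_mul_eq_one_left h3]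
    exact (h2.pow_left k).inv_left
  rw [h4.eq, mul_inv_cancel_right] at h
  exact mul_eq_one_iff_eq_inv.2 h

/-- Two involutions whose product has odd order are conjugate by a power of the product. -/
theorem exists_conj_of_odd {s u : G} (hs : s * s = 1) (hu : u * u = 1)
    (h : Odd (orderOf (s * u))) : ∃ k : ℕ, u = (s * u) ^ k * s * ((s * u) ^ k)⁻¹ := by
  obtain ⟨k, hk⟩ := h
  refine ⟨k, ?_⟩
  have h1 : s * (s * u) * s⁻¹ = (s * u)⁻¹ := by
    rw [mul_inv_rev, inv_eq_of_mul_self hu, ← mul_assoc, hs, one_mul]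
  have h2 : s * (s * u) ^ k * s⁻¹ = ((s * u) ^ k)⁻¹ := by rw [← conj_pow, h1, inv_pow]
  have h3 : (s * u) ^ k * (s * u) ^ k * (s * u) = 1 := by
    rw [← pow_add, ← pow_succ, ← two_mul, ← hk, pow_orderOf_eq_one]
  rw [← h2, inv_eq_of_mul_self hs]
  have h4 : s * ((s * u) ^ k)⁻¹ * s⁻¹ = (s * u) ^ k := by
    rw [show s * ((s * u) ^ k)⁻¹ * s⁻¹ = (s * (s * u) ^ k * s⁻¹)⁻¹ by group, h2, inv_inv]
  calc u = (s * u)⁻¹ * s := by
        rw [mul_inv_rev, inv_eq_of_mul_self hu, inv_eq_of_mul_self hs, mul_assoc, hs, mul_one]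
    _ = (s * u) ^ k * (s * u) ^ k * s := by rw [← eq_inv_of_mul_eq_one_left h3]
    _ = (s * u) ^ k * (s * s) * (s * u) ^ k * s := by rw [hs, mul_one]
    _ = _ := by group

namespace HypI

variable {H : Subgroup G} (hI : HypI H)
include hI

theorem comm {z h : G} (hz : z ∈ H) (z2 : z * z = 1) (hh : h ∈ H) : h * z = z * h := by
  by_cases z1 : z = 1
  · simp [z1]
  · exact (hI.cent z hz z1 z2 h).2 hh

theorem conj_eq {z h : G} (hz : z ∈ H) (z2 : z * z = 1) (hh : h ∈ H) : h * z * h⁻¹ = z := by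
  rw [hI.comm hz z2 hh, mul_inv_cancel_right]

theorem mem_of_comm {z g : G} (hz : z ∈ H) (z1 : z ≠ 1) (z2 : z * z = 1) (h : g * z = z * g) :
    g ∈ H := (hI.cent z hz z1 z2 g).1 h

theorem ne_bot : H ≠ ⊥ := by
  obtain ⟨z, hz, z1, -⟩ := hI.ex
  exact fun e => z1 (by rwa [e, mem_bot] at hz)

theorem mem_norm_of_conj {z g : G} (hz : z ∈ H) (z1 : z ≠ 1) (z2 : z * z = 1)
    (h : g * z * g⁻¹ ∈ H) : g ∈ normalizer (H : Set G) := by
  rw [mem_normalizer_iff]
  intro x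
  rw [← hI.cent z hz z1 z2 x, ← hI.cent _ h (conj_ne_one z1) (conj_mul_self z2)]
  constructor
  · intro e
    calc g * x * g⁻¹ * (g * z * g⁻¹) = g * (x * z) * g⁻¹ := by group
      _ = _ := by rw [e]; group
  · intro e
    calc x * z = g⁻¹ * (g * x * g⁻¹ * (g * z * g⁻¹)) * g := by group
      _ = _ := by rw [e]; group

/-- Involutions of `N(H)` lie in `H`. -/
theorem mem_of_mem_norm {u : G} (hu : u ∈ normalizer (H : Set G)) (u2 : u * u = 1) : u ∈ H := by
  obtain ⟨z, hz, z1, z2⟩ := hI.ex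
  have h1 : u * z * u⁻¹ ∈ H := Frob.conj_mem_of_mem_normalizer hu hz
  have hc := hI.comm hz z2 h1
  rw [inv_eq_of_mul_self u2] at h1 hc
  by_cases w1 : z * (u * z * u) = 1
  · refine hI.mem_of_comm hz z1 z2 ?_
    calc u * z = z * (z * (u * z * u)) * u := by
          rw [← mul_assoc z, z2, one_mul, mul_assoc, u2, mul_one]
      _ = z * u := by rw [w1, mul_one]
  · refine hI.mem_of_comm (H.mul_mem hz h1) w1 ?_ ?_
    · calc z * (u * z * u) * (z * (u * z * u)) = z * (u * z * u * z) * (u * z * u) := by group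
        _ = z * z * (u * z * (u * u) * z * u) := by rw [hc]; group
        _ = 1 := by rw [z2, u2, one_mul, mul_one, mul_assoc u, z2, mul_one, u2]
    · calc u * (z * (u * z * u)) = (u * z * u * z) * u := by group
        _ = z * (u * z * u) * u := by rw [hc]

variable [Finite G]

theorem odd_orderOf_mul {s u : G} (hs : s ∈ H) (s1 : s ≠ 1) (s2 : s * s = 1) (hu : u ∉ H)
    (u2 : u * u = 1) : Odd (orderOf (s * u)) := by
  rw [← Nat.not_even_iff_odd]
  rintro ⟨k, hk⟩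
  have hpos := orderOf_pos (s * u)
  have c1 : (s * u) ^ k ≠ 1 := pow_ne_one_of_lt_orderOf (by omega) (by omega)
  have c2 : (s * u) ^ k * (s * u) ^ k = 1 := by rw [← pow_add, ← hk, pow_orderOf_eq_one]
  have h1 : s * (s * u) * s⁻¹ = (s * u)⁻¹ := by
    rw [mul_inv_rev, inv_eq_of_mul_self u2, ← mul_assoc, s2, one_mul]
  have h2 : s * (s * u) ^ k * s⁻¹ = (s * u) ^ k := by
    rw [← conj_pow, h1, inv_pow, inv_eq_of_mul_self c2]
  have h3 : (s * u) ^ k * s = s * (s * u) ^ k := (mul_inv_eq_iff_eq_mul.1 h2).symm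
  have hc := hI.mem_of_comm hs s1 s2 h3
  have h4 : s * u ∈ H := hI.mem_of_comm hc c1 c2 (((Commute.refl (s * u)).pow_right k).eq)
  exact hu ((H.mul_mem_cancel_left hs).1 h4)

theorem exists_conj {s u : G} (hs : s ∈ H) (s1 : s ≠ 1) (s2 : s * s = 1) (hu : u ∉ H)
    (u2 : u * u = 1) : ∃ g : G, u = g * s * g⁻¹ := by
  obtain ⟨k, hk⟩ := exists_conj_of_odd s2 u2 (hI.odd_orderOf_mul hs s1 s2 hu u2)
  exact ⟨_, hk⟩

omit [Finite G] in
theorem conj_not_mem {z g : G} (hz : z ∈ H) (z1 : z ≠ 1) (z2 : z * z = 1)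
    (hg : g ∉ normalizer (H : Set G)) : g * z * g⁻¹ ∉ normalizer (H : Set G) := fun h =>
  hg (hI.mem_norm_of_conj hz z1 z2 (hI.mem_of_mem_norm h (conj_mul_self z2)))

omit [Finite G] in
theorem exists_inv_not_mem (hM : normalizer (H : Set G) ≠ ⊤) :
    ∃ t : G, t ∉ normalizer (H : Set G) ∧ t * t = 1 := by
  obtain ⟨z, hz, z1, z2⟩ := hI.ex
  obtain ⟨g, hg⟩ : ∃ g, g ∉ normalizer (H : Set G) := by
    by_contra! h
    exact hM (eq_top_iff.2 fun g _ => h g)
  exact ⟨_, hI.conj_not_mem hz z1 z2 hg, conj_mul_self z2⟩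

/-- An element of `H` inverted by an involution outside `H` is trivial. -/
theorem eq_one_of_inverted {u c : G} (hu : u ∉ H) (u2 : u * u = 1) (hc : c ∈ H)
    (h : u * c * u⁻¹ = c⁻¹) : c = 1 := by
  obtain ⟨z, hz, z1, z2⟩ := hI.ex
  have h1 : z * u * c * (z * u)⁻¹ = c⁻¹ := by
    calc z * u * c * (z * u)⁻¹ = z * (u * c * u⁻¹) * z⁻¹ := by group
      _ = c⁻¹ := by rw [h, ← hI.comm hz z2 (H.inv_mem hc), mul_inv_cancel_right]
  have c2 := mul_self_eq_one_of_odd (hI.odd_orderOf_mul hz z1 z2 hu u2) h1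
  by_contra c1
  rw [inv_eq_of_mul_self c2] at h
  exact hu (hI.mem_of_comm hc c1 c2 (mul_inv_eq_iff_eq_mul.1 h))

/-- A coset of `H` other than `H` contains at most one involution. -/
theorem eq_of_inv_mul_mem {u v : G} (hu : u ∉ H) (u2 : u * u = 1) (v2 : v * v = 1)
    (h : u⁻¹ * v ∈ H) : u = v := by
  refine inv_mul_eq_one.1 (hI.eq_one_of_inverted hu u2 h ?_)
  rw [mul_inv_rev, inv_inv, inv_eq_of_mul_self v2, inv_eq_of_mul_self u2, ← mul_assoc, u2,
    one_mul]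

/-- Each coset of `H` outside `N(H)` contains an involution. -/
theorem exists_inv_mem_coset {g : G} (hg : g ∉ normalizer (H : Set G)) :
    ∃ h ∈ H, g * h * (g * h) = 1 := by
  obtain ⟨z, hz, z1, z2⟩ := hI.ex
  have key : ∀ x : G, x ∉ normalizer (H : Set G) →
      ((x : G ⧸ H).out : G) ∉ normalizer (H : Set G) := fun x hx e => by
    obtain ⟨h, hh⟩ := QuotientGroup.mk_out_eq_mul H x
    rw [hh] at e
    exact hx ((Subgroup.mul_mem_cancel_right _ (le_normalizer h.2)).1 e)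
  let f : {q : G ⧸ H // q.out ∉ normalizer (H : Set G)} →
      {q : G ⧸ H // q.out ∉ normalizer (H : Set G)} := fun q =>
    ⟨((q.1.out * z * q.1.out⁻¹ : G) : G ⧸ H), key _ (hI.conj_not_mem hz z1 z2 q.2)⟩
  have hf : Function.Injective f := by
    intro q r e
    have e1 : ((q.1.out * z * q.1.out⁻¹ : G) : G ⧸ H) = (r.1.out * z * r.1.out⁻¹ : G) :=
      congrArg Subtype.val e
    have e2 := hI.eq_of_inv_mul_mem (fun h => hI.conj_not_mem hz z1 z2 q.2 (le_normalizer h))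
      (conj_mul_self z2) (conj_mul_self z2) (QuotientGroup.eq.1 e1)
    refine Subtype.ext ?_
    rw [← q.1.out_eq', ← r.1.out_eq', QuotientGroup.eq]
    refine hI.mem_of_comm hz z1 z2 ?_
    calc q.1.out⁻¹ * r.1.out * z = q.1.out⁻¹ * (r.1.out * z * r.1.out⁻¹) * r.1.out := by group
      _ = _ := by rw [← e2]; group
  obtain ⟨q, hq⟩ := Finite.surjective_of_injective hf ⟨(g : G ⧸ H), key g hg⟩
  have e1 : ((q.1.out * z * q.1.out⁻¹ : G) : G ⧸ H) = (g : G ⧸ H) := congrArg Subtype.val hq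
  refine ⟨_, QuotientGroup.eq.1 e1.symm, ?_⟩
  rw [mul_inv_cancel_left]
  exact conj_mul_self z2

/-- For an involution `t` outside `N(H)`, each coset of `H` in `N(H)` has an element inverted
by `t`. -/
theorem exists_inverted {t m : G} (ht : t ∉ normalizer (H : Set G)) (t2 : t * t = 1)
    (hm : m ∈ normalizer (H : Set G)) : ∃ h ∈ H, t * (m * h) * t⁻¹ = (m * h)⁻¹ := by
  obtain ⟨h, hh, e⟩ := hI.exists_inv_mem_coset (g := t * m)
    (fun e => ht ((Subgroup.mul_mem_cancel_right _ hm).1 e))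
  refine ⟨h, hh, ?_⟩
  rw [inv_eq_of_mul_self t2, eq_inv_iff_mul_eq_one, ← e]
  group

/-- Any two involutions are conjugate when `H` is not normal. -/
theorem exists_conj_of_ne_top (hM : normalizer (H : Set G) ≠ ⊤) {s u : G} (hs : s ∈ H)
    (s1 : s ≠ 1) (s2 : s * s = 1) (u1 : u ≠ 1) (u2 : u * u = 1) : ∃ g : G, u = g * s * g⁻¹ := by
  by_cases hu : u ∈ H
  · obtain ⟨t, ht, t2⟩ := hI.exists_inv_not_mem hM
    obtain ⟨a, ha⟩ := hI.exists_conj hs s1 s2 (fun h => ht (le_normalizer h)) t2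
    obtain ⟨b, hb⟩ := hI.exists_conj hu u1 u2 (fun h => ht (le_normalizer h)) t2
    refine ⟨b⁻¹ * a, ?_⟩
    calc u = b⁻¹ * (b * u * b⁻¹) * b := by group
      _ = _ := by rw [← hb, ha]; group
  · exact hI.exists_conj hs s1 s2 hu u2

end HypI

end Cfsg.Agent.BSW
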