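import Mathlib
import Cfsg.Agent.Lib.BSW.Inv
import Cfsg.Agent.Lib.Frob.Complement

/-!
The Bruhat decomposition `G = M ∪ H t K H` for a CC-subgroup `H` which is the centralizer of
each of its involutions.
-/

set_option autoImplicit false

namespace Cfsg.Agent.BSW

open Subgroup

variable {G : Type*} [Group G]

/-- `K = M ∩ M^t` for `M = N(H)`. -/
def Kt (H : Subgroup G) (t : G) : Subgroup G :=
  normalizer (H : Set G) ⊓ (normalizer (H : Set G)).comap (MulAut.conj t).toMonoidHom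

theorem mem_Kt {H : Subgroup G} {t k : G} :
    k ∈ Kt H t ↔ k ∈ normalizer (H : Set G) ∧ t * k * t⁻¹ ∈ normalizer (H : Set G) := Iff.rfl

structure HypC (H : Subgroup G) (t : G) : Prop extends HypI H where
  cc : ∀ x ∈ H, x ≠ 1 → ∀ g : G, g * x = x * g → g ∈ H
  ne_norm : ∃ m ∈ normalizer (H : Set G), m ∉ H
  t_not_mem : t ∉ normalizer (H : Set G)
  t2 : t * t = 1

namespace HypC

variable {H : Subgroup G} {t : G} (hC : HypC H t)
include hC

theorem other {u : G} (hu : u ∉ normalizer (H : Set G)) (u2 : u * u = 1) : HypC H u :=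
  ⟨hC.toHypI, hC.cc, hC.ne_norm, hu, u2⟩

theorem t_inv : t⁻¹ = t := inv_eq_of_mul_self hC.t2

theorem norm_ne_top : normalizer (H : Set G) ≠ ⊤ := fun e => hC.t_not_mem (e ▸ mem_top _)

theorem ti {x g : G} (hx : x ∈ H) (x1 : x ≠ 1) (h : g * x * g⁻¹ ∈ H) :
    g ∈ normalizer (H : Set G) := by
  obtain ⟨z, hz, z1, z2⟩ := hC.ex
  refine hC.mem_norm_of_conj hz z1 z2 (hC.cc _ h (conj_ne_one x1) _ ?_)
  calc g * z * g⁻¹ * (g * x * g⁻¹) = g * (z * x) * g⁻¹ := by group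
    _ = _ := by rw [← hC.comm hz z2 hx]; group

theorem fpf {m : G} (hm : m ∉ H) : ∀ x ∈ H, m * x = x * m → x = 1 := fun x hx e => by
  by_contra x1
  exact hm (hC.cc x hx x1 m e)

variable [Finite G]

theorem ti' {x g : G} (hx : x ∈ H) (x1 : x ≠ 1) (h : g * x * g⁻¹ ∈ normalizer (H : Set G)) :
    g ∈ normalizer (H : Set G) := by
  obtain ⟨n, hp⟩ := Frob.exists_prime_orderOf_mem_zpowers x1
  have hyH : x ^ n ∈ H := pow_mem hx n
  have hyM : g * x ^ n * g⁻¹ ∈ normalizer (H : Set G) := by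
    rw [← conj_pow]
    exact pow_mem h n
  generalize x ^ n = y at hp hyH hyM
  have y1 : y ≠ 1 := by
    rintro rfl
    rw [orderOf_one] at hp
    exact Nat.not_prime_one hp
  by_cases h1 : g * y * g⁻¹ ∈ H
  · exact hC.ti hyH y1 h1
  exfalso
  have ho : orderOf (g * y * g⁻¹) = orderOf y :=
    (MulAut.conj g).orderOf_eq y
  have h2 := Frob.card_dvd_card_sub_one_of_fpf (K := H) (H := zpowers (g * y * g⁻¹))
    (zpowers_le.2 hyM) fun w hw w1 => hC.fpf fun hwH => h1 (by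
      have := Frob.zpowers_eq_of_prime_orderOf (ho ▸ hp) hw w1
      exact zpowers_le.2 hwH (this ▸ mem_zpowers _))
  rw [Nat.card_zpowers, ho] at h2
  have h3 : orderOf y ∣ Nat.card H := by
    rw [← Nat.card_zpowers]; exact card_dvd_of_le (zpowers_le.2 hyH)
  have h4 : 0 < Nat.card H := Nat.card_pos
  have := (Nat.dvd_sub_iff_right (by omega) h3).1 h2
  exact hp.one_lt.ne' (Nat.dvd_one.1 this)

theorem eq_one_of_mem_K {k : G} (hk : k ∈ Kt H t) (hH : k ∈ H) : k = 1 := by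
  by_contra k1
  exact hC.t_not_mem (hC.ti' hH k1 hk.2)

theorem fpf_K {k : G} (hk : k ∈ Kt H t) (k1 : k ≠ 1) : ∀ x ∈ H, k * x = x * k → x = 1 :=
  hC.fpf fun h => k1 (hC.eq_one_of_mem_K hk h)

theorem exists_inverted' {m : G} (hm : m ∈ normalizer (H : Set G)) :
    ∃ h ∈ H, m * h ∈ Kt H t ∧ t * (m * h) * t⁻¹ = (m * h)⁻¹ := by
  obtain ⟨h, hh, e⟩ := hC.exists_inverted hC.t_not_mem hC.t2 hm
  have := mul_mem hm (le_normalizer hh)
  exact ⟨h, hh, ⟨this, by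
    change t * (m * h) * t⁻¹ ∈ normalizer (H : Set G)
    rw [e]; exact inv_mem this⟩, e⟩

theorem t_conj {k : G} (hk : k ∈ Kt H t) : t * k * t⁻¹ = k⁻¹ := by
  obtain ⟨h, hh, h1, h2⟩ := hC.exists_inverted' hk.1
  obtain rfl := hC.eq_one_of_mem_K ((Subgroup.mul_mem_cancel_left _ hk).1 h1) hh
  simpa using h2

theorem t_mul {k : G} (hk : k ∈ Kt H t) : t * k = k⁻¹ * t := by
  rw [← hC.t_conj hk]; group

theorem mul_t {k : G} (hk : k ∈ Kt H t) : k * t = t * k⁻¹ := by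
  rw [hC.t_mul (inv_mem hk), inv_inv]

theorem decomp {m : G} (hm : m ∈ normalizer (H : Set G)) : ∃ k ∈ Kt H t, ∃ h ∈ H, m = k * h := by
  obtain ⟨h, hh, h1, -⟩ := hC.exists_inverted' hm
  exact ⟨_, h1, h⁻¹, inv_mem hh, by group⟩

theorem decomp' {m : G} (hm : m ∈ normalizer (H : Set G)) :
    ∃ h ∈ H, ∃ k ∈ Kt H t, m = h * k := by
  obtain ⟨k, hk, h, hh, e⟩ := hC.decomp (inv_mem hm)
  exact ⟨_, inv_mem hh, _, inv_mem hk, by rw [← mul_inv_rev, ← e, inv_inv]⟩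

theorem K_comm {a b : G} (ha : a ∈ Kt H t) (hb : b ∈ Kt H t) : a * b = b * a :=
  congrArg Subtype.val ((Frob.isMulCommutative_of_conj_eq_inv (K := Kt H t)
    fun _ hk => hC.t_conj hk).is_comm.comm ⟨a, ha⟩ ⟨b, hb⟩)

omit [Finite G] in
theorem K_conj_mem {k x : G} (hk : k ∈ Kt H t) (hx : x ∈ H) : k * x * k⁻¹ ∈ H :=
  Frob.conj_mem_of_mem_normalizer hk.1 hx

theorem eq_one_of_mul_self {k : G} (hk : k ∈ Kt H t) (h : k * k = 1) : k = 1 :=
  hC.eq_one_of_mem_K hk (hC.mem_of_mem_norm hk.1 h)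

theorem exists_sqrt {k : G} (hk : k ∈ Kt H t) : ∃ j ∈ Kt H t, j * j = k := by
  let f : Kt H t → Kt H t := fun j => j * j
  have hf : Function.Injective f := by
    intro a b e
    have e' : (a : G) * a = b * b := congrArg Subtype.val e
    refine Subtype.ext (inv_mul_eq_one.1 (hC.eq_one_of_mul_self (mul_mem (inv_mem a.2) b.2) ?_))
    calc (a : G)⁻¹ * b * ((a : G)⁻¹ * b) = (a : G)⁻¹ * (b * (a : G)⁻¹) * b := by group
      _ = (a : G)⁻¹ * (a : G)⁻¹ * (b * b) := by rw [hC.K_comm b.2 (inv_mem a.2)]; group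
      _ = 1 := by rw [← e']; group
  obtain ⟨j, hj⟩ := Finite.surjective_of_injective hf ⟨k, hk⟩
  exact ⟨j, j.2, congrArg Subtype.val hj⟩

theorem exists_K_ne_one : ∃ k ∈ Kt H t, k ≠ 1 := by
  obtain ⟨m, hm, hmH⟩ := hC.ne_norm
  obtain ⟨k, hk, h, hh, rfl⟩ := hC.decomp hm
  exact ⟨k, hk, by rintro rfl; exact hmH (by simpa using hh)⟩

/-- `K` is transitive on the involutions of `H`. -/
theorem exists_K_conj {s u : G} (hs : s ∈ H) (s1 : s ≠ 1) (s2 : s * s = 1) (hu : u ∈ H)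
    (u1 : u ≠ 1) (u2 : u * u = 1) : ∃ k ∈ Kt H t, k * s * k⁻¹ = u := by
  obtain ⟨g, rfl⟩ := hC.exists_conj_of_ne_top hC.norm_ne_top hs s1 s2 u1 u2
  obtain ⟨k, hk, h, hh, rfl⟩ := hC.decomp (hC.mem_norm_of_conj hs s1 s2 hu)
  refine ⟨k, hk, ?_⟩
  calc k * s * k⁻¹ = k * (h * s * h⁻¹) * k⁻¹ := by rw [hC.conj_eq hs s2 hh]
    _ = _ := by group

theorem mem_K_of_comm_of_mem_norm {k y : G} (hk : k ∈ Kt H t) (k1 : k ≠ 1)
    (hy : y ∈ normalizer (H : Set G)) (h : y * k = k * y) : y ∈ Kt H t := by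
  obtain ⟨j, hj, x, hx, rfl⟩ := hC.decomp hy
  obtain rfl : x = 1 := hC.fpf_K hk k1 x hx (by
    calc k * x = j⁻¹ * (k * (j * x)) := by rw [← mul_assoc k, hC.K_comm hk hj]; group
      _ = x * k := by rw [← h]; group)
  simpa using hj

/-- `K` is a CC-subgroup. -/
theorem mem_K_of_comm {k y : G} (hk : k ∈ Kt H t) (k1 : k ≠ 1) (h : y * k = k * y) :
    y ∈ Kt H t := by
  by_cases hy : y ∈ normalizer (H : Set G)
  · exact hC.mem_K_of_comm_of_mem_norm hk k1 hy h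
  exfalso
  obtain ⟨x, hx, u2⟩ := hC.exists_inv_mem_coset hy
  have hu : y * x ∉ normalizer (H : Set G) := fun e =>
    hy ((Subgroup.mul_mem_cancel_right _ (le_normalizer hx)).1 e)
  have e0 : (y * x)⁻¹ * k * (y * x) = x⁻¹ * k * x := by
    calc (y * x)⁻¹ * k * (y * x) = x⁻¹ * y⁻¹ * (k * y) * x := by group
      _ = _ := by rw [← h]; group
  have h1 : k ∈ Kt H (y * x) := ⟨hk.1, by
    change y * x * k * (y * x)⁻¹ ∈ normalizer (H : Set G)
    have := inv_eq_of_mul_self u2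
    rw [this] at e0 ⊢
    rw [e0]
    exact mul_mem (mul_mem (inv_mem (le_normalizer hx)) hk.1) (le_normalizer hx)⟩
  have h2 := (hC.other hu u2).t_conj h1
  have := inv_eq_of_mul_self u2
  rw [this] at e0 h2
  rw [e0] at h2
  refine k1 (hC.eq_one_of_mul_self hk (hC.eq_one_of_mem_K (mul_mem hk hk) ?_))
  have : (k * k)⁻¹ = x⁻¹ * (k * x * k⁻¹) := by
    rw [← mul_assoc, ← mul_assoc, h2, mul_inv_rev]
  rw [← inv_mem_iff, this]
  exact mul_mem (inv_mem hx) (hC.K_conj_mem hk hx)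

/-- Every involution outside `M` is `H`-conjugate to an element of `t K`. -/
theorem exists_inv_form {u : G} (hu : u ∉ normalizer (H : Set G)) (u2 : u * u = 1) :
    ∃ x ∈ H, ∃ k ∈ Kt H t, u = x * t * k * x⁻¹ := by
  obtain ⟨k, hk, k1⟩ := hC.exists_K_ne_one
  obtain ⟨x, hx, j, hj, e⟩ := (hC.other hu u2).decomp' hk.1
  obtain ⟨y, hy, e2⟩ := Frob.exists_conj_of_fpf hk.1 (hC.fpf_K hk k1) (inv_mem hx)
  rw [e, inv_mul_cancel_left, ← e] at e2
  have h1 := (hC.other hu u2).t_conj hj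
  have h2 := hC.t_conj hk
  refine ⟨y, hy, t⁻¹ * (y⁻¹ * u * y), hC.mem_K_of_comm hk k1 ?_, by group⟩
  calc t⁻¹ * (y⁻¹ * u * y) * k = t⁻¹ * y⁻¹ * (u * (y * k * y⁻¹) * u⁻¹) * u * y := by group
    _ = t⁻¹ * (y⁻¹ * (y * k * y⁻¹)⁻¹ * y) * y⁻¹ * u * y := by rw [e2, h1]; group
    _ = t⁻¹ * k⁻¹ * t * (t⁻¹ * (y⁻¹ * u * y)) := by group
    _ = _ := by rw [← h2]; group

theorem bruhat {g : G} (hg : g ∉ normalizer (H : Set G)) :
    ∃ x ∈ H, ∃ k ∈ Kt H t, ∃ y ∈ H, g = x * t * k * y := by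
  obtain ⟨h, hh, u2⟩ := hC.exists_inv_mem_coset hg
  obtain ⟨x, hx, k, hk, e⟩ := hC.exists_inv_form (fun e =>
    hg ((Subgroup.mul_mem_cancel_right _ (le_normalizer hh)).1 e)) u2
  exact ⟨x, hx, k, hk, x⁻¹ * h⁻¹, mul_mem (inv_mem hx) (inv_mem hh), by
    rw [← mul_assoc, ← e]; group⟩

omit [Finite G] in
theorem bruhat_not_mem {x k y : G} (hx : x ∈ H) (hk : k ∈ Kt H t) (hy : y ∈ H) :
    x * t * k * y ∉ normalizer (H : Set G) := fun e =>
  hC.t_not_mem ((Subgroup.mul_mem_cancel_left _ (le_normalizer hx)).1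
    ((Subgroup.mul_mem_cancel_right _ hk.1).1
      ((Subgroup.mul_mem_cancel_right _ (le_normalizer hy)).1 e)))

theorem decomp_unique {k y k' y' : G} (hk : k ∈ Kt H t) (hy : y ∈ H) (hk' : k' ∈ Kt H t)
    (hy' : y' ∈ H) (e : k * y = k' * y') : k = k' ∧ y = y' := by
  have : k'⁻¹ * k = 1 := hC.eq_one_of_mem_K (mul_mem (inv_mem hk') hk) (by
    rw [show k'⁻¹ * k = k'⁻¹ * (k * y) * y⁻¹ by group, e, inv_mul_cancel_left]
    exact mul_mem hy' (inv_mem hy))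
  obtain rfl := inv_mul_eq_one.1 this
  exact ⟨rfl, mul_left_cancel e⟩

theorem bruhat_unique {x k y x' k' y' : G} (hx : x ∈ H) (hk : k ∈ Kt H t) (hy : y ∈ H)
    (hx' : x' ∈ H) (hk' : k' ∈ Kt H t) (hy' : y' ∈ H) (e : x * t * k * y = x' * t * k' * y') :
    x = x' ∧ k = k' ∧ y = y' := by
  have h1 : x'⁻¹ * x = 1 := by
    by_contra h
    refine hC.t_not_mem ((inv_mem_iff).1 (hC.ti' (mul_mem (inv_mem hx') hx) h ?_))
    rw [show t⁻¹ * (x'⁻¹ * x) * t⁻¹⁻¹ = t⁻¹ * x'⁻¹ * (x * t * k * y) * y⁻¹ * k⁻¹ by group, e,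
      show t⁻¹ * x'⁻¹ * (x' * t * k' * y') * y⁻¹ * k⁻¹ = k' * y' * y⁻¹ * k⁻¹ by group]
    exact mul_mem (mul_mem (mul_mem hk'.1 (le_normalizer hy')) (inv_mem (le_normalizer hy)))
      (inv_mem hk.1)
  obtain rfl := inv_mul_eq_one.1 h1
  rw [mul_assoc, mul_assoc (x' * t)] at e
  exact ⟨rfl, hC.decomp_unique hk hy hk' hy' (mul_left_cancel e)⟩

theorem t_conj_not_mem {x : G} (hx : x ∈ H) (x1 : x ≠ 1) :
    t * x * t ∉ normalizer (H : Set G) := fun e =>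
  hC.t_not_mem (hC.ti' hx x1 (by rwa [hC.t_inv]))

theorem card_norm : Nat.card (normalizer (H : Set G)) = Nat.card (Kt H t) * Nat.card H := by
  rw [← Nat.card_prod]
  symm
  refine Nat.card_eq_of_bijective (fun p => ⟨p.1 * p.2, mul_mem p.1.2.1 (le_normalizer p.2.2)⟩)
    ⟨fun p q e => ?_, fun m => ?_⟩
  · obtain ⟨h1, h2⟩ := hC.decomp_unique p.1.2 p.2.2 q.1.2 q.2.2 (congrArg Subtype.val e)
    exact Prod.ext (Subtype.ext h1) (Subtype.ext h2)
  · obtain ⟨k, hk, h, hh, e⟩ := hC.decomp m.2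
    exact ⟨(⟨k, hk⟩, ⟨h, hh⟩), Subtype.ext e.symm⟩

theorem card_eq : Nat.card G = Nat.card (Kt H t) * Nat.card H * (1 + Nat.card H) := by
  classical
  have h1 : Nat.card {g : G // g ∉ normalizer (H : Set G)} =
      Nat.card H * (Nat.card (Kt H t) * Nat.card H) := by
    rw [← Nat.card_prod, ← Nat.card_prod]
    symm
    refine Nat.card_eq_of_bijective (fun p => ⟨p.1 * t * p.2.1 * p.2.2,
      hC.bruhat_not_mem p.1.2 p.2.1.2 p.2.2.2⟩) ⟨fun p q e => ?_, fun m => ?_⟩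
    · obtain ⟨h1, h2, h3⟩ := hC.bruhat_unique p.1.2 p.2.1.2 p.2.2.2 q.1.2 q.2.1.2 q.2.2.2
        (congrArg Subtype.val e)
      exact Prod.ext (Subtype.ext h1) (Prod.ext (Subtype.ext h2) (Subtype.ext h3))
    · obtain ⟨x, hx, k, hk, h, hh, e⟩ := hC.bruhat m.2
      exact ⟨(⟨x, hx⟩, ⟨k, hk⟩, ⟨h, hh⟩), Subtype.ext e.symm⟩
  rw [← Nat.card_congr (Equiv.sumCompl (· ∈ normalizer (H : Set G))), Nat.card_sum, h1]
  erw [hC.card_norm]
  ring

theorem index_norm : (normalizer (H : Set G)).index = 1 + Nat.card H := by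
  have h1 := (normalizer (H : Set G)).card_mul_index
  rw [hC.card_norm, hC.card_eq] at h1
  exact Nat.eq_of_mul_eq_mul_left (Nat.mul_pos Nat.card_pos Nat.card_pos) h1

end HypC

end Cfsg.Agent.BSW
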