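import Mathlib
import Cfsg.Agent.Lib.BSW.Bruhat

/-!
Coordinates: the involutions of `H` together with `1` form a field of characteristic two whose
multiplicative group is `K`.
-/

set_option autoImplicit false

namespace Cfsg.Agent.BSW

open Subgroup

universe u

variable {G : Type u} [Group G]

structure Frame (H : Subgroup G) (t : G) {F : Type*} [Field F] (a k : F → G) : Prop where
  a_add : ∀ c d, a (c + d) = a c * a d
  a_inj : Function.Injective a
  a_mem : ∀ c, a c ∈ H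
  a_sq : ∀ c, a c * a c = 1
  a_surj : ∀ x ∈ H, x * x = 1 → ∃ c, a c = x
  k_mem : ∀ c, k c ∈ Kt H t
  k_surj : ∀ j ∈ Kt H t, ∃ c, c ≠ 0 ∧ k c = j
  k_conj : ∀ c, c ≠ 0 → ∀ d, k c * a d * (k c)⁻¹ = a (c * d)

theorem HypC.K_eq_of_conj_eq [Finite G] {H : Subgroup G} {t : G} (hC : HypC H t) {s i j : G}
    (hs : s ∈ H) (s1 : s ≠ 1) (hi : i ∈ Kt H t) (hj : j ∈ Kt H t)
    (e : i * s * i⁻¹ = j * s * j⁻¹) : i = j := by
  by_contra h
  refine s1 (hC.fpf_K (mul_mem (inv_mem hj) hi) (fun e => h (inv_mul_eq_one.1 e).symm) s hs ?_)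
  calc j⁻¹ * i * s = j⁻¹ * (i * s * i⁻¹) * i := by group
    _ = _ := by rw [e]; group

theorem HypC.exists_frame_aux [Finite G] {H : Subgroup G} {t : G} (hC : HypC H t) {s : G}
    (hs : s ∈ H) (s1 : s ≠ 1) (s2 : s * s = 1) :
    ∃ (F : Type u) (_ : Field F) (a k : F → G), Frame H t a k ∧ a 1 = s := by
  classical
  let Z := {x : G // x ∈ H ∧ x * x = 1}
  have hκ : ∀ x : Z, ∃ j ∈ Kt H t, x.1 ≠ 1 → j * s * j⁻¹ = x.1 := fun x => by
    by_cases x1 : x.1 = 1
    · exact ⟨1, one_mem _, fun h => (h x1).elim⟩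
    · obtain ⟨j, hj, e⟩ := hC.exists_K_conj hs s1 s2 x.2.1 x1 x.2.2
      exact ⟨j, hj, fun _ => e⟩
  choose κ κK κs using hκ
  let cj : Kt H t → Z → Z := fun j y => ⟨j * y * (j : G)⁻¹, hC.K_conj_mem j.2 y.2.1,
    conj_mul_self y.2.2⟩
  let _ : Add Z := ⟨fun x y => ⟨x * y, mul_mem x.2.1 y.2.1, by
    calc (x : G) * y * (x * y) = x * (y * x) * y := by group
      _ = x * x * (y * y) := by rw [hC.comm x.2.1 x.2.2 y.2.1]; group
      _ = 1 := by rw [x.2.2, y.2.2, mul_one]⟩⟩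
  let _ : Zero Z := ⟨⟨1, one_mem _, mul_one _⟩⟩
  let _ : One Z := ⟨⟨s, hs, s2⟩⟩
  let _ : Neg Z := ⟨fun x => x⟩
  let _ : Mul Z := ⟨fun x y => if x = 0 then 0 else cj ⟨κ x, κK x⟩ y⟩
  let _ : Inv Z := ⟨fun x => if x = 0 then 0 else cj ⟨κ x, κK x⟩⁻¹ 1⟩
  have add_val : ∀ x y : Z, ((x + y : Z) : G) = x * y := fun _ _ => rfl
  have zero_val : ((0 : Z) : G) = 1 := rfl
  have one_val : ((1 : Z) : G) = s := rfl
  have cj_val : ∀ j y, (cj j y : G) = j * y * (j : G)⁻¹ := fun _ _ => rfl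
  have zero_mul' : ∀ y : Z, 0 * y = 0 := fun y => if_pos rfl
  have cj_ne : ∀ j, cj j 1 ≠ 0 := fun j e => conj_ne_one s1 (congrArg Subtype.val e)
  have hκ : ∀ j, κ (cj j 1) = j := fun j =>
    hC.K_eq_of_conj_eq hs s1 (κK _) j.2 (κs _ fun e => cj_ne j (Subtype.ext e))
  have cj_mul : ∀ j y, cj j 1 * y = cj j y := fun j y =>
    (if_neg (cj_ne j)).trans (by congr 1; exact Subtype.ext (hκ j))
  have cj_inv : ∀ j, (cj j 1)⁻¹ = cj j⁻¹ 1 := fun j =>
    (if_neg (cj_ne j)).trans (by congr 2; exact Subtype.ext (hκ j))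
  have cj_cj : ∀ i j y, cj i (cj j y) = cj (i * j) y := fun i j y => Subtype.ext (by
    simp only [cj_val, coe_mul]; group)
  have cj_zero : ∀ j, cj j 0 = 0 := fun j => Subtype.ext (by rw [cj_val, zero_val]; group)
  have cj_one : ∀ y, cj 1 y = y := fun y => Subtype.ext (by simp [cj_val])
  have cases' : ∀ x : Z, x = 0 ∨ ∃ j, x = cj j 1 := fun x => by
    by_cases x0 : x = 0
    · exact Or.inl x0
    · exact Or.inr ⟨⟨κ x, κK x⟩, Subtype.ext (κs x fun e => x0 (Subtype.ext e)).symm⟩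
  have mul_zero' : ∀ x : Z, x * 0 = 0 := fun x => by
    rcases cases' x with rfl | ⟨j, rfl⟩
    · exact zero_mul' _
    · rw [cj_mul, cj_zero]
  let fld : Field Z := Field.ofMinimalAxioms Z
    (fun x y z => Subtype.ext (mul_assoc _ _ _))
    (fun x => Subtype.ext (one_mul _))
    (fun x => Subtype.ext x.2.2)
    (fun x y z => by
      rcases cases' x with rfl | ⟨i, rfl⟩
      · rw [zero_mul', zero_mul', zero_mul']
      rcases cases' y with rfl | ⟨j, rfl⟩
      · rw [mul_zero', zero_mul', mul_zero']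
      rw [cj_mul, cj_mul, cj_mul, cj_cj, cj_mul, cj_cj])
    (fun x y => by
      rcases cases' x with rfl | ⟨i, rfl⟩
      · rw [zero_mul', mul_zero']
      rcases cases' y with rfl | ⟨j, rfl⟩
      · rw [mul_zero', zero_mul']
      rw [cj_mul, cj_mul, cj_cj, cj_cj]
      congr 1
      exact Subtype.ext (hC.K_comm i.2 j.2))
    (fun x => by
      have := cj_mul 1 x
      rwa [cj_one, cj_one] at this)
    (fun x hx => by
      rcases cases' x with rfl | ⟨i, rfl⟩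
      · exact (hx rfl).elim
      rw [cj_inv, cj_mul, cj_cj, mul_inv_cancel, cj_one])
    (if_pos rfl)
    (fun x y z => by
      rcases cases' x with rfl | ⟨i, rfl⟩
      · rw [zero_mul', zero_mul', zero_mul']
        exact Subtype.ext (mul_one _).symm
      rw [cj_mul, cj_mul, cj_mul]
      exact Subtype.ext (by simp only [add_val, cj_val]; group))
    ⟨0, 1, fun e => s1 (congrArg Subtype.val e).symm⟩
  refine ⟨Z, fld, Subtype.val, κ, ⟨fun _ _ => rfl, Subtype.val_injective, fun c => c.2.1,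
    fun c => c.2.2, fun x hx x2 => ⟨⟨x, hx, x2⟩, rfl⟩, κK, fun j hj =>
      ⟨cj ⟨j, hj⟩ 1, cj_ne _, hκ _⟩, fun c hc d => ?_⟩, rfl⟩
  have : c * d = cj ⟨κ c, κK c⟩ d := if_neg hc
  exact (congrArg Subtype.val this).symm

namespace Frame

variable {H : Subgroup G} {t : G} {F : Type*} [Field F] {a k : F → G} (fr : Frame H t a k)
include fr

theorem a_zero : a 0 = 1 := by
  have := fr.a_add 0 0
  rw [add_zero] at this
  exact left_eq_mul.1 this

theorem a_eq_one_iff {c : F} : a c = 1 ↔ c = 0 := by rw [← fr.a_zero, fr.a_inj.eq_iff]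

theorem a_ne_one {c : F} (hc : c ≠ 0) : a c ≠ 1 := fr.a_eq_one_iff.not.2 hc

theorem a_inv (c : F) : (a c)⁻¹ = a c := inv_eq_of_mul_self (fr.a_sq c)

theorem charP : CharP F 2 := by
  have : (2 : F) = 0 := by
    rw [← fr.a_eq_one_iff, ← one_add_one_eq_two, fr.a_add, fr.a_sq]
  exact CharTwo.of_one_ne_zero_of_two_eq_zero one_ne_zero this

theorem finite [Finite G] : Finite F := Finite.of_injective a fr.a_inj

theorem comp {E : Type*} [Field E] (e : E ≃+* F) : Frame H t (a ∘ e) (k ∘ e) where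
  a_add c d := by simp [fr.a_add]
  a_inj := fr.a_inj.comp e.injective
  a_mem c := fr.a_mem _
  a_sq c := fr.a_sq _
  a_surj x hx x2 := by
    obtain ⟨c, rfl⟩ := fr.a_surj x hx x2
    exact ⟨e.symm c, by simp⟩
  k_mem c := fr.k_mem _
  k_surj j hj := by
    obtain ⟨c, hc, rfl⟩ := fr.k_surj j hj
    exact ⟨e.symm c, by simpa using hc, by simp⟩
  k_conj c hc d := by simpa using fr.k_conj (e c) (by simpa using hc) (e d)

variable [Finite G] (hC : HypC H t)
include hC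

theorem k_eq {c : F} (hc : c ≠ 0) {j : G} (hj : j ∈ Kt H t) (e : j * a 1 * j⁻¹ = a c) :
    k c = j :=
  hC.K_eq_of_conj_eq (fr.a_mem 1) (fr.a_ne_one one_ne_zero) (fr.k_mem c) hj
    (by rw [fr.k_conj c hc, mul_one, e])

theorem k_mul {c d : F} (hc : c ≠ 0) (hd : d ≠ 0) : k (c * d) = k c * k d :=
  fr.k_eq hC (mul_ne_zero hc hd) (mul_mem (fr.k_mem c) (fr.k_mem d)) (by
    rw [← fr.k_conj c hc, ← mul_one d, ← fr.k_conj d hd, mul_one d]; group)

theorem k_one : k 1 = 1 := fr.k_eq hC one_ne_zero (one_mem _) (by group)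

theorem k_inv {c : F} (hc : c ≠ 0) : k c⁻¹ = (k c)⁻¹ := by
  rw [eq_inv_iff_mul_eq_one, ← fr.k_mul hC (inv_ne_zero hc) hc, inv_mul_cancel₀ hc, fr.k_one hC]

omit [Finite G] hC in
theorem k_inj {c d : F} (hc : c ≠ 0) (hd : d ≠ 0) (e : k c = k d) : c = d := by
  have := fr.k_conj c hc 1
  rw [e, fr.k_conj d hd] at this
  simpa using (fr.a_inj this).symm

theorem k_ne_one {c : F} (hc : c ≠ 0) (c1 : c ≠ 1) : k c ≠ 1 := fun e =>
  c1 (fr.k_inj hc one_ne_zero (e.trans (fr.k_one hC).symm))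

omit [Finite G] hC in
theorem k_mul_a {c : F} (hc : c ≠ 0) (d : F) : k c * a d = a (c * d) * k c := by
  rw [← fr.k_conj c hc]; group

theorem t_mul_k {c : F} (hc : c ≠ 0) : t * k c = k c⁻¹ * t := by
  rw [hC.t_mul (fr.k_mem c), fr.k_inv hC hc]

theorem k_mul_t {c : F} (hc : c ≠ 0) : k c * t = t * k c⁻¹ := by
  rw [hC.mul_t (fr.k_mem c), fr.k_inv hC hc]

omit hC in
theorem card_K : Nat.card (Kt H t) = Nat.card F - 1 := by
  have := fr.finite
  rw [← Nat.card_units]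
  symm
  refine Nat.card_eq_of_bijective (fun c => ⟨k c, fr.k_mem _⟩) ⟨fun c d e => ?_, fun j => ?_⟩
  · exact Units.ext (fr.k_inj c.ne_zero d.ne_zero (congrArg Subtype.val e))
  · obtain ⟨c, hc, e⟩ := fr.k_surj j j.2
    exact ⟨Units.mk0 c hc, Subtype.ext e⟩

theorem exists_ne : ∃ l : F, l ≠ 0 ∧ l ≠ 1 := by
  obtain ⟨j, hj, j1⟩ := hC.exists_K_ne_one
  obtain ⟨c, hc, rfl⟩ := fr.k_surj j hj
  exact ⟨c, hc, by rintro rfl; exact j1 (fr.k_one hC)⟩

end Frame

/-- The structure equation, and coordinates in a Galois field. -/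
theorem HypC.exists_frame [Finite G] {H : Subgroup G} {t : G} (hC : HypC H t) :
    ∃ n : ℕ, 2 ≤ n ∧ ∃ a k : GaloisField 2 n → G, Frame H t a k ∧
      ∃ r ∈ H, t * a 1 * t = r * t * r⁻¹ := by
  obtain ⟨z, hz, z1, z2⟩ := hC.ex
  obtain ⟨x, hx, k, hk, e⟩ := hC.exists_inv_form (hC.t_conj_not_mem hz z1) (by
    have := conj_mul_self (g := t) z2
    rwa [hC.t_inv] at this)
  obtain ⟨j, hj, rfl⟩ := hC.exists_sqrt hk
  obtain ⟨F, _, a, k, fr, h1⟩ := hC.exists_frame_aux (hC.K_conj_mem (inv_mem hj) hz)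
    (conj_ne_one z1) (conj_mul_self z2)
  have := fr.finite
  have := fr.charP
  have := Fintype.ofFinite F
  obtain ⟨n, -, hn⟩ := FiniteField.card F 2
  have := Fintype.ofFinite (GaloisField 2 n)
  let φ : GaloisField 2 n ≃+* F := FiniteField.ringEquivOfCardEq (by
    rw [hn, ← Nat.card_eq_fintype_card, GaloisField.card 2 n n.ne_zero])
  refine ⟨n, ?_, a ∘ φ, k ∘ φ, fr.comp φ, j * x * j⁻¹, hC.K_conj_mem hj hx, ?_⟩
  · obtain ⟨l, l0, l1⟩ := fr.exists_ne hC
    have h3 : 2 < Fintype.card F := Fintype.two_lt_card_iff.2 ⟨l, 0, 1, l0, l1, zero_ne_one⟩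
    by_contra h
    have : (n : ℕ) = 1 := by have := n.pos; omega
    rw [hn, this] at h3
    omega
  · simp only [Function.comp, map_one, h1]
    calc t * (j⁻¹ * z * j⁻¹⁻¹) * t = (t * j⁻¹) * z * (j * t) := by group
      _ = j * (t * z * t) * j⁻¹ := by rw [hC.mul_t hj]; nth_rw 1 [← hC.mul_t hj]; group
      _ = j * x * (t * j) * j * x⁻¹ * j⁻¹ := by rw [e]; group
      _ = _ := by rw [hC.t_mul hj]; group

end Cfsg.Agent.BSW
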