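import Mathlib
import Cfsg.Agent.Lib.BSW.Frame

/-!
The structure equation: if elements of `H` commute with their `K`-conjugates then
`(t * a 1) ^ 3 = 1`.
-/

set_option autoImplicit false

namespace Cfsg.Agent.BSW

open Subgroup

theorem vanish {F V : Type*} [Field F] [CharP F 2] [AddCommGroup V] (v : F → V)
    (T : F → V →+ V) (hT : ∀ e c, e ≠ 0 → c ≠ 0 → T e (v c) = v (e * c))
    (fpf : ∀ e, e ≠ 0 → e ≠ 1 → ∀ y, T e y = y → y = 0)
    (R : ∀ l, l ≠ 0 → l ≠ 1 → -v 1 + v (l / (1 + l)) = T (l ^ 2)⁻¹ (-v 1 + v (1 + l)⁻¹))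
    {l : F} (l0 : l ≠ 0) (l1 : l ≠ 1) : v 1 = 0 := by
  have h2 : (2 : F) = 0 := CharTwo.two_eq_zero
  have n0 : ∀ l : F, l ≠ 1 → 1 + l ≠ 0 := fun l h e => h (by linear_combination e - h2)
  have n1 : ∀ l : F, l ≠ 0 → 1 + l ≠ 1 := fun l h e => h (by linear_combination e)
  have y1 : ∀ l c, l ≠ 0 → l ≠ 1 → c ≠ 0 →
      v (c * l ^ 2) + v (c * l) + v c - v (c * l * (1 + l)) - v (c * (1 + l)) = 0 := by
    intro l c l0 l1 c0
    have m0 := n0 l l1
    refine fpf l l0 l1 _ ?_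
    have h := congrArg (T (c * l ^ 2 * (1 + l))) (R l l0 l1)
    simp only [map_add, map_neg, map_sub] at h ⊢
    rw [hT _ _ (by positivity) one_ne_zero, hT _ _ (by positivity) (by positivity),
      hT _ _ (by positivity) one_ne_zero, hT _ _ (by positivity) (by simp [l0]),
      hT _ _ (by positivity) (by positivity), hT _ _ (by positivity) (by positivity),
      show c * l ^ 2 * (1 + l) * 1 = l * (c * l * (1 + l)) by ring,
      show c * l ^ 2 * (1 + l) * (l / (1 + l)) = l * (c * l ^ 2) by field_simp,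
      show c * l ^ 2 * (1 + l) * ((l ^ 2)⁻¹ * 1) = c * (1 + l) by field_simp,
      show c * l ^ 2 * (1 + l) * ((l ^ 2)⁻¹ * (1 + l)⁻¹) = c by field_simp] at h
    rw [hT _ _ l0 (by positivity), hT _ _ l0 (by positivity), hT _ _ l0 (by positivity),
      hT _ _ l0 (by positivity), hT _ _ l0 (by positivity),
      show l * (c * l) = c * l ^ 2 by ring, show l * c = c * l by ring,
      show l * (c * (1 + l)) = c * l * (1 + l) by ring]
    linear_combination (norm := abel1) h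
  have y2 : ∀ l c, l ≠ 0 → l ≠ 1 → c ≠ 0 → v (c * l) + v (c * (1 + l)) + 2 • v c = 0 := by
    intro l c l0 l1 c0
    have m0 := n0 l l1
    refine fpf (l / (1 + l)) (by positivity) (fun e => by
      rw [div_eq_one_iff_eq m0] at e
      exact one_ne_zero (by linear_combination -e : (1 : F) = 0)) _ ?_
    have a := y1 l (c / (1 + l)) l0 l1 (by positivity)
    have b := y1 (1 + l) (c / (1 + l)) m0 (n1 l l0) (by positivity)
    rw [show 1 + (1 + l) = l by linear_combination h2,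
      show c / (1 + l) * (1 + l) ^ 2 = c * (1 + l) by field_simp,
      show c / (1 + l) * (1 + l) = c by field_simp] at b
    rw [show c / (1 + l) * (1 + l) = c by field_simp,
      show c / (1 + l) * l * (1 + l) = c * l by field_simp] at a
    simp only [map_add, map_nsmul]
    rw [hT _ _ (by positivity) (by positivity), hT _ _ (by positivity) (by positivity),
      hT _ _ (by positivity) (by positivity),
      show l / (1 + l) * (c * l) = c / (1 + l) * l ^ 2 by field_simp,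
      show l / (1 + l) * (c * (1 + l)) = c * l by field_simp,
      show l / (1 + l) * c = c / (1 + l) * l by field_simp]
    linear_combination (norm := abel1) a - b
  have m0 := n0 l l1
  have y3 : ∀ c, c ≠ 0 → 2 • v (c * l ^ 2) + 4 • v (c * l) + 3 • v c = 0 := by
    intro c c0
    have a := y1 l c l0 l1 c0
    have b := y2 l (c * l) l0 l1 (by positivity)
    have d := y2 l c l0 l1 c0
    rw [show c * l * l = c * l ^ 2 by ring] at b
    linear_combination (norm := abel1) a + b + d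
  have y4 : ∀ c, c ≠ 0 → 3 • v c = 0 := by
    intro c c0
    have a := y2 (l ^ 2) c (by positivity) (fun e => l1 (by
      have : (1 + l) ^ 2 = 0 := by linear_combination e + (1 + l) * h2
      exact absurd (pow_eq_zero_iff two_ne_zero |>.1 this) m0)) c0
    have b := y2 l (c * (1 + l)) l0 l1 (by positivity)
    have d := y2 l (c * l) l0 l1 (by positivity)
    have e := y2 l c l0 l1 c0
    rw [show c * l * l = c * l ^ 2 by ring] at d
    rw [show c * (1 + l) * (1 + l) = c * (1 + l ^ 2) by linear_combination c * l * h2,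
      show c * (1 + l) * l = c * l * (1 + l) by ring] at b
    linear_combination (norm := abel1) a - b + d + 2 • e - y3 c c0
  refine fpf l l0 l1 _ ?_
  have a := y3 l⁻¹ (by positivity)
  have b := y4 l⁻¹ (by positivity)
  rw [show l⁻¹ * l ^ 2 = l by field_simp, show l⁻¹ * l = 1 by field_simp] at a
  rw [hT _ _ l0 one_ne_zero, mul_one]
  linear_combination (norm := abel1) -a + b + y4 l l0 + y4 1 one_ne_zero

universe u

variable {G : Type u} [Group G] [Finite G] {H : Subgroup G} {t : G} {F : Type*} [Field F]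
  {a k : F → G}

namespace Frame

variable (fr : Frame H t a k) (hC : HypC H t) {r : G}
include fr hC

theorem str_conj (e : t * a 1 * t = r * t * r⁻¹) {c : F} (hc : c ≠ 0) :
    t * a c⁻¹ * t = k c * r * (k c)⁻¹ * t * (k c * k c)⁻¹ * (k c * r * (k c)⁻¹)⁻¹ := by
  have h1 := fr.k_conj c⁻¹ (inv_ne_zero hc) 1
  rw [mul_one, fr.k_inv hC hc] at h1
  have h2 := hC.mul_t (fr.k_mem c)
  have h3 := hC.t_mul (fr.k_mem c)
  calc t * a c⁻¹ * t = (t * (k c)⁻¹) * a 1 * (k c * t) := by rw [← h1]; group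
    _ = k c * (t * a 1 * t) * (k c)⁻¹ := by rw [h2]; nth_rw 1 [← h2]; group
    _ = k c * r * (k c)⁻¹ * (k c * t) * r⁻¹ * (k c)⁻¹ := by rw [e]; group
    _ = _ := by rw [h2]; group

theorem str_lead (e : t * a 1 * t = r * t * r⁻¹) {d : F} (d0 : d ≠ 0) (d1 : 1 + d⁻¹ ≠ 0) :
    t * (r⁻¹ * (k d * r * (k d)⁻¹)) * t = r⁻¹ * (k (1 + d⁻¹)⁻¹ * r * (k (1 + d⁻¹)⁻¹)⁻¹) * t *
      (k (1 + d⁻¹)⁻¹ * k (1 + d⁻¹)⁻¹)⁻¹ * (k (1 + d⁻¹)⁻¹ * r * (k (1 + d⁻¹)⁻¹)⁻¹)⁻¹ *
        (k d * r * (k d)⁻¹) * (k d * k d) := by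
  have h1 := fr.str_conj hC e d0
  have h2 := fr.str_conj hC e (inv_ne_zero d1)
  rw [inv_inv, fr.a_add] at h2
  have h3 : t * (a 1 * a d⁻¹) * t = (t * a 1 * t) * (t * a d⁻¹ * t) := by
    rw [show (t * a 1 * t) * (t * a d⁻¹ * t) = t * a 1 * (t * t) * a d⁻¹ * t by group, hC.t2]
    group
  rw [h3, e, h1] at h2
  generalize k (1 + d⁻¹)⁻¹ = j at h2 ⊢
  calc _ = r⁻¹ * (r * t * r⁻¹ * (k d * r * (k d)⁻¹ * t * (k d * k d)⁻¹ *
        (k d * r * (k d)⁻¹)⁻¹)) * (k d * r * (k d)⁻¹) * (k d * k d) := by group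
    _ = _ := by rw [h2]; group

theorem str_rel (hr : r ∈ H) (e : t * a 1 * t = r * t * r⁻¹)
    (hc : ∀ j ∈ Kt H t, r * (j * r * j⁻¹) = j * r * j⁻¹ * r) {l : F} (l0 : l ≠ 0)
    (l1 : 1 + l ≠ 0) :
    r⁻¹ * (k (l / (1 + l)) * r * (k (l / (1 + l)))⁻¹) =
      a l⁻¹ * (k (l ^ 2)⁻¹ * (r⁻¹ * (k (1 + l)⁻¹ * r * (k (1 + l)⁻¹)⁻¹)) * (k (l ^ 2)⁻¹)⁻¹) := by
  have h1 := fr.str_lead hC e l0 (fun h => l1 (by field_simp at h; linear_combination h))
  have h2 := fr.str_lead hC e (inv_ne_zero l0) (by rwa [inv_inv])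
  rw [show (1 + l⁻¹)⁻¹ = l / (1 + l) by
    rw [show 1 + l⁻¹ = (1 + l) / l by field_simp; ring, inv_div]] at h1
  rw [inv_inv] at h2
  have h3 := fr.str_conj hC e l0
  have hk2 : k (l ^ 2)⁻¹ = (k l * k l)⁻¹ := by
    rw [fr.k_inv hC (pow_ne_zero 2 l0), sq, fr.k_mul hC l0 l0]
  have h4 : t * (k l * r * (k l)⁻¹) * t = a l⁻¹ * t * (k l * r * (k l)⁻¹) * (k l * k l) := by
    calc _ = t * (k l * r * (k l)⁻¹ * t * (k l * k l)⁻¹ * (k l * r * (k l)⁻¹)⁻¹) *
          (k l * r * (k l)⁻¹) * (k l * k l) := by group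
      _ = t * t * a l⁻¹ * t * (k l * r * (k l)⁻¹) * (k l * k l) := by rw [← h3]; group
      _ = _ := by rw [hC.t2, one_mul]
  have h5 : t * r⁻¹ * t = r⁻¹ * t * a 1 := by
    calc _ = r⁻¹ * (r * t * r⁻¹) * t := by group
      _ = r⁻¹ * t * a 1 * (t * t) := by rw [← e]; group
      _ = _ := by rw [hC.t2, mul_one]
  have hc' : ∀ j ∈ Kt H t, r⁻¹ * (j * r * j⁻¹) = j * r * j⁻¹ * r⁻¹ := fun j hj =>
    (Commute.inv_left (hc j hj)).eq
  have h6 : t * (r⁻¹ * (k l * r * (k l)⁻¹)) * t =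
      a l⁻¹ * (k l * k l)⁻¹ * (t * (r⁻¹ * (k l⁻¹ * r * (k l⁻¹)⁻¹)) * t) * a 1 := by
    rw [hc' _ (fr.k_mem l), hc' _ (fr.k_mem l⁻¹), fr.k_inv hC l0]
    calc _ = t * (k l * r * (k l)⁻¹) * (t * t) * r⁻¹ * t := by rw [hC.t2]; group
      _ = (t * (k l * r * (k l)⁻¹) * t) * (t * r⁻¹ * t) := by group
      _ = a l⁻¹ * (t * (k l * k l)) * ((k l)⁻¹ * r * k l * r⁻¹) * t * a 1 := by
        rw [h4, h5]; group
      _ = _ := by rw [hC.t_mul (mul_mem (fr.k_mem l) (fr.k_mem l))]; group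
  rw [h1, h2] at h6
  rw [hk2]
  have hi := fr.k_mem (l / (1 + l))
  have hj := fr.k_mem (1 + l)⁻¹
  have hl := fr.k_mem l
  have hl' := fr.k_mem l⁻¹
  generalize k (l / (1 + l)) = i at h6 hi ⊢
  generalize k (1 + l)⁻¹ = j at h6 hj ⊢
  generalize k l⁻¹ = m' at h6 hl'
  generalize k l = m at h6 hl ⊢
  have hm : ∀ c ∈ Kt H t, c * r * c⁻¹ ∈ H := fun c hc => hC.K_conj_mem hc hr
  have hmm := mul_mem hl hl
  have hmm' := mul_mem hl' hl'
  refine (hC.bruhat_unique (k := (i * i)⁻¹ * (m * m))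
    (y := (m * m)⁻¹ * ((i * r * i⁻¹)⁻¹ * (m * r * m⁻¹)) * (m * m)⁻¹⁻¹)
    (k' := (m * m) * (j * j)⁻¹ * (m' * m'))
    (y' := (m' * m')⁻¹ * ((j * r * j⁻¹)⁻¹ * (m' * r * m'⁻¹)) * (m' * m')⁻¹⁻¹ * a 1)
    (mul_mem (inv_mem hr) (hm _ hi)) (mul_mem (inv_mem (mul_mem hi hi)) hmm)
    (hC.K_conj_mem (inv_mem hmm) (mul_mem (inv_mem (hm _ hi)) (hm _ hl)))
    (mul_mem (fr.a_mem _) (hC.K_conj_mem (inv_mem hmm) (mul_mem (inv_mem hr) (hm _ hj))))
    (mul_mem (mul_mem hmm (inv_mem (mul_mem hj hj))) hmm')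
    (mul_mem (hC.K_conj_mem (inv_mem hmm') (mul_mem (inv_mem (hm _ hj)) (hm _ hl')))
      (fr.a_mem _)) ?_).1
  calc _ = r⁻¹ * (i * r * i⁻¹) * t * (i * i)⁻¹ * (i * r * i⁻¹)⁻¹ * (m * r * m⁻¹) * (m * m) := by
        group
    _ = a l⁻¹ * ((m * m)⁻¹ * (r⁻¹ * (j * r * j⁻¹)) * (m * m)⁻¹⁻¹) * ((m * m)⁻¹ * t) *
        (j * j)⁻¹ * (j * r * j⁻¹)⁻¹ * (m' * r * m'⁻¹) * (m' * m') * a 1 := by rw [h6]; group
    _ = _ := by rw [← hC.t_mul hmm]; group

theorem str_sq (hr : r ∈ H) (e : t * a 1 * t = r * t * r⁻¹)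
    (hc : ∀ j ∈ Kt H t, r * (j * r * j⁻¹) = j * r * j⁻¹ * r) : r * r = 1 := by
  have := fr.charP
  let S : Set G := {x | ∃ j ∈ Kt H t, x = j * r * j⁻¹}
  have hS : ∀ x ∈ S, ∀ y ∈ S, x * y = y * x := by
    rintro _ ⟨i, hi, rfl⟩ _ ⟨j, hj, rfl⟩
    have := hc (i⁻¹ * j) (mul_mem (inv_mem hi) hj)
    calc _ = i * (r * (i⁻¹ * j * r * (i⁻¹ * j)⁻¹)) * i⁻¹ := by group
      _ = _ := by rw [this]; group
  let A := closure S
  have := isMulCommutative_closure hS
  let _ : CommGroup A := { (inferInstance : Group A) with mul_comm := this.is_comm.comm }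
  have hA : A ≤ H := (closure_le H).2 (by rintro _ ⟨j, hj, rfl⟩; exact hC.K_conj_mem hj hr)
  have hinv : ∀ j ∈ Kt H t, ∀ x ∈ A, j * x * j⁻¹ ∈ A := fun j hj x hx => by
    have : A ≤ A.comap (MulAut.conj j).toMonoidHom := (closure_le _).2 (by
      rintro _ ⟨i, hi, rfl⟩
      exact subset_closure ⟨j * i, mul_mem hj hi, by simp [mul_assoc]⟩)
    exact this hx
  let T : F → Additive A →+ Additive A := fun c => MonoidHom.toAdditive
    (((MulAut.conj (k c)).toMonoidHom.comp A.subtype).codRestrict A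
      fun x => hinv _ (fr.k_mem c) x x.2)
  have T_val : ∀ c x, ((Additive.toMul (T c x) : A) : G) =
      k c * (Additive.toMul x : A) * (k c)⁻¹ := fun _ _ => rfl
  let P : F → Additive A := fun c => Additive.ofMul
    ⟨k c * r * (k c)⁻¹, subset_closure ⟨_, fr.k_mem c, rfl⟩⟩
  have P_val : ∀ c, ((Additive.toMul (P c) : A) : G) = k c * r * (k c)⁻¹ := fun _ => rfl
  have ext : ∀ x y : Additive A, ((Additive.toMul x : A) : G) = (Additive.toMul y : A) → x = y :=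
    fun x y h => Additive.toMul.injective (Subtype.ext h)
  obtain ⟨l, l0, l1⟩ := fr.exists_ne hC
  have key := vanish (fun c => 2 • P c) T (fun e c e0 c0 => by
    rw [map_nsmul]
    congr 1
    refine ext _ _ ?_
    rw [T_val, P_val, P_val, fr.k_mul hC e0 c0]
    group) (fun e e0 e1 y hy => ext _ _ (hC.fpf_K (fr.k_mem e) (fr.k_ne_one hC e0 e1) _
      (hA (Additive.toMul y).2) (mul_inv_eq_iff_eq_mul.1 (by rw [← T_val, hy]))))
    (fun l l0 l1 => by
      have m0 : 1 + l ≠ 0 := fun e => l1 (by linear_combination e - CharTwo.two_eq_zero (R := F))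
      have h := fr.str_rel hC hr e hc l0 m0
      have h1 : 2 • (-P 1 + P (l / (1 + l))) = 2 • T (l ^ 2)⁻¹ (-P 1 + P (1 + l)⁻¹) := by
        refine ext _ _ ?_
        simp only [toMul_nsmul, toMul_add, toMul_neg, coe_pow, coe_mul, coe_inv, T_val, P_val,
          fr.k_one hC, one_mul, inv_one, mul_one]
        rw [h]
        have hy := hC.K_conj_mem (fr.k_mem (l ^ 2)⁻¹) (mul_mem (inv_mem hr)
          (hC.K_conj_mem (fr.k_mem (1 + l)⁻¹) hr))
        generalize k (l ^ 2)⁻¹ * (r⁻¹ * (k (1 + l)⁻¹ * r * (k (1 + l)⁻¹)⁻¹)) * (k (l ^ 2)⁻¹)⁻¹ = y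
          at hy
        have h2 := hC.comm (fr.a_mem l⁻¹) (fr.a_sq _) hy
        calc (a l⁻¹ * y) ^ 2 = a l⁻¹ * (y * a l⁻¹) * y := by rw [sq]; group
          _ = a l⁻¹ * a l⁻¹ * y ^ 2 := by rw [h2, sq]; group
          _ = _ := by rw [fr.a_sq, one_mul]
      rw [← map_nsmul] at h1
      simpa only [smul_add, smul_neg] using h1) l0 l1
  have := congrArg (fun x => ((Additive.toMul x : A) : G)) key
  simpa [P_val, fr.k_one hC, sq] using this

theorem str_eq (hr : r ∈ H) (e : t * a 1 * t = r * t * r⁻¹)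
    (hc : ∀ j ∈ Kt H t, r * (j * r * j⁻¹) = j * r * j⁻¹ * r) :
    t * a 1 * t = a 1 * t * a 1 := by
  obtain ⟨c, rfl⟩ := fr.a_surj r hr (fr.str_sq hC hr e hc)
  rw [fr.a_inv] at e
  have h1 : t * a c * t = a 1 * t * a c := by
    calc _ = a 1 * a 1 * (t * a c * t) := by rw [fr.a_sq, one_mul]
      _ = a 1 * (t * t) * a 1 * t * a c * t := by rw [hC.t2]; group
      _ = a 1 * t * (t * a 1 * t) * a c * t := by group
      _ = a 1 * t * a c * t * (a c * a c) * t := by rw [e]; group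
      _ = a 1 * t * a c * (t * t) := by rw [fr.a_sq]; group
      _ = _ := by rw [hC.t2, mul_one]
  have h2 : a 1 * t * 1 * a c = a c * t * 1 * a 1 := by
    have := congrArg (·⁻¹) h1
    simp only [mul_inv_rev, fr.a_inv, hC.t_inv, ← mul_assoc] at this
    rw [mul_one, mul_one, ← h1, this]
  rw [e, ← (hC.bruhat_unique (fr.a_mem _) (one_mem _) (fr.a_mem _) (fr.a_mem _) (one_mem _)
    (fr.a_mem _) h2).1]

/-- The basic relation of `SL(2)`. -/
theorem str_sl (e : t * a 1 * t = a 1 * t * a 1) {c : F} (hc : c ≠ 0) :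
    t * a c * t = a c⁻¹ * t * k (c ^ 2) * a c⁻¹ := by
  have h := fr.str_conj hC (r := a 1) (by rw [e, fr.a_inv]) (inv_ne_zero hc)
  rw [inv_inv, fr.k_conj _ (inv_ne_zero hc), mul_one, fr.a_inv, fr.k_inv hC hc, ← mul_inv_rev,
    inv_inv, ← fr.k_mul hC hc hc, ← sq] at h
  exact h

end Frame

end Cfsg.Agent.BSW
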