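import Mathlib
import Cfsg.Agent.Lib.BSW.Struct
import Cfsg.Agent.Lib.Lin.SL2

/-!
The embedding of `SL(2, F)` given by a frame satisfying the basic relation.
-/

set_option autoImplicit false

namespace Cfsg.Agent.BSW

open Subgroup
open scoped MatrixGroups

universe u

variable {G : Type u} [Group G] {H : Subgroup G} {t : G} {F : Type*} [Field F] {a k : F → G}

open Classical in
/-- The element of `G` attached to the matrix with entries `α, β, γ, δ`. -/
noncomputable def fe (t : G) (a k : F → G) (α β γ δ : F) : G :=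
  if γ = 0 then a (α * β) * k (α ^ 2) else a (α / γ) * t * k (γ ^ 2) * a (δ / γ)

theorem fe_zero (α β δ : F) : fe t a k α β 0 δ = a (α * β) * k (α ^ 2) := if_pos rfl

theorem fe_ne (α β δ : F) {γ : F} (h : γ ≠ 0) :
    fe t a k α β γ δ = a (α / γ) * t * k (γ ^ 2) * a (δ / γ) := if_neg h

variable [Finite G]

namespace Frame

variable (fr : Frame H t a k) (hC : HypC H t)
include fr

omit [Finite G] in
theorem fe_u {α β γ δ : F} (h : α * δ - β * γ = 1) (c : F) :
    fe t a k (α + c * γ) (β + c * δ) γ δ = a c * fe t a k α β γ δ := by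
  by_cases h0 : γ = 0
  · subst h0
    rw [fe_zero, fe_zero, ← mul_assoc, ← fr.a_add, mul_zero, add_zero]
    congr 2
    linear_combination c * h
  · rw [fe_ne _ _ _ h0, fe_ne _ _ _ h0, ← mul_assoc, ← mul_assoc, ← mul_assoc, ← fr.a_add]
    congr 4
    field_simp
    ring

include hC

theorem fe_d {α β γ δ : F} (h : α * δ - β * γ = 1) {c : F} (hc : c ≠ 0) :
    fe t a k (c * α) (c * β) (c⁻¹ * γ) (c⁻¹ * δ) = k (c ^ 2) * fe t a k α β γ δ := by
  have c2 := pow_ne_zero 2 hc
  by_cases h0 : γ = 0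
  · subst h0
    have : α ≠ 0 := by rintro rfl; simp at h
    rw [mul_zero, fe_zero, fe_zero, ← mul_assoc (k _), fr.k_mul_a c2, mul_assoc (a _),
      ← fr.k_mul hC c2 (pow_ne_zero 2 this)]
    congr 2 <;> ring
  · rw [fe_ne _ _ _ h0, fe_ne _ _ _ (mul_ne_zero (inv_ne_zero hc) h0), ← mul_assoc (k _),
      ← mul_assoc (k _), ← mul_assoc (k _), fr.k_mul_a c2, mul_assoc (a _) (k _) t,
      fr.k_mul_t hC c2, ← mul_assoc, mul_assoc _ (k _) (k _),
      ← fr.k_mul hC (inv_ne_zero c2) (pow_ne_zero 2 h0)]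
    rw [show c * α / (c⁻¹ * γ) = c ^ 2 * (α / γ) by field_simp,
      show (c⁻¹ * γ) ^ 2 = (c ^ 2)⁻¹ * γ ^ 2 by field_simp,
      show c⁻¹ * δ / (c⁻¹ * γ) = δ / γ by field_simp]

variable (e : t * a 1 * t = a 1 * t * a 1)
include e

theorem fe_w {α β γ δ : F} (h : α * δ - β * γ = 1) :
    fe t a k γ δ α β = t * fe t a k α β γ δ := by
  have := fr.charP
  have h2 : (2 : F) = 0 := CharTwo.two_eq_zero
  by_cases h0 : γ = 0
  · subst h0
    have h1 : α ≠ 0 := by rintro rfl; simp at h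
    rw [fe_zero, fe_ne _ _ _ h1, zero_div, fr.a_zero, one_mul, mul_assoc,
      fr.k_mul_a (pow_ne_zero 2 h1)]
    congr 3
    field_simp
  by_cases h1 : α = 0
  · subst h1
    rw [fe_zero, fe_ne _ _ _ h0, zero_div, fr.a_zero, one_mul, ← mul_assoc, ← mul_assoc, hC.t2,
      one_mul, fr.k_mul_a (pow_ne_zero 2 h0)]
    congr 2
    field_simp
  have h3 : a (α / γ)⁻¹ * k (γ ^ 2) = k (γ ^ 2) * a (α * γ)⁻¹ := by
    rw [fr.k_mul_a (pow_ne_zero 2 h0)]
    congr 2
    field_simp
  rw [fe_ne _ _ _ h0, fe_ne _ _ _ h1, ← mul_assoc t, ← mul_assoc t, ← mul_assoc t,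
    fr.str_sl hC e (div_ne_zero h1 h0), mul_assoc _ (a _) (k _), h3, ← mul_assoc,
    mul_assoc _ (k _) (k _), ← fr.k_mul hC (pow_ne_zero 2 (div_ne_zero h1 h0)) (pow_ne_zero 2 h0),
    mul_assoc _ (a _) (a _), ← fr.a_add, inv_div]
  congr 2
  · congr 1
    field_simp
  · field_simp
    linear_combination -h - h2

theorem fe_mul {p q r s α β γ δ : F} (h' : p * s - q * r = 1) (h : α * δ - β * γ = 1) :
    fe t a k (p * α + q * γ) (p * β + q * δ) (r * α + s * γ) (r * β + s * δ) =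
      fe t a k p q r s * fe t a k α β γ δ := by
  have := fr.charP
  have h2 : (2 : F) = 0 := CharTwo.two_eq_zero
  by_cases h0 : r = 0
  · subst h0
    have h1 : p ≠ 0 := by rintro rfl; simp at h'
    obtain rfl : s = p⁻¹ := eq_inv_of_mul_eq_one_right (by linear_combination h')
    rw [fe_zero, mul_assoc, ← fr.fe_d hC h h1, ← fr.fe_u (by field_simp; linear_combination h)]
    congr 1
    · field_simp
    · field_simp
    · ring
    · ring
  · rw [fe_ne _ _ _ h0, mul_assoc, ← fr.fe_u h, mul_assoc,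
      ← fr.fe_d hC (by linear_combination h) h0, mul_assoc,
      ← fr.fe_w hC e (by field_simp; linear_combination r * h),
      ← fr.fe_u (by field_simp; linear_combination -r * h - r * h2)]
    congr 1
    · field_simp
      linear_combination -γ * h' - γ * h2
    · field_simp
      linear_combination -δ * h' - δ * h2
    · field_simp
    · field_simp

/-- The homomorphism `SL(2, F) → G`. -/
noncomputable def phi : SL(2, F) →* G :=
  MonoidHom.mk' (fun g => fe t a k (g.1 0 0) (g.1 0 1) (g.1 1 0) (g.1 1 1)) fun x g => by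
    have hx := x.det_coe
    have hg := g.det_coe
    rw [Matrix.det_fin_two] at hx hg
    simp only [Matrix.SpecialLinearGroup.coe_mul, Matrix.mul_apply, Fin.sum_univ_two]
    exact fr.fe_mul hC e hx hg

theorem phi_apply (g : SL(2, F)) :
    fr.phi hC e g = fe t a k (g.1 0 0) (g.1 0 1) (g.1 1 0) (g.1 1 1) := rfl

theorem phi_mk {α β γ δ : F} (h : Matrix.det !![α, β; γ, δ] = 1) :
    fr.phi hC e ⟨!![α, β; γ, δ], h⟩ = fe t a k α β γ δ := rfl

theorem phi_injective : Function.Injective (fr.phi hC e) := by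
  have := fr.charP
  rw [injective_iff_map_eq_one]
  intro g hg
  have hd := g.det_coe
  rw [Matrix.det_fin_two] at hd
  rw [phi_apply] at hg
  by_cases h0 : g.1 1 0 = 0
  · rw [h0, fe_zero] at hg
    rw [h0] at hd
    have h1 : g.1 0 0 ≠ 0 := fun h => by simp [h] at hd
    have h2 := hC.eq_one_of_mem_K (fr.k_mem (g.1 0 0 ^ 2)) (by
      rw [eq_inv_of_mul_eq_one_right hg]; exact inv_mem (fr.a_mem _))
    rw [h2, mul_one, fr.a_eq_one_iff] at hg
    have h3 := fr.k_inj (pow_ne_zero 2 h1) one_ne_zero (h2.trans (fr.k_one hC).symm)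
    have h4 : g.1 0 0 = 1 := by simpa [CharTwo.neg_eq] using h3
    ext i j
    fin_cases i <;> fin_cases j <;> simp_all
  · rw [fe_ne _ _ _ h0] at hg
    exact (hC.bruhat_not_mem (fr.a_mem _) (fr.k_mem _) (fr.a_mem _) (hg ▸ one_mem _)).elim

theorem a_mem_range (c : F) : a c ∈ (fr.phi hC e).range :=
  ⟨⟨!![1, c; 0, 1], by simp⟩, (fr.phi_mk hC e _).trans (by simp [fe_zero, fr.k_one hC])⟩

theorem t_mem_range : t ∈ (fr.phi hC e).range := by
  have := fr.charP
  exact ⟨⟨!![0, 1; 1, 0], by simp [CharTwo.neg_eq]⟩, (fr.phi_mk hC e _).trans (by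
    simp [fe_ne _ _ _ one_ne_zero, fr.k_one hC, fr.a_zero])⟩

theorem K_le_range : Kt H t ≤ (fr.phi hC e).range := fun j hj => by
  have := fr.charP
  have := fr.finite
  obtain ⟨c, hc, rfl⟩ := fr.k_surj j hj
  obtain ⟨d, rfl⟩ := FiniteField.isSquare_of_char_two (ringChar.eq F 2) c
  have : d ≠ 0 := by rintro rfl; simp at hc
  exact ⟨⟨!![d, 0; 0, d⁻¹], by simp [this]⟩, 
    (fr.phi_mk hC e _).trans (by simp [fe_zero, fr.a_zero, sq])⟩

/-- Bruhat form of the elements of the image outside `M`. -/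
theorem form_of_mem_range {g : G} (hg : g ∈ (fr.phi hC e).range)
    (hM : g ∉ normalizer (H : Set G)) : ∃ c, ∃ j ∈ Kt H t, ∃ d, g = a c * t * j * a d := by
  obtain ⟨x, rfl⟩ := hg
  rw [phi_apply] at hM ⊢
  by_cases h0 : x.1 1 0 = 0
  · rw [h0, fe_zero] at hM
    exact (hM (mul_mem (le_normalizer (fr.a_mem _)) (fr.k_mem _).1)).elim
  · exact ⟨_, _, fr.k_mem _, _, fe_ne _ _ _ h0⟩

theorem phi_surjective (hH : ∀ x ∈ H, x * x = 1) : Function.Surjective (fr.phi hC e) := by
  have h1 : H ≤ (fr.phi hC e).range := fun x hx => by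
    obtain ⟨c, rfl⟩ := fr.a_surj x hx (hH x hx)
    exact fr.a_mem_range hC e c
  intro g
  by_cases hg : g ∈ normalizer (H : Set G)
  · obtain ⟨j, hj, x, hx, rfl⟩ := hC.decomp hg
    exact mul_mem (fr.K_le_range hC e hj) (h1 hx)
  · obtain ⟨x, hx, j, hj, y, hy, rfl⟩ := hC.bruhat hg
    exact mul_mem (mul_mem (mul_mem (h1 hx) (fr.t_mem_range hC e)) (fr.K_le_range hC e hj)) (h1 hy)

theorem nonempty_equiv (hH : ∀ x ∈ H, x * x = 1) :
    Nonempty (G ≃* Matrix.ProjectiveSpecialLinearGroup (Fin 2) F) := by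
  have := fr.charP
  have h : center SL(2, F) = ⊥ := eq_bot_iff.2 fun x hx => Lin.SL2.eq_one_of_mem_center hx
  exact ⟨((MulEquiv.ofBijective _ ⟨fr.phi_injective hC e, fr.phi_surjective hC e hH⟩).symm.trans
    QuotientGroup.quotientBot.symm).trans (QuotientGroup.quotientMulEquivOfEq h.symm)⟩

end Frame

end Cfsg.Agent.BSW
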