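import Mathlib
import Cfsg.Agent.Lib.BSW.Bruhat
import Cfsg.Agent.Lib.OO.BasicH

/-!
The case `3 ∣ |K|`, and the centralizers of strongly real elements of odd order.
-/

set_option autoImplicit false

namespace Cfsg.Agent.BSW

open Subgroup

variable {G : Type*} [Group G] [Finite G] {H : Subgroup G} {t : G}

namespace HypC

variable (hC : HypC H t)
include hC

theorem three_form {κ y : G} (hκ : κ ∈ Kt H t) (h : (t * κ * y) ^ 3 = 1) :
    t * y * t = κ * y⁻¹ * κ⁻¹ * t * κ⁻¹ * (κ * y⁻¹ * κ⁻¹) := by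
  have h1 : t * κ * y * (t * κ * y) * (t * κ * y) = 1 := by rw [← h, pow_three']
  nth_rw 1 [hC.t_mul hκ] at h1
  calc t * y * t = κ * (κ⁻¹ * t * y * (t * κ * y) * (t * κ * y)) * y⁻¹ * κ⁻¹ * t⁻¹ * y⁻¹ * κ⁻¹ := by
        group
    _ = _ := by rw [h1, hC.t_inv]; group

theorem exists_three {ω : G} (hω : ω ∈ Kt H t) (ω1 : ω ≠ 1) (ω3 : ω ^ 3 = 1) {y : G}
    (hy : y ∈ H) (y1 : y ≠ 1) : ∃ κ ∈ Kt H t, (t * κ * y) ^ 3 = 1 := by
  have h1 : ∀ e : {e : G // e ∈ H ∧ e ≠ 1}, ∃ x ∈ H, ∃ κ ∈ Kt H t, ∃ y ∈ H,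
      t * e * t * ω * (t * e * t)⁻¹ = x * t * κ * y := fun e => hC.bruhat fun h => by
    have h2 : e * ω⁻¹ * (e : G)⁻¹ ∈ Kt H t := mem_Kt.2 ⟨mul_mem (mul_mem (le_normalizer e.2.1)
      (inv_mem (mem_Kt.1 hω).1)) (inv_mem (le_normalizer e.2.1)), by
      rw [← hC.t_conj hω]
      convert h using 1
      group⟩
    have h3 := hC.eq_one_of_mem_K (mul_mem hω h2) (by
      rw [show ω * (e * ω⁻¹ * (e : G)⁻¹) = ω * e * ω⁻¹ * (e : G)⁻¹ by group]
      exact mul_mem (hC.K_conj_mem hω e.2.1) (inv_mem e.2.1))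
    refine e.2.2 (hC.fpf_K hω ω1 _ e.2.1 ?_)
    calc ω * e = ω * (e * ω⁻¹ * (e : G)⁻¹) * e * ω := by group
      _ = _ := by rw [h3, one_mul]
  choose x hx κ hκ z hz h using h1
  have h2 : ∀ e, t * κ e * (z e * x e) = (x e)⁻¹ * (t * e * t) * ω * ((x e)⁻¹ * (t * e * t))⁻¹ :=
    fun e => by
      calc _ = (x e)⁻¹ * (x e * t * κ e * z e) * x e := by group
        _ = _ := by rw [← h]; group
  have h3 : ∀ e, (t * κ e * (z e * x e)) ^ 3 = 1 := fun e => by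
    rw [h2, conj_pow, ω3]; group
  let f : {e : G // e ∈ H ∧ e ≠ 1} → {e : G // e ∈ H ∧ e ≠ 1} := fun e =>
    ⟨z e * x e, mul_mem (hz e) (hx e), fun h => by
      have h4 := h3 e
      rw [h, mul_one, pow_three] at h4
      nth_rw 3 [hC.t_mul (hκ e)] at h4
      rw [mul_assoc t (κ e) (_ * t), mul_inv_cancel_left, hC.t2, mul_one] at h4
      exact hC.t_not_mem (by rw [eq_inv_of_mul_eq_one_left h4]; exact inv_mem (hκ e).1)⟩
  have hf : Function.Injective f := by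
    intro e e' he
    have he : z e * x e = z e' * x e' := congrArg Subtype.val he
    have hy := inv_mem (mul_mem (hz e') (hx e'))
    have h4 := hC.three_form (hκ e) (h3 e)
    rw [he, hC.three_form (hκ e') (h3 e')] at h4
    have h5 := inv_injective (hC.bruhat_unique (hC.K_conj_mem (hκ e') hy) (inv_mem (hκ e'))
      (hC.K_conj_mem (hκ e') hy) (hC.K_conj_mem (hκ e) hy) (inv_mem (hκ e))
      (hC.K_conj_mem (hκ e) hy) h4).2.1
    have h6 := h2 e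
    rw [he, ← h5, h2 e'] at h6
    have h7 : ((x e')⁻¹ * (t * e' * t))⁻¹ * ((x e)⁻¹ * (t * e * t)) ∈ Kt H t :=
      hC.mem_K_of_comm hω ω1 (by
        generalize (x e')⁻¹ * (t * e' * t) = A at h6
        generalize (x e)⁻¹ * (t * e * t) = B at h6
        calc A⁻¹ * B * ω = A⁻¹ * (B * ω * B⁻¹) * B := by group
          _ = _ := by rw [← h6]; group)
    generalize hj : ((x e')⁻¹ * (t * e' * t))⁻¹ * ((x e)⁻¹ * (t * e * t)) = j at h7
    have h8 : (x e)⁻¹ * t * 1 * e = (x e')⁻¹ * t * j⁻¹ * (j * e' * j⁻¹) := by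
      calc _ = (x e')⁻¹ * t * e' * (t * j) * t⁻¹ := by rw [← hj]; group
        _ = _ := by rw [hC.t_mul h7]; group
    obtain ⟨-, h9, h10⟩ := hC.bruhat_unique (inv_mem (hx e)) (one_mem _) e.2.1 (inv_mem (hx e'))
      (inv_mem h7) (hC.K_conj_mem h7 e'.2.1) h8
    rw [← h9, inv_eq_one.1 h9.symm] at h10
    exact Subtype.ext (by simpa using h10)
  obtain ⟨e, he⟩ := Finite.surjective_of_injective hf ⟨y, hy, y1⟩
  obtain rfl : z e * x e = y := congrArg Subtype.val he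
  exact ⟨κ e, hκ e, h3 e⟩

theorem odd_of_three {ω : G} (hω : ω ∈ Kt H t) (ω1 : ω ≠ 1) (ω3 : ω ^ 3 = 1) {y : G}
    (hy : y ∈ H) (y2 : y * y ≠ 1) : Odd (orderOf y) := by
  obtain ⟨i, hi, h1⟩ := hC.exists_three hω ω1 ω3 hy (by rintro rfl; simp at y2)
  obtain ⟨j, hj, h2⟩ := hC.exists_three hω ω1 ω3 (mul_mem hy hy) y2
  have h3 := hC.three_form hi h1
  have h4 := hC.three_form hj h2
  have hY := hC.K_conj_mem hj (inv_mem (mul_mem hy hy))
  have hy' := hC.K_conj_mem hi (inv_mem hy)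
  have h5 : t * (y * y) * t = i * y⁻¹ * i⁻¹ * (t * (y * y) * t)⁻¹ * (i * y⁻¹ * i⁻¹) := by
    calc _ = t * y * (t * t) * y * t := by rw [hC.t2]; group
      _ = (t * y * t) * (t * y * t) := by group
      _ = i * y⁻¹ * i⁻¹ * t * y⁻¹ * y⁻¹ * (i⁻¹ * t) * y⁻¹ * i⁻¹ := by rw [h3]; group
      _ = i * y⁻¹ * i⁻¹ * t * y⁻¹ * y⁻¹ * t * (i * y⁻¹ * i⁻¹) := by rw [← hC.t_mul hi]; group
      _ = _ := by simp only [mul_inv_rev, hC.t_inv, mul_assoc]
  rw [h4] at h5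
  have h6 : j * (y * y)⁻¹ * j⁻¹ = i * y⁻¹ * i⁻¹ * (j * (y * y)⁻¹ * j⁻¹)⁻¹ := by
    generalize j * (y * y)⁻¹ * j⁻¹ = Y at h5 hY
    refine (hC.bruhat_unique hY (inv_mem hj) hY (mul_mem hy' (inv_mem hY)) (inv_mem hj)
      (mul_mem (inv_mem hY) hy') (h5.trans ?_)).1
    calc _ = i * y⁻¹ * i⁻¹ * Y⁻¹ * (j * t⁻¹) * Y⁻¹ * (i * y⁻¹ * i⁻¹) := by group
      _ = _ := by rw [hC.t_inv, hC.mul_t hj]; group
  have h7 : y = (i⁻¹ * j) * y ^ 4 * (i⁻¹ * j)⁻¹ := by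
    calc y = i⁻¹ * (j * (y * y) * j⁻¹) * (i * y⁻¹ * i⁻¹ * (j * (y * y)⁻¹ * j⁻¹)⁻¹)⁻¹ * i := by
          group
      _ = _ := by
          rw [← h6, show y ^ 4 = y * y * (y * y) by rw [← sq, ← sq, ← pow_mul]]
          simp only [mul_inv_rev, inv_inv, mul_assoc, inv_mul_cancel_left]
  rw [← Nat.not_even_iff_odd]
  rintro ⟨m, hm⟩
  have h8 : y ^ m = 1 := by
    rw [h7, conj_pow, ← pow_mul, show 4 * m = (m + m) * 2 by ring, pow_mul, ← hm,
      pow_orderOf_eq_one]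
    group
  have := orderOf_pos y
  exact pow_ne_one_of_lt_orderOf (by omega) (by omega) h8

/-- If `3` divides `|K|` then `H` is elementary abelian. -/
theorem mul_self_of_three {ω : G} (hω : ω ∈ Kt H t) (ω1 : ω ≠ 1) (ω3 : ω ^ 3 = 1) {y : G}
    (hy : y ∈ H) : y * y = 1 := by
  by_contra y2
  obtain ⟨z, hz, z1, z2⟩ := hC.ex
  have hc : Commute y z := hC.comm hz z2 hy
  have h1 := hC.odd_of_three hω ω1 ω3 hy y2
  have h2 := hC.odd_of_three hω ω1 ω3 (mul_mem hy hz) (by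
    rwa [mul_assoc, ← mul_assoc z, ← hc.eq, mul_assoc, z2, mul_one])
  obtain ⟨m, hm⟩ := h1.mul h2
  have h3 : (y * z) ^ (orderOf y * orderOf (y * z)) = 1 := by
    rw [mul_comm, pow_mul, pow_orderOf_eq_one, one_pow]
  rw [hc.mul_pow, pow_mul, pow_orderOf_eq_one, one_pow, one_mul, hm, pow_succ, pow_mul, sq, z2,
    one_pow, one_mul] at h3
  exact z1 h3

omit [Finite G] in
theorem not_conj_mem {s γ : G} (s2 : s * s = 1) (h : s * γ * s⁻¹ = γ⁻¹) (γ2 : γ * γ ≠ 1)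
    (g : G) : g * γ * g⁻¹ ∉ H := fun hx => by
  have h1 : g * s * g⁻¹ * (g * γ * g⁻¹) * (g * s * g⁻¹)⁻¹ = (g * γ * g⁻¹)⁻¹ := by
    calc _ = g * (s * γ * s⁻¹) * g⁻¹ := by group
      _ = _ := by rw [h]; group
  have h2 := hC.mem_of_mem_norm (hC.ti hx (conj_ne_one (by rintro rfl; simp at γ2))
    (h1 ▸ inv_mem hx)) (conj_mul_self s2)
  rw [← hC.comm h2 (conj_mul_self s2) hx, mul_inv_cancel_right, eq_inv_iff_mul_eq_one] at h1
  refine γ2 ?_
  calc γ * γ = g⁻¹ * (g * γ * g⁻¹ * (g * γ * g⁻¹)) * g := by group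
    _ = 1 := by rw [h1]; group

section
variable {γ : G} (hγ : ∀ g : G, g * γ * g⁻¹ ∉ H)
include hγ

omit [Finite G] in
theorem nc_of_mem {f : G} (hf : f ∈ centralizer ({γ} : Set G)) (f1 : f ≠ 1) (g : G) :
    g * f * g⁻¹ ∉ H := fun h => hγ g (hC.cc _ h (conj_ne_one f1) _ (by
  calc g * γ * g⁻¹ * (g * f * g⁻¹) = g * (γ * f) * g⁻¹ := by group
    _ = _ := by rw [← mem_centralizer_singleton_iff.1 hf]; group))

theorem fpf_cent {u : G} (u1 : u ≠ 1) (u2 : u * u = 1) :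
    ∀ f ∈ centralizer ({γ} : Set G), u * f = f * u → f = 1 := fun f hf e => by
  by_contra f1
  obtain ⟨z, hz, z1, z2⟩ := hC.ex
  obtain ⟨g, rfl⟩ := hC.exists_conj_of_ne_top hC.norm_ne_top hz z1 z2 u1 u2
  refine hC.nc_of_mem hγ hf f1 g⁻¹ (hC.mem_of_comm hz z1 z2 ?_)
  calc g⁻¹ * f * g⁻¹⁻¹ * z = g⁻¹ * (f * (g * z * g⁻¹)) * g := by group
    _ = _ := by rw [← e]; group

theorem inv_cent {u : G} (u1 : u ≠ 1) (u2 : u * u = 1)
    (hu : u ∈ normalizer (centralizer ({γ} : Set G) : Set G)) {f : G}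
    (hf : f ∈ centralizer ({γ} : Set G)) : u * f * u⁻¹ = f⁻¹ :=
  Frob.conj_eq_inv_of_fpf u2 hu (hC.fpf_cent hγ u1 u2) hf

end

end HypC

omit [Finite G] in
theorem mem_norm_cent_of_inv {s γ : G} (h : s * γ * s⁻¹ = γ⁻¹) :
    s ∈ normalizer (centralizer ({γ} : Set G) : Set G) := by
  rw [mem_normalizer_iff]
  intro x
  simp only [mem_centralizer_singleton_iff]
  have h1 : γ = s * γ⁻¹ * s⁻¹ := by
    rw [show s * γ⁻¹ * s⁻¹ = (s * γ * s⁻¹)⁻¹ by group, h, inv_inv]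
  constructor
  · intro e
    have e' : x * γ⁻¹ = γ⁻¹ * x := (Commute.inv_right e).eq
    calc s * x * s⁻¹ * γ = s * (x * γ⁻¹) * s⁻¹ := by nth_rw 1 [h1]; group
      _ = _ := by rw [e']; nth_rw 2 [h1]; group
  · intro e
    have e' : s * x * s⁻¹ * γ⁻¹ = γ⁻¹ * (s * x * s⁻¹) := (Commute.inv_right e).eq
    rw [← h] at e'
    calc x * γ = s⁻¹ * (s * x * s⁻¹ * (s * γ * s⁻¹)) * s := by group
      _ = _ := by rw [e']; group

/-- A subgroup which is the centralizer of each of its nonidentity elements is a TI-set. -/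
theorem ncard_classSupp_of_cc {A : Subgroup G} (A1 : A ≠ ⊥)
    (h : ∀ x ∈ A, x ≠ 1 → ∀ g : G, g * x * g⁻¹ ∈ A → g ∈ normalizer (A : Set G)) :
    (OO.classSupp (OO.sharp A) ⊤).ncard = (Nat.card A - 1) * (normalizer (A : Set G)).index := by
  have h1 : OO.NormedTI (OO.sharp A) ⊤ (normalizer (A : Set G)) := ⟨by
    obtain ⟨x, hx⟩ := (ne_bot_iff_exists_ne_one).1 A1
    exact ⟨x, x.2, fun e => hx (Subtype.ext e)⟩, le_top,
    fun g hg x hx => ⟨Frob.conj_mem_of_mem_normalizer hg hx.1, conj_ne_one hx.2⟩,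
    fun g _ x hx hg => h x hx.1 hx.2 g hg.1⟩
  rw [h1.ncard_classSupp, relIndex_top_right, OO.sharp, Set.ncard_sdiff_singleton_of_mem A.one_mem]
  rfl

omit [Finite G] in
theorem mem_norm_of_cent_eq {A : Subgroup G}
    (h : ∀ x ∈ A, x ≠ 1 → ∀ g : G, g * x = x * g ↔ g ∈ A) {x : G} (hx : x ∈ A) (x1 : x ≠ 1)
    {g : G} (hg : g * x * g⁻¹ ∈ A) : g ∈ normalizer (A : Set G) := by
  rw [mem_normalizer_iff]
  intro y
  rw [← h x hx x1 y, ← h _ hg (conj_ne_one x1)]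
  constructor
  · intro e
    calc g * y * g⁻¹ * (g * x * g⁻¹) = g * (y * x) * g⁻¹ := by group
      _ = _ := by rw [e]; group
  · intro e
    calc y * x = g⁻¹ * (g * y * g⁻¹ * (g * x * g⁻¹)) * g := by group
      _ = _ := by rw [e]; group

theorem card_le_two_mul {A N : Subgroup G} {s : G} (h : ∀ n ∈ N, n ∈ A ∨ n * s ∈ A) :
    Nat.card N ≤ 2 * Nat.card A := by
  classical
  let f : N → A ⊕ A := fun n => if hn : (n : G) ∈ A then Sum.inl ⟨n, hn⟩ else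
    Sum.inr ⟨n * s, (h n n.2).resolve_left hn⟩
  have hf : Function.Injective f := by
    intro m n e
    simp only [f] at e
    split_ifs at e
    · exact Subtype.ext (by simpa using e)
    · exact Subtype.ext (by simpa using e)
  have := Nat.card_le_card_of_injective f hf
  rwa [Nat.card_sum, ← two_mul] at this

end Cfsg.Agent.BSW
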