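import Mathlib
import Cfsg.Agent.Lib.BSW.Three
import Cfsg.Agent.Lib.BSW.Hom

/-!
A Brauer–Suzuki–Wall type theorem: identification of `PSL(2, 2 ^ n)`.
-/

set_option autoImplicit false

namespace Cfsg.Agent.BSW

open Subgroup
open scoped MatrixGroups

universe u

variable {G : Type u} [Group G] [Finite G] {H : Subgroup G} {t : G}

theorem count_arith {g h k f iK iF : ℕ} (hk : 1 ≤ k) (hh : 1 ≤ h) (hf : k + 2 ≤ f)
    (e : g = k * h * (1 + h)) (h1 : g ≤ 2 * k * iK) (h2 : g ≤ 2 * f * iF)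
    (h3 : 1 + (h - 1) * (1 + h) + (k - 1) * iK + (f - 1) * iF ≤ g) : h ≤ k + 1 := by
  obtain ⟨k, rfl⟩ := Nat.exists_eq_add_of_le' hk
  obtain ⟨h, rfl⟩ := Nat.exists_eq_add_of_le' hh
  obtain ⟨f, rfl⟩ := Nat.exists_eq_add_of_le hf
  simp only [Nat.add_sub_cancel] at h3
  rw [show k + 1 + 2 + f - 1 = k + 2 + f by omega] at h3
  have h4 : (h + 1) * (h + 2) ≤ 2 * iK := Nat.le_of_mul_le_mul_left
    (by nlinarith : (k + 1) * ((h + 1) * (h + 2)) ≤ (k + 1) * (2 * iK)) k.succ_pos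
  by_contra hc
  obtain ⟨d, rfl⟩ := Nat.exists_eq_add_of_le (show k + 2 ≤ h by omega)
  have h5 := Nat.mul_le_mul_left (k * (k + 3 + f)) h4
  have h6 := Nat.mul_le_mul_left (k + 2 + f) h2
  have h7 := Nat.mul_le_mul_left (2 * (k + 3 + f)) h3
  subst e
  nlinarith [Nat.zero_le (k * d), Nat.zero_le (f * d), Nat.zero_le (f * k), Nat.zero_le (d * d),
    Nat.zero_le (f * d * d), Nat.zero_le (f * d * k), Nat.zero_le (f * k * k)]

namespace HypC

variable (hC : HypC H t)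
include hC

theorem nc_K {k : G} (hk : k ∈ Kt H t) (k1 : k ≠ 1) (g : G) : g * k * g⁻¹ ∉ H :=
  hC.not_conj_mem hC.t2 (hC.t_conj hk) (fun e => k1 (hC.eq_one_of_mul_self hk e)) g

theorem card_norm_K : Nat.card (normalizer (Kt H t : Set G)) ≤ 2 * Nat.card (Kt H t) := by
  obtain ⟨k, hk, k1⟩ := hC.exists_K_ne_one
  refine card_le_two_mul (s := t) fun n hn => ?_
  have h1 := Frob.conj_mem_of_mem_normalizer hn hk
  generalize e : n * k * n⁻¹ = i at h1
  have i1 : i ≠ 1 := e ▸ conj_ne_one k1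
  by_cases hM : n ∈ normalizer (H : Set G)
  · obtain ⟨j, hj, x, hx, rfl⟩ := hC.decomp hM
    have := (hC.decomp_unique (mul_mem hj hk) (hC.K_conj_mem (inv_mem hk) hx) (mul_mem h1 hj) hx
      (by rw [← e]; group)).2
    obtain rfl := hC.fpf_K hk k1 x hx (by nth_rw 1 [← this]; group)
    exact Or.inl (by simpa using hj)
  · obtain ⟨x, hx, j, hj, y, hy, rfl⟩ := hC.bruhat hM
    obtain ⟨h2, -, h3⟩ := hC.bruhat_unique hx (mul_mem hj hk) (hC.K_conj_mem (inv_mem hk) hy)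
      (hC.K_conj_mem h1 hx) (mul_mem (inv_mem h1) hj) hy (by
        calc _ = i * x * t * j * y := by rw [← e]; group
          _ = i * x * (t * i) * i⁻¹ * j * y := by group
          _ = _ := by rw [hC.t_mul h1]; group)
    obtain rfl := hC.fpf_K hk k1 y hy (by nth_rw 1 [← h3]; group)
    obtain rfl := hC.fpf_K h1 i1 x hx (by nth_rw 2 [h2]; group)
    refine Or.inr ?_
    rw [one_mul, mul_one, ← hC.t_inv, hC.t_inv, mul_assoc, hC.mul_t hj, ← mul_assoc, hC.t2, one_mul]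
    exact inv_mem hj

section
variable {s γ : G} (hs : s ∈ H) (s1 : s ≠ 1) (s2 : s * s = 1) (h : s * γ * s⁻¹ = γ⁻¹)
  (γ2 : γ * γ ≠ 1)
include s1 s2 h γ2

theorem inv_cent' {f : G} (hf : f ∈ centralizer ({γ} : Set G)) : s * f * s⁻¹ = f⁻¹ :=
  hC.inv_cent (hC.not_conj_mem s2 h γ2) s1 s2 (mem_norm_cent_of_inv h) hf

theorem cent_comm {f g : G} (hf : f ∈ centralizer ({γ} : Set G))
    (hg : g ∈ centralizer ({γ} : Set G)) : f * g = g * f :=
  congrArg Subtype.val ((Frob.isMulCommutative_of_conj_eq_inv (K := centralizer ({γ} : Set G))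
    fun _ hk => hC.inv_cent' s1 s2 h γ2 hk).is_comm.comm ⟨f, hf⟩ ⟨g, hg⟩)

theorem cent_cc {f : G} (hf : f ∈ centralizer ({γ} : Set G)) (f1 : f ≠ 1) (g : G) :
    g * f = f * g ↔ g ∈ centralizer ({γ} : Set G) := by
  refine ⟨fun e => mem_centralizer_singleton_iff.2 ?_, fun hg => hC.cent_comm s1 s2 h γ2 hg hf⟩
  refine hC.cent_comm s1 s2 (hC.inv_cent' s1 s2 h γ2 hf) (fun f2 => f1 ?_)
    (mem_centralizer_singleton_iff.2 e) (mem_centralizer_singleton_iff.2
      (mem_centralizer_singleton_iff.1 hf).symm)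
  by_contra f1
  exact f1 (hC.fpf_cent (hC.not_conj_mem s2 h γ2) f1 f2 f hf rfl)

include hs

theorem card_norm_cent
    (hx : ∀ x ∈ H, x ∈ normalizer (centralizer ({γ} : Set G) : Set G) → x * x = 1) :
    Nat.card (normalizer (centralizer ({γ} : Set G) : Set G)) ≤
      2 * Nat.card (centralizer ({γ} : Set G)) := by
  have hγ := hC.not_conj_mem s2 h γ2
  have hsN := mem_norm_cent_of_inv h
  have hm : γ ∈ centralizer ({γ} : Set G) := mem_centralizer_singleton_iff.2 rfl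
  have key : ∀ u, u ≠ 1 → u * u = 1 → u ∈ normalizer (centralizer ({γ} : Set G) : Set G) →
      u * s ∈ centralizer ({γ} : Set G) := fun u u1 u2 hu => by
    rw [mem_centralizer_singleton_iff]
    have := hC.inv_cent hγ u1 u2 hu (inv_mem hm)
    calc u * s * γ = u * (s * γ * s⁻¹) * u⁻¹ * (u * s) := by group
      _ = _ := by rw [h, this, inv_inv]
  refine card_le_two_mul (s := s) fun n hn => ?_
  obtain ⟨y, hy, e⟩ := Frob.exists_conj_of_fpf hsN (hC.fpf_cent hγ s1 s2)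
    (key _ (conj_ne_one s1) (conj_mul_self s2) (mul_mem (mul_mem hn hsN) (inv_mem hn)))
  rw [mul_assoc _ s s, s2, mul_one] at e
  have h1 : y⁻¹ * n ∈ H := hC.mem_of_comm hs s1 s2 (by
    calc y⁻¹ * n * s = y⁻¹ * (n * s * n⁻¹) * n := by group
      _ = _ := by rw [← e]; group)
  have h2 := mul_mem (inv_mem (le_normalizer hy)) hn
  by_cases h3 : y⁻¹ * n = 1
  · exact Or.inl (inv_mul_eq_one.1 h3 ▸ hy)
  · have := mul_mem hy (key _ h3 (hx _ h1 h2) h2)
    exact Or.inr (by simpa [mul_assoc] using this)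

omit hs in
theorem card_le_of_cent (hK : ∀ g : G, g * γ * g⁻¹ ∉ Kt H t)
    (hN : Nat.card (normalizer (centralizer ({γ} : Set G) : Set G)) ≤
      2 * Nat.card (centralizer ({γ} : Set G)))
    (hf : Nat.card (Kt H t) + 2 ≤ Nat.card (centralizer ({γ} : Set G))) :
    Nat.card H ≤ Nat.card (Kt H t) + 1 := by
  have hγ := hC.not_conj_mem s2 h γ2
  obtain ⟨k, hk, k1⟩ := hC.exists_K_ne_one
  have hm : γ ∈ centralizer ({γ} : Set G) := mem_centralizer_singleton_iff.2 rfl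
  have c1 := ncard_classSupp_of_cc hC.ne_bot fun x hx x1 g hg => hC.ti hx x1 hg
  have c2 := ncard_classSupp_of_cc (A := Kt H t) (fun e => k1 (by rwa [e, mem_bot] at hk))
    fun x hx x1 g hg => mem_norm_of_cent_eq
      (fun x hx x1 g => ⟨hC.mem_K_of_comm hx x1, fun hg => hC.K_comm hg hx⟩) hx x1 hg
  have c3 := ncard_classSupp_of_cc (A := centralizer ({γ} : Set G))
    (fun e => γ2 (by rw [e, mem_bot] at hm; rw [hm, mul_one]))
    fun x hx x1 g hg => mem_norm_of_cent_eq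
      (fun x hx x1 g => hC.cent_cc s1 s2 h γ2 hx x1 g) hx x1 hg
  refine count_arith Nat.card_pos Nat.card_pos hf hC.card_eq
    (iK := (normalizer (Kt H t : Set G)).index)
    (iF := (normalizer (centralizer ({γ} : Set G) : Set G)).index) ?_ ?_ ?_
  · rw [← (normalizer (Kt H t : Set G)).card_mul_index]
    exact Nat.mul_le_mul_right _ hC.card_norm_K
  · rw [← (normalizer (centralizer ({γ} : Set G) : Set G)).card_mul_index]
    exact Nat.mul_le_mul_right _ hN
  rw [← hC.index_norm, ← c1, ← c2, ← c3, ← Set.ncard_singleton (1 : G),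
    ← Set.ncard_union_eq, ← Set.ncard_union_eq, ← Set.ncard_union_eq, ← Set.ncard_univ]
  · exact Set.ncard_le_ncard (Set.subset_univ _)
  · rw [Set.disjoint_right]
    rintro _ ⟨f, hf, g, -, rfl⟩ ((e | ⟨x, hx, g', -, e⟩) | ⟨x, hx, g', -, e⟩)
    · exact conj_ne_one hf.2 e
    · refine hC.nc_of_mem hγ hf.1 hf.2 (g'⁻¹ * g) ?_
      rw [show g'⁻¹ * g * f * (g'⁻¹ * g)⁻¹ = g'⁻¹ * (g * f * g⁻¹) * g' by group, e]
      simpa [mul_assoc] using hx.1
    · refine hK (g'⁻¹ * g) (hC.mem_K_of_comm hx.1 hx.2 ?_)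
      have := mem_centralizer_singleton_iff.1 hf.1
      calc _ = g'⁻¹ * g * γ * g⁻¹ * (g' * x * g'⁻¹) * g' := by group
        _ = g'⁻¹ * g * (γ * f) * g⁻¹ * g' := by rw [← e]; group
        _ = g'⁻¹ * (g * f * g⁻¹) * g * γ * g⁻¹ * g' := by rw [← this]; group
        _ = _ := by rw [e]; group
  · rw [Set.disjoint_right]
    rintro _ ⟨f, hf, g, -, rfl⟩ (e | ⟨x, hx, g', -, e⟩)
    · exact conj_ne_one hf.2 e
    · refine hC.nc_K hf.1 hf.2 (g'⁻¹ * g) ?_
      rw [show g'⁻¹ * g * f * (g'⁻¹ * g)⁻¹ = g'⁻¹ * (g * f * g⁻¹) * g' by group, e]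
      simpa [mul_assoc] using hx.1
  · rw [Set.disjoint_right]
    rintro _ ⟨f, hf, g, -, rfl⟩ e
    exact conj_ne_one hf.2 e

end

end HypC

section torus

variable {F : Type*} [Field F] [CharP F 2]

/-- The element `(c + g₀) / d` of the non-split torus, `d ^ 2 = c ^ 2 + c + 1`. -/
def tor (c d : F) (h : d * d * (c ^ 2 + c + 1) = 1) : SL(2, F) :=
  ⟨!![(c + 1) * d, d; d, c * d], by
    rw [Matrix.det_fin_two_of]
    linear_combination h - d * d * CharTwo.two_eq_zero (R := F)⟩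

theorem tor_coe (c d : F) (h : d * d * (c ^ 2 + c + 1) = 1) :
    (tor c d h).1 = !![(c + 1) * d, d; d, c * d] := rfl

theorem tor_comm (c d : F) (h : d * d * (c ^ 2 + c + 1) = 1) :
    tor c d h * tor 0 1 (by simp) = tor 0 1 (by simp) * tor c d h := by
  have h2 := CharTwo.two_eq_zero (R := F)
  ext i j
  simp only [Matrix.SpecialLinearGroup.coe_mul, tor_coe]
  fin_cases i <;> fin_cases j <;> simp [Matrix.mul_apply, Fin.sum_univ_two] <;> ring

theorem tor_cube (c d : F) (h : d * d * (c ^ 2 + c + 1) = 1) (e : tor c d h ^ 3 = 1) :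
    c = 0 ∨ c = 1 := by
  have h2 := CharTwo.two_eq_zero (R := F)
  have h3 := congrArg (fun x : SL(2, F) => x.1 0 1) e
  simp only [pow_three, Matrix.SpecialLinearGroup.coe_mul, tor_coe, Matrix.mul_apply,
    Fin.sum_univ_two] at h3
  simp at h3
  have d0 : d ≠ 0 := by rintro rfl; simp at h
  have : c * (c - 1) = 0 := mul_left_cancel₀ (pow_ne_zero 3 d0) (by
    linear_combination h3 - d ^ 3 * (c ^ 2 + 2 * c + 1) * h2)
  simpa [sub_eq_zero] using this

end torus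

namespace Frame

variable {F : Type*} [Field F] {a k : F → G} (fr : Frame H t a k) (hC : HypC H t)
  (e : t * a 1 * t = a 1 * t * a 1)
include fr hC e

theorem mul_self_of_not_three (h3 : ∀ ω ∈ Kt H t, ω ^ 3 = 1 → ω = 1) : ∀ x ∈ H, x * x = 1 := by
  have := fr.charP
  have := fr.finite
  have h2 := CharTwo.two_eq_zero (R := F)
  have s1 := fr.a_ne_one one_ne_zero
  have s2 := fr.a_sq 1
  have hs := fr.a_mem 1
  have hi : a 1 * (a 1 * t) * (a 1)⁻¹ = (a 1 * t)⁻¹ := by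
    rw [← mul_assoc, s2, mul_inv_rev, hC.t_inv, one_mul]
  have γ3 : (a 1 * t) ^ 3 = 1 := by
    calc _ = (a 1 * t * a 1) * (t * a 1 * t) := by rw [pow_three]; group
      _ = t * a 1 * (t * t) * a 1 * t := by rw [← e]; group
      _ = 1 := by rw [hC.t2, mul_one, mul_assoc t, s2, mul_one, hC.t2]
  have γ1 : a 1 * t ≠ 1 := fun h => hC.t_not_mem (by
    rw [eq_inv_of_mul_eq_one_right h]; exact inv_mem (le_normalizer hs))
  have γ2 : a 1 * t * (a 1 * t) ≠ 1 := fun h => γ1 (by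
    rwa [pow_three, h, mul_one] at γ3)
  have hγ := hC.not_conj_mem s2 hi γ2
  have hd : ∀ c : F, ∃ d, d * d * (c ^ 2 + c + 1) = 1 := fun c => by
    have h0 : c ^ 2 + c + 1 ≠ 0 := fun h => by
      have c0 : c ≠ 0 := by rintro rfl; simp at h
      refine fr.k_ne_one hC c0 (fun c1 => ?_) (h3 _ (fr.k_mem c) ?_)
      · rw [c1] at h
        exact one_ne_zero (by linear_combination h - h2 : (1 : F) = 0)
      · rw [pow_three, ← fr.k_mul hC c0 c0, ← fr.k_mul hC c0 (mul_ne_zero c0 c0),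
          show c * (c * c) = 1 by linear_combination (c - 1) * h, fr.k_one hC]
    obtain ⟨d, hd⟩ := FiniteField.isSquare_of_char_two (ringChar.eq F 2) (c ^ 2 + c + 1)⁻¹
    exact ⟨d, by rw [← hd, inv_mul_cancel₀ h0]⟩
  choose d hd using hd
  have hγφ : fr.phi hC e (tor 0 1 (by simp)) = a 1 * t := (fr.phi_mk hC e _).trans (by
    simp [fe_ne _ _ _ one_ne_zero, fr.k_one hC, fr.a_zero])
  have hτ : ∀ c, fr.phi hC e (tor c (d c) (hd c)) ∈ centralizer ({a 1 * t} : Set G) := fun c => by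
    rw [mem_centralizer_singleton_iff, ← hγφ, ← map_mul, tor_comm, map_mul]
  have d0 : ∀ c, d c ≠ 0 := fun c h => by simpa [h] using hd c
  have hcard : Nat.card F + 1 ≤ Nat.card (centralizer ({a 1 * t} : Set G)) := by
    rw [← Finite.card_option]
    refine Nat.card_le_card_of_injective (fun c => c.elim 1 fun c => ⟨_, hτ c⟩) ?_
    have hne : ∀ c, fr.phi hC e (tor c (d c) (hd c)) ≠ 1 := fun c h => d0 c (by
      have := congrArg (fun x : SL(2, F) => x.1 0 1)
        ((injective_iff_map_eq_one _).1 (fr.phi_injective hC e) _ h)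
      simpa [tor_coe] using this)
    rintro (_ | c) (_ | c') h
    · rfl
    · exact (hne c' (congrArg Subtype.val h).symm).elim
    · exact (hne c (congrArg Subtype.val h)).elim
    · have h4 := fr.phi_injective hC e (congrArg Subtype.val h)
      have h5 := congrArg (fun x : SL(2, F) => x.1 0 1) h4
      have h6 := congrArg (fun x : SL(2, F) => x.1 1 1) h4
      simp only [tor_coe, Matrix.of_apply, Matrix.cons_val', Matrix.cons_val_one, Matrix.cons_val_zero,
        Matrix.cons_val_fin_one] at h5 h6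
      rw [h5] at h6
      rw [mul_right_cancel₀ (d0 c') h6]
  generalize a 1 * t = γ at hi γ3 γ1 γ2 hγ hγφ hτ hcard
  generalize hL : (fr.phi hC e).range = L
  have hsL : a 1 ∈ L := hL ▸ fr.a_mem_range hC e 1
  have u2 : ∀ f ∈ centralizer ({γ} : Set G), a 1 * f * (a 1 * f) = 1 := fun f hf => by
    calc _ = a 1 * f * (a 1)⁻¹ * (a 1 * a 1) * f := by group
      _ = 1 := by rw [hC.inv_cent' s1 s2 hi γ2 hf, s2]; group
  have uM : ∀ f ∈ centralizer ({γ} : Set G), f ≠ 1 → a 1 * f ∉ normalizer (H : Set G) :=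
    fun f hf f1 h => hC.nc_of_mem hγ hf f1 1 (by
      simpa using (H.mul_mem_cancel_left hs).1 (hC.mem_of_mem_norm h (u2 f hf)))
  have P1 : ∀ f ∈ centralizer ({γ} : Set G), f ≠ 1 → ∃ x ∈ H, x⁻¹ * f * x ∈ L := fun f hf f1 => by
    obtain ⟨x, hx, j, hj, h⟩ := hC.exists_inv_form (uM f hf f1) (u2 f hf)
    refine ⟨x, hx, ?_⟩
    have : x⁻¹ * f * x = (a 1)⁻¹ * t * j := by
      calc _ = x⁻¹ * (a 1)⁻¹ * (a 1 * f) * x := by group
        _ = (a 1 * x)⁻¹ * x * t * j := by rw [h]; group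
        _ = _ := by rw [← hC.comm hs s2 hx]; group
    rw [this, ← hL]
    exact mul_mem (mul_mem (inv_mem (fr.a_mem_range hC e 1)) (fr.t_mem_range hC e))
      (fr.K_le_range hC e hj)
  have P2 : ∀ f ∈ centralizer ({γ} : Set G), f ≠ 1 → f ∈ L → ∀ x ∈ H, x⁻¹ * f * x ∈ L →
      x * x = 1 := fun f hf f1 hfL x hx h => by
    obtain ⟨c, j, hj, c', h4⟩ := fr.form_of_mem_range hC e (hL ▸ mul_mem hsL hfL) (uM f hf f1)
    have h5 : a 1 * (x⁻¹ * f * x) = x⁻¹ * (a 1 * f) * x := by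
      rw [← mul_assoc, ← mul_assoc, ← hC.comm hs s2 (inv_mem hx), mul_assoc x⁻¹]
    obtain ⟨b, i, hi, b', h6⟩ := fr.form_of_mem_range hC e (hL ▸ mul_mem hsL h) (by
      rw [h5]
      intro h7
      exact uM f hf f1 ((Subgroup.mul_mem_cancel_left _ (inv_mem (le_normalizer hx))).1
        ((Subgroup.mul_mem_cancel_right _ (le_normalizer hx)).1 h7)))
    rw [h5, h4] at h6
    have h7 := (hC.bruhat_unique (mul_mem (inv_mem hx) (fr.a_mem c)) hj (mul_mem (fr.a_mem c') hx)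
      (fr.a_mem b) hi (fr.a_mem b') (by rw [← h6]; group)).1
    have h8 : x = a (c + b) := by rw [fr.a_add, ← fr.a_inv b, ← h7]; group
    rw [h8, fr.a_sq]
  have hγm : γ ∈ centralizer ({γ} : Set G) := mem_centralizer_singleton_iff.2 rfl
  have P3 : ∀ x ∈ H, x ∈ normalizer (centralizer ({γ} : Set G) : Set G) → x * x = 1 := by
    intro x hx hxN
    obtain ⟨l, l0, l1⟩ := fr.exists_ne hC
    have hy := hτ l
    have hyL : fr.phi hC e (tor l (d l) (hd l)) ∈ L := hL ▸ ⟨_, rfl⟩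
    have y3 : fr.phi hC e (tor l (d l) (hd l)) ^ 3 ≠ 1 := fun h => by
      rw [← map_pow] at h
      exact (tor_cube _ _ _ ((injective_iff_map_eq_one _).1 (fr.phi_injective hC e) _ h)).elim
        l0 l1
    generalize fr.phi hC e (tor l (d l) (hd l)) = y at hy hyL y3
    have hw := Frob.conj_mem_of_mem_normalizer hxN hγm
    refine P2 _ hw (conj_ne_one γ1) ((L.mul_mem_cancel_left hyL).1 ?_) x hx (by
      rw [show x⁻¹ * (x * γ * x⁻¹) * x = γ by group, ← hL, ← hγφ]; exact ⟨_, rfl⟩)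
    by_cases h4 : y * (x * γ * x⁻¹) = 1
    · exact h4 ▸ one_mem _
    obtain ⟨x', hx', h5⟩ := P1 _ (mul_mem hy hw) h4
    have h6 : (y * (x * γ * x⁻¹)) ^ 3 = y ^ 3 := by
      rw [Commute.mul_pow (hC.cent_comm s1 s2 hi γ2 hy hw), conj_pow, γ3]; group
    obtain ⟨c, rfl⟩ := fr.a_surj x' hx' (P2 _ (pow_mem hy 3) y3 (pow_mem hyL 3) x' hx' (by
      have := pow_mem h5 3
      rwa [← inv_inv x', inv_inv x'⁻¹, conj_pow, h6, inv_inv] at this))
    have hcL : a c ∈ L := hL ▸ fr.a_mem_range hC e c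
    exact (L.mul_mem_cancel_left (inv_mem hcL)).1 ((L.mul_mem_cancel_right hcL).1 h5)
  have hF : 1 < Nat.card F := Finite.one_lt_card
  have h4 := hC.card_le_of_cent s1 s2 hi γ2 (fun g hg => conj_ne_one γ1 (h3 _ hg (by
    rw [conj_pow, γ3]; group))) (hC.card_norm_cent hs s1 s2 hi γ2 P3) (by rw [fr.card_K]; omega)
  rw [fr.card_K] at h4
  intro x hx
  obtain ⟨c, hc⟩ := ((Nat.bijective_iff_injective_and_card (fun c => (⟨a c, fr.a_mem c⟩ : H))).2
    ⟨fun c d h => fr.a_inj (congrArg Subtype.val h), le_antisymm (Nat.card_le_card_of_injective _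
      fun c d (h : (⟨a c, fr.a_mem c⟩ : H) = ⟨a d, fr.a_mem d⟩) =>
        fr.a_inj (congrArg Subtype.val h)) (by omega)⟩).2 ⟨x, hx⟩
  obtain rfl : a c = x := congrArg Subtype.val hc
  exact fr.a_sq c

end Frame

/-- **Main theorem.** -/
theorem HypC.main (hC : HypC H t)
    (hc : ∀ x ∈ H, ∀ j ∈ Kt H t, x * (j * x * j⁻¹) = j * x * j⁻¹ * x) :
    ∃ n : ℕ, 2 ≤ n ∧ Nat.card H = 2 ^ n ∧ Nat.card (Kt H t) = 2 ^ n - 1 ∧
      Nonempty (G ≃* Matrix.ProjectiveSpecialLinearGroup (Fin 2) (GaloisField 2 n)) := by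
  obtain ⟨n, hn, a, k, fr, r, hr, e⟩ := hC.exists_frame
  have e := fr.str_eq hC hr e (hc r hr)
  have hH : ∀ x ∈ H, x * x = 1 := by
    by_cases h3 : ∀ ω ∈ Kt H t, ω ^ 3 = 1 → ω = 1
    · exact fr.mul_self_of_not_three hC e h3
    · push Not at h3
      obtain ⟨ω, hω, ω3, ω1⟩ := h3
      exact fun x hx => hC.mul_self_of_three hω ω1 ω3 hx
  have hq := GaloisField.card 2 n (by omega)
  refine ⟨n, hn, ?_, by rw [fr.card_K, hq], fr.nonempty_equiv hC e hH⟩
  rw [← hq]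
  symm
  refine Nat.card_eq_of_bijective (fun c => (⟨a c, fr.a_mem c⟩ : H))
    ⟨fun c d h => fr.a_inj (congrArg Subtype.val h), fun x => ?_⟩
  obtain ⟨c, hc⟩ := fr.a_surj x x.2 (hH x x.2)
  exact ⟨c, Subtype.ext hc⟩

end Cfsg.Agent.BSW
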