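import Mathlib
import Cfsg.Agent.Lib.BSW.Main
import Cfsg.Agent.Lib.Core.MinNormal
import Cfsg.Agent.Lib.Transfer.Basic2

/-!
Groups in which every non-abelian subgroup is self-normalizing.
-/

set_option autoImplicit false

namespace Cfsg.Agent.BSW

open Subgroup

variable {G : Type*} [Group G]

/-- An element of an abelian Sylow subgroup `P` which is central in `N(P)` and lies in the derived
subgroup is trivial. -/
theorem eq_one_of_transfer [Finite G] {p : ℕ} [hp : Fact p.Prime] (P : Sylow p G)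
    [hP : IsMulCommutative (P : Subgroup G)] {x : G} (hx : x ∈ (P : Subgroup G))
    (hN : ∀ n ∈ normalizer ((P : Subgroup G) : Set G), n * x = x * n) (hc : x ∈ commutator G) :
    x = 1 := by
  let _ : CommGroup (P : Subgroup G) := { (inferInstance : Group (P : Subgroup G)) with
    mul_comm := hP.is_comm.comm }
  have h1 := MonoidHom.transfer_eq_pow (MonoidHom.id (P : Subgroup G)) x fun k g hg => by
    obtain ⟨n, hn, e⟩ := P.conj_eq_normalizer_conj_of_mem (x ^ k) g (pow_mem hx k) hg
    rw [e, mul_assoc, ← (Commute.pow_right (hN n hn) k).eq, inv_mul_cancel_left]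
  rw [MonoidHom.mem_ker.1 (Abelianization.commutator_subset_ker _ hc)] at h1
  have h2 : x ^ (P : Subgroup G).index = 1 := (congrArg Subtype.val h1).symm
  obtain ⟨k, hk⟩ := P.isPGroup' ⟨x, hx⟩
  exact Transfer.eq_one_of_coprime_of_pow_pow (p := p) (Nat.Coprime.coprime_dvd_left
    (orderOf_dvd_of_pow_eq_one h2) ((Nat.Prime.coprime_iff_not_dvd hp.out).2 P.not_dvd_index).symm)
    (congrArg Subtype.val hk)

theorem eq_one_of_conj' {g x : G} (h : g⁻¹ * x * g = 1) : x = 1 :=
  conj_eq_one_iff.1 (show g⁻¹ * x * g⁻¹⁻¹ = 1 by rwa [inv_inv])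

theorem comm_of_mem {A : Subgroup G} (h : IsMulCommutative A) {a b : G} (ha : a ∈ A)
    (hb : b ∈ A) : a * b = b * a := congrArg Subtype.val (h.is_comm.comm ⟨a, ha⟩ ⟨b, hb⟩)

theorem le_of_prime_relIndex {A X C : Subgroup G} (hA : A ≤ X) (hp : (A.relIndex X).Prime)
    (hC : A ≤ C) {y : G} (hy : y ∈ X) (hyA : y ∉ A) (hyC : y ∈ C) : X ≤ C := by
  have h1 := relIndex_mul_relIndex A (C ⊓ X) X (le_inf hC hA) inf_le_right
  rcases (Nat.prime_mul_iff.1 (h1 ▸ hp)) with ⟨-, h⟩ | ⟨-, h⟩
  · exact (relIndex_eq_one.1 h).trans inf_le_left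
  · exact (hyA (relIndex_eq_one.1 h ⟨hyC, hy⟩)).elim

theorem mem_of_coprime_relIndex {A X : Subgroup G} (hn : X ≤ normalizer (A : Set G)) {g : G}
    (hg : g ∈ X) (h : (orderOf g).Coprime (A.relIndex X)) : g ∈ A := by
  have := normal_subgroupOf_of_le_normalizer hn
  have h1 : g ^ A.relIndex X ∈ A := pow_index_mem (A.subgroupOf X) ⟨g, hg⟩
  obtain ⟨m, hm⟩ := exists_pow_eq_self_of_coprime h.symm
  exact hm ▸ pow_mem h1 m

theorem commutator_eq_top_of_simple [IsSimpleGroup G] (hna : ¬ IsMulCommutative G) :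
    commutator G = ⊤ := (IsSimpleGroup.eq_bot_or_eq_top_of_normal _ inferInstance).resolve_left
  fun e => hna ⟨⟨fun a b => commutatorElement_eq_one_iff_mul_comm.1
    (mem_bot.1 (e ▸ commutator_mem_commutator (mem_top a) (mem_top b)))⟩⟩

/-- Every non-abelian subgroup is self-normalizing. -/
def SN (G : Type*) [Group G] : Prop :=
  ∀ H : Subgroup G, ¬ IsMulCommutative H → normalizer (H : Set G) ≤ H

theorem SN.comm (h : SN G) {A : Subgroup G} {g : G} (hg : g ∈ normalizer (A : Set G))
    (hA : g ∉ A) : IsMulCommutative A := by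
  by_contra hc
  exact hA (h A hc hg)

theorem SN.subgroup (h : SN G) (X : Subgroup G) : SN X := fun H hH g hg => by
  have := h (H.map X.subtype) (fun hc => hH (Core.isMulCommutative_of_forall fun a ha b hb =>
    Subtype.ext (comm_of_mem hc (mem_map_of_mem _ ha) (mem_map_of_mem _ hb))))
    (le_normalizer_map _ (mem_map_of_mem _ hg))
  exact (mem_map_iff_mem X.subtype_injective).1 this

variable [Finite G]

theorem not_simple_of_selfnorm [IsSimpleGroup G] (hna : ¬ IsMulCommutative G)
    (h : ∀ y : G, y ≠ 1 → normalizer (zpowers y : Set G) ≤ zpowers y) : False := by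
  obtain ⟨y, y1⟩ := exists_ne (1 : G)
  have key : ∀ y : G, ∀ w ∈ zpowers y, w ≠ 1 → zpowers w = zpowers y := fun y w hw w1 =>
    le_antisymm (zpowers_le.2 hw) (zpowers_le.2 (h w w1 (centralizer_le_normalizer _ (by
      rintro _ ⟨i, rfl⟩
      obtain ⟨j, rfl⟩ := hw
      exact (((Commute.refl y).zpow_left j).zpow_left i).eq))))
  obtain ⟨K, hK, -, hF, -⟩ := Frob.exists_isFrobPair ((Frob.isFrobeniusComplement_iff
    (zpowers y)).2 ⟨zpowers_ne_bot.2 y1, fun e => hna ⟨⟨fun a b =>
      comm_of_mem (inferInstance : IsMulCommutative (zpowers y)) (e ▸ mem_top a) (e ▸ mem_top b)⟩⟩,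
      fun g hg x hx hgx => by
        by_contra x1
        refine hg (inv_mem_iff.1 (h y y1 ?_))
        have h1 := key y _ hgx fun e => x1 (eq_one_of_conj' e)
        rw [← key y x hx x1] at h1 ⊢
        rw [mem_normalizer_iff_map_conj_eq, MonoidHom.map_zpowers]
        simpa using h1⟩)
  rcases hK.eq_bot_or_eq_top with e | e
  · exact hF.left_ne_bot e
  · exact hF.not_right_le_left (e ▸ le_top)

theorem SN.trichotomy_aux (h : SN G)
    (h2 : ∀ A : Subgroup G, A.Normal → IsMulCommutative A → ¬ A.index.Prime) {Q : Subgroup G}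
    (hQ : Q.Normal) (Q1 : Q ≠ ⊤) : Q ≤ center G ∧ ¬ commutator G ≤ Q := by
  obtain ⟨A, hQA, ⟨hA, A1⟩, hm⟩ := Finite.exists_le_maximal
    (p := fun A : Subgroup G => A.Normal ∧ A ≠ ⊤) ⟨hQ, Q1⟩
  have hmax : ∀ B : Subgroup G, B.Normal → A ≤ B → B = A ∨ B = ⊤ := fun B hB hle => by
    by_cases e : B = ⊤
    · exact Or.inr e
    · exact Or.inl (le_antisymm (hm ⟨hB, e⟩ hle) hle)
  obtain ⟨g, hg⟩ : ∃ g, g ∉ A := by
    by_contra! hg
    exact A1 (eq_top_iff.2 fun g _ => hg g)
  have hc := h.comm (le_normalizer_of_normal (mem_top g)) hg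
  have := QuotientGroup.nontrivial_iff.2 A1
  have : IsSimpleGroup (G ⧸ A) := ⟨fun N hN => by
    rcases hmax (N.comap (QuotientGroup.mk' A)) inferInstance (QuotientGroup.le_comap_mk' A N)
      with e | e
    · left
      rw [← map_comap_eq_self_of_surjective (QuotientGroup.mk'_surjective A) N, e,
        QuotientGroup.map_mk'_self]
    · right
      rw [← map_comap_eq_self_of_surjective (QuotientGroup.mk'_surjective A) N, e,
        map_top_of_surjective _ (QuotientGroup.mk'_surjective A)]⟩
  have hna : ¬ IsMulCommutative (G ⧸ A) := fun hq => by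
    let _ : CommGroup (G ⧸ A) := { (inferInstance : Group (G ⧸ A)) with
      mul_comm := hq.is_comm.comm }
    exact h2 A hA hc IsSimpleGroup.prime_card
  refine ⟨hQA.trans ?_, fun e => hna (Subgroup.Normal.quotient_commutative_iff_commutator_le.2
    (e.trans hQA))⟩
  rcases hmax (centralizer (A : Set G)) inferInstance (le_centralizer_iff_isMulCommutative.2 hc)
    with e | e
  · refine (not_simple_of_selfnorm hna fun y y1 g hg => ?_).elim
    obtain ⟨y, rfl⟩ := QuotientGroup.mk_surjective y
    obtain ⟨g, rfl⟩ := QuotientGroup.mk_surjective g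
    refine h ((zpowers (y : G ⧸ A)).comap (QuotientGroup.mk' A)) (fun hc => y1 ?_)
      (le_normalizer_comap _ hg)
    rw [QuotientGroup.eq_one_iff, ← e]
    exact fun a ha => comm_of_mem hc (QuotientGroup.le_comap_mk' A _ ha) (mem_zpowers _)
  · exact centralizer_eq_top_iff_subset.1 e

/-- A non-abelian subgroup has an abelian normal subgroup of prime index, or else is perfect with
all proper normal subgroups central. -/
theorem SN.trichotomy (h : SN G) {X : Subgroup G} (hX : ¬ IsMulCommutative X) :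
    (∃ A ≤ X, X ≤ normalizer (A : Set G) ∧ IsMulCommutative A ∧ (A.relIndex X).Prime) ∨
      (commutator X = ⊤ ∧ ∀ Q < X, X ≤ normalizer (Q : Set G) → X ≤ centralizer (Q : Set G)) := by
  by_cases h2 : ∀ A : Subgroup X, A.Normal → IsMulCommutative A → ¬ A.index.Prime
  · refine Or.inr ⟨?_, fun Q hQ hn g hg q hq => ?_⟩
    · by_contra e
      exact ((h.subgroup X).trichotomy_aux h2 inferInstance e).2 le_rfl
    · have := ((h.subgroup X).trichotomy_aux h2 (normal_subgroupOf_of_le_normalizer hn)
        (by rw [Ne, subgroupOf_eq_top]; exact not_le_of_gt hQ)).1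
        (show (⟨q, hQ.le hq⟩ : X) ∈ Q.subgroupOf X from hq)
      exact (congrArg Subtype.val (mem_center_iff.1 this ⟨g, hg⟩)).symm
  · push Not at h2
    obtain ⟨A, hA, hc, hp⟩ := h2
    refine Or.inl ⟨A.map X.subtype, map_subtype_le A, ?_, inferInstance, ?_⟩
    · refine le_trans ?_ (le_normalizer_map _)
      rw [normalizer_eq_top, ← MonoidHom.range_eq_map, range_subtype]
    · rwa [relIndex, subgroupOf, comap_map_eq_self_of_injective X.subtype_injective]

theorem SN.sylow_comm [IsSimpleGroup G] (hna : ¬ IsMulCommutative G) (h : SN G) {p : ℕ}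
    [hp : Fact p.Prime] (P : Sylow p G) : IsMulCommutative (P : Subgroup G) := by
  by_contra hP
  have key : ∀ Q : Subgroup G, IsPGroup p Q → ∀ g ∈ normalizer (Q : Set G),
      (orderOf g).Coprime p → g ∈ centralizer (Q : Set G) := by
    intro Q
    induction Q using WellFoundedGT.induction with
    | ind Q ih =>
    intro hQ g hg hgp
    by_contra hgC
    obtain ⟨P', hP'⟩ := hQ.exists_le_sylow
    have hgQ : g ∉ Q := fun e => hgC (by
      rw [Transfer.eq_one_of_coprime_of_mem_isPGroup hQ hgp e]; exact one_mem _)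
    have hlt : Q < P' := lt_of_le_of_ne hP' fun e => hP (by
      have hc := h.comm hg hgQ
      rw [e] at hc
      exact ⟨⟨fun a b => (P.equiv P').injective (by
        rw [map_mul, map_mul, hc.is_comm.comm])⟩⟩)
    have hR := Core.lt_inf_normalizer_of_isNilpotent P'.isPGroup'.isNilpotent hlt
    have hX : ¬ IsMulCommutative (normalizer (Q : Set G)) := fun hc =>
      hgC fun q hq => comm_of_mem hc (le_normalizer hq) hg
    rcases h.trichotomy hX with ⟨A, hA, hn, hc, hr⟩ | ⟨-, h3⟩
    · by_cases e : A.relIndex (normalizer (Q : Set G)) = p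
      · have hgA := mem_of_coprime_relIndex hn hg (e ▸ hgp)
        refine hgC fun q hq => ?_
        have h1 : q * g * q⁻¹ ∈ A := Frob.conj_mem_of_mem_normalizer (hn (le_normalizer hq)) hgA
        have h2 : q * g * q⁻¹ * g⁻¹ ∈ Q := by
          rw [mul_assoc, mul_assoc, ← mul_assoc g]
          exact mul_mem hq (Frob.conj_mem_of_mem_normalizer hg (inv_mem hq))
        have h3 : (q * g * q⁻¹ * g⁻¹) ^ orderOf g = 1 := by
          rw [Commute.mul_pow (comm_of_mem hc h1 (inv_mem hgA)), conj_pow, inv_pow,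
            pow_orderOf_eq_one]
          group
        have := Transfer.eq_one_of_coprime_of_mem_isPGroup hQ
          (Nat.Coprime.coprime_dvd_left (orderOf_dvd_of_pow_eq_one h3) hgp) h2
        exact mul_inv_eq_iff_eq_mul.1 (mul_inv_eq_one.1 this)
      · have h1 : (P' : Subgroup G) ⊓ normalizer (Q : Set G) ≤ A := fun w hw => by
          obtain ⟨k, hk⟩ := IsPGroup.iff_orderOf.1 P'.isPGroup' ⟨w, hw.1⟩
          refine mem_of_coprime_relIndex hn hw.2 ?_
          rw [orderOf_mk] at hk
          exact hk ▸ ((Nat.coprime_primes hp.out hr).2 (Ne.symm e)).pow_left k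
        have h2 := Core.le_pCoreOf h1 ((le_centralizer_iff_isMulCommutative.2 hc).trans
          ((centralizer_le h1).trans (centralizer_le_normalizer _))) P'.isPGroup'.to_inf_left
        exact hgC (centralizer_le (hR.le.trans h2) (ih _ (hR.trans_le h2) (Core.isPGroup_pCoreOf A)
          g (Core.normalizer_le_normalizer_pCoreOf A (hn hg)) hgp))
    · exact hgC (h3 Q (lt_of_le_of_ne le_normalizer fun e => hgQ (e ▸ hg)) le_rfl hg)
  obtain ⟨P', N, hN, hc⟩ := Transfer.frobenius_of_coprime_centralizes P fun X hX _ =>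
    key X (P.isPGroup'.to_le hX)
  have hP' : ¬ IsMulCommutative (P' : Subgroup G) := fun hc => hP
    ⟨⟨fun a b => (P.equiv P').injective (by rw [map_mul, map_mul, hc.is_comm.comm])⟩⟩
  rcases hN.eq_bot_or_eq_top with rfl | rfl
  · have h1 : (P' : Subgroup G) = ⊤ := by simpa using hc.sup_eq_top
    have h2 : IsPGroup p G := P'.isPGroup'.of_surjective (P' : Subgroup G).subtype
      fun g => ⟨⟨g, h1 ▸ mem_top g⟩, rfl⟩
    rcases (inferInstance : (center G).Normal).eq_bot_or_eq_top with e | e
    · exact (nontrivial_iff_ne_bot _).1 h2.center_nontrivial e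
    · exact hna ⟨⟨fun a b => mem_center_iff.1 (e ▸ mem_top b) a⟩⟩
  · have h1 : (P' : Subgroup G) = ⊥ := by simpa using hc.disjoint
    exact hP' (h1 ▸ inferInstance)

theorem pCoreOf_le_sylow {p : ℕ} [Fact p.Prime] (S : Sylow p G) {A : Subgroup G}
    (hn : (S : Subgroup G) ≤ normalizer (A : Set G)) : pCoreOf p A ≤ S := by
  have h1 := IsPGroup.to_sup_of_normal_left' (Core.isPGroup_pCoreOf (p := p) A) S.isPGroup'
    (hn.trans (Core.normalizer_le_normalizer_pCoreOf A))
  exact le_sup_left.trans (S.is_maximal' h1 le_sup_right).le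

theorem normalizer_le_of_sylow_le {p : ℕ} [Fact p.Prime] (S : Sylow p G) {A : Subgroup G}
    (hc : IsMulCommutative A) (hS : (S : Subgroup G) ≤ A) :
    normalizer (A : Set G) ≤ normalizer ((S : Subgroup G) : Set G) := by
  have : pCoreOf p A = S := le_antisymm (pCoreOf_le_sylow S (hS.trans le_normalizer))
    (Core.le_pCoreOf hS ((le_centralizer_iff_isMulCommutative.2 hc).trans
      ((centralizer_le hS).trans (centralizer_le_normalizer _))) S.isPGroup')
  exact this ▸ Core.normalizer_le_normalizer_pCoreOf A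

section main

variable [IsSimpleGroup G] (hna : ¬ IsMulCommutative G) (h : SN G) (S : Sylow 2 G)
include hna h

theorem SN.eq_one_of_central {x : G} (hx : x ∈ (S : Subgroup G))
    (hN : ∀ n ∈ normalizer ((S : Subgroup G) : Set G), n * x = x * n) : x = 1 :=
  have := h.sylow_comm hna S
  eq_one_of_transfer S hx hN (commutator_eq_top_of_simple hna ▸ mem_top x)

theorem SN.cent_le {x : G} (x1 : x ≠ 1) (hx : (S : Subgroup G) ≤ centralizer {x}) :
    centralizer ({x} : Set G) ≤ normalizer ((S : Subgroup G) : Set G) := by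
  obtain ⟨n, hp⟩ := Frob.exists_prime_orderOf_mem_zpowers x1
  have h0 : centralizer ({x} : Set G) ≤ centralizer {x ^ n} := fun g hg =>
    mem_centralizer_singleton_iff.2 (Commute.pow_right (mem_centralizer_singleton_iff.1 hg) n).eq
  refine h0.trans ?_
  replace hx := hx.trans h0
  generalize x ^ n = x at hp hx
  have hS := h.sylow_comm hna S
  by_cases hX : IsMulCommutative (centralizer ({x} : Set G))
  · exact le_normalizer.trans (normalizer_le_of_sylow_le S hX hx)
  rcases h.trichotomy hX with ⟨A, hA, hn, hc, hr⟩ | ⟨h3, -⟩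
  · by_cases hSA : (S : Subgroup G) ≤ A
    · exact hn.trans (normalizer_le_of_sylow_le S hc hSA)
    exfalso
    obtain ⟨s, hs, hsA⟩ := SetLike.not_le_iff_exists.1 hSA
    have hO : (S : Subgroup G) ≤ normalizer (((pPrimeCore 2 A).map A.subtype : Subgroup G) : Set G) :=
      (hx.trans hn).trans (Core.normalizer_le_normalizer_map_of_characteristic A _)
    by_cases hY : IsMulCommutative ↥((pPrimeCore 2 A).map A.subtype ⊔ zpowers s)
    · have h1 : A ≤ centralizer {s} := by
        have h2 : (⊤ : Subgroup A) ≤ pCore 2 A ⊔ pPrimeCore 2 A := by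
          rw [← Core.fitting_eq_top_iff.2 Core.isNilpotent_of_isMulCommutative]
          exact Core.fitting_le_pCore_sup_pPrimeCore 2
        have h3 := map_mono (f := A.subtype) h2
        rw [← MonoidHom.range_eq_map, range_subtype, Subgroup.map_sup] at h3
        refine h3.trans (sup_le (fun a ha => ?_) fun a ha => ?_)
        · exact mem_centralizer_singleton_iff.2
            (comm_of_mem hS (pCoreOf_le_sylow S (hx.trans hn) ha) hs)
        · exact mem_centralizer_singleton_iff.2
            (comm_of_mem hY (mem_sup_left ha) (mem_sup_right (mem_zpowers s)))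
      have h2 := le_of_prime_relIndex hA hr h1 (hx hs) hsA (mem_centralizer_singleton_iff.2 rfl)
      refine hX (Core.isMulCommutative_of_forall fun a ha b hb => ?_)
      have key : ∀ c ∈ centralizer ({x} : Set G), A ≤ centralizer {c} →
          centralizer ({x} : Set G) ≤ centralizer {c} := fun c hc' h => le_of_prime_relIndex hA hr h
        (hx hs) hsA (mem_centralizer_singleton_iff.2 (mem_centralizer_singleton_iff.1 (h2 hc')).symm)
      refine mem_centralizer_singleton_iff.1 (key b hb (fun c hc' => ?_) ha)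
      exact mem_centralizer_singleton_iff.2 (mem_centralizer_singleton_iff.1
        (key c (hA hc') (fun d hd => mem_centralizer_singleton_iff.2 (comm_of_mem hc hd hc'))
          hb)).symm
    · have h1 : (S : Subgroup G) ≤ (pPrimeCore 2 A).map A.subtype ⊔ zpowers s := le_trans
        (Core.le_normalizer_sup hO ((le_centralizer_iff_isMulCommutative.2 hS).trans
          ((centralizer_le (zpowers_le.2 hs)).trans (centralizer_le_normalizer _)))) (h _ hY)
      have h2 : IsCyclic (S : Subgroup G) := ⟨⟨⟨s, hs⟩, fun w => by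
        have h3 : (w : G) ∈ (((pPrimeCore 2 A).map A.subtype ⊔ zpowers s : Subgroup G) : Set G) := h1 w.2
        rw [coe_mul_of_right_le_normalizer_left _ _ ((zpowers_le.2 hs).trans hO)] at h3
        obtain ⟨o, ho, _, ⟨i, rfl⟩, e⟩ := h3
        simp only at e
        have h4 : o ∈ (S : Subgroup G) := by
          rw [eq_mul_inv_of_mul_eq e]; exact mul_mem w.2 (inv_mem (zpow_mem hs i))
        obtain rfl := Transfer.eq_one_of_coprime_of_mem_isPGroup S.isPGroup'
          (Nat.Coprime.coprime_dvd_left (orderOf_dvd_natCard _ ho)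
            (by rw [card_subtype]; exact Core.coprime_card_pPrimeCore 2)) h4
        exact ⟨i, Subtype.ext (by simpa using e)⟩⟩⟩
      have s1 : s ≠ 1 := by rintro rfl; exact hsA (one_mem _)
      have h3 : (Nat.card G).minFac = 2 := (Nat.minFac_eq_two_iff _).2 (by
        obtain ⟨k, hk⟩ := IsPGroup.iff_orderOf.1 S.isPGroup' ⟨s, hs⟩
        rw [orderOf_mk] at hk
        refine dvd_trans ?_ (orderOf_dvd_natCard s)
        rw [hk]
        refine dvd_pow_self 2 ?_
        rintro rfl
        exact s1 (orderOf_eq_one_iff.1 hk))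
      exact s1 (h.eq_one_of_central hna S hs fun n hn =>
        (IsCyclic.normalizer_le_centralizer h3 h2 hn s hs).symm)
  · exfalso
    have := Fact.mk hp
    let y : centralizer ({x} : Set G) := ⟨x, mem_centralizer_singleton_iff.2 rfl⟩
    obtain ⟨P, hP⟩ := (IsPGroup.of_card (p := orderOf x) (G := zpowers y) (n := 1) (by
      rw [Nat.card_zpowers, pow_one, orderOf_mk])).exists_le_sylow
    obtain ⟨P', hP'⟩ := (P.isPGroup'.map (centralizer ({x} : Set G)).subtype).exists_le_sylow
    have : IsMulCommutative (P : Subgroup (centralizer ({x} : Set G))) :=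
      Core.isMulCommutative_of_forall fun a ha b hb => Subtype.ext
        (comm_of_mem (h.sylow_comm hna P') (hP' (mem_map_of_mem _ ha)) (hP' (mem_map_of_mem _ hb)))
    have := eq_one_of_transfer P (hP (mem_zpowers y))
      (fun n _ => Subtype.ext (mem_centralizer_singleton_iff.1 n.2)) (h3 ▸ mem_top y)
    have e : x = 1 := congrArg Subtype.val this
    rw [e, orderOf_one] at hp
    exact Nat.not_prime_one hp

theorem SN.exists_hypI (h2 : 2 ∣ Nat.card G) : ∃ B : Subgroup G, HypI B ∧ IsMulCommutative B ∧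
    (S : Subgroup G) ≤ B ∧ normalizer (B : Set G) = normalizer ((S : Subgroup G) : Set G) ∧
      (B.relIndex (normalizer (B : Set G))).Prime := by
  have hS := h.sylow_comm hna S
  obtain ⟨z, hz⟩ := exists_prime_orderOf_dvd_card' (G := (S : Subgroup G)) 2
    (S.dvd_card_of_dvd_card h2)
  have z1 : (z : G) ≠ 1 := fun e => by simp [show z = 1 from Subtype.ext e] at hz
  have z2 : (z : G) * z = 1 := by
    rw [← sq]; exact congrArg Subtype.val (orderOf_dvd_iff_pow_eq_one.1 hz.dvd)
  have hc := fun {x} => h.eq_one_of_central hna S (x := x)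
  have hN : ¬ normalizer ((S : Subgroup G) : Set G) ≤ centralizer ((S : Subgroup G) : Set G) :=
    fun e => z1 (hc z.2 fun n hn => (e hn z z.2).symm)
  rcases h.trichotomy (X := normalizer ((S : Subgroup G) : Set G))
    (fun e => hN fun n hn s hs => comm_of_mem e (le_normalizer hs) hn) with
    ⟨B, hB, hn, hBc, hr⟩ | ⟨-, h3⟩
  swap
  · exact (hN (h3 S (lt_of_le_of_ne le_normalizer fun e => hN
      (e ▸ le_centralizer_iff_isMulCommutative.2 hS)) le_rfl)).elim
  have key : ∀ s ∈ (S : Subgroup G), s ≠ 1 → B ≤ centralizer {s} → centralizer {s} ≤ B :=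
    fun s hs s1 hle y hy => by
      by_contra hyB
      exact s1 (hc hs fun n hn => mem_centralizer_singleton_iff.1 (le_of_prime_relIndex hB hr hle
        (h.cent_le hna S s1 (fun w hw => mem_centralizer_singleton_iff.2 (comm_of_mem hS hw hs)) hy)
        hyB hy hn))
  have hSB : (S : Subgroup G) ≤ B := fun s hs => by
    by_contra hsB
    refine hsB (key s hs (by rintro rfl; exact hsB (one_mem _)) (fun b hb => ?_)
      (mem_centralizer_singleton_iff.2 rfl))
    have h1 : b * s * b⁻¹ * s⁻¹ ∈ (S : Subgroup G) :=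
      mul_mem (Frob.conj_mem_of_mem_normalizer (hB hb) hs) (inv_mem hs)
    have h3 : b * s * b⁻¹ * s⁻¹ ∈ B := by
      rw [mul_assoc, mul_assoc, ← mul_assoc s]
      exact mul_mem hb (Frob.conj_mem_of_mem_normalizer (hn (le_normalizer hs)) (inv_mem hb))
    by_contra hbs
    exact hsB (key _ h1 (fun e => hbs (mem_centralizer_singleton_iff.2
      (mul_inv_eq_iff_eq_mul.1 (mul_inv_eq_one.1 e))))
      (fun d hd => mem_centralizer_singleton_iff.2 (comm_of_mem hBc hd h3))
      (mem_centralizer_singleton_iff.2 (comm_of_mem hS hs h1)))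
  have hNe := le_antisymm (normalizer_le_of_sylow_le S hBc hSB) hn
  refine ⟨B, ⟨fun w hw w1 w2 g => ⟨fun e => key w ?_ w1 (fun d hd =>
    mem_centralizer_singleton_iff.2 (comm_of_mem hBc hd hw)) (mem_centralizer_singleton_iff.2 e),
    fun hg => comm_of_mem hBc hg hw⟩, z, hSB z.2, z1, z2⟩, hBc, hSB, hNe, hNe ▸ hr⟩
  refine pCoreOf_le_sylow S (hSB.trans le_normalizer) (Core.le_pCoreOf (zpowers_le.2 hw)
    ((le_centralizer_iff_isMulCommutative.2 hBc).trans ((centralizer_le (zpowers_le.2 hw)).trans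
      (centralizer_le_normalizer _))) (IsPGroup.of_card (n := 1) ?_) (mem_zpowers w))
  rw [Nat.card_zpowers, pow_one]
  exact orderOf_eq_prime (by rwa [sq]) w1

omit S in
theorem SN.main (h2 : 2 ∣ Nat.card G) : ∃ n : ℕ, 2 ≤ n ∧ (2 ^ n - 1).Prime ∧
    Nonempty (G ≃* Matrix.ProjectiveSpecialLinearGroup (Fin 2) (GaloisField 2 n)) := by
  obtain ⟨S⟩ : Nonempty (Sylow 2 G) := inferInstance
  obtain ⟨B, hI, hc, hS, hN, hr⟩ := h.exists_hypI hna S h2
  have hM : normalizer (B : Set G) ≠ ⊤ := fun e => by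
    rcases (normalizer_eq_top_iff.1 e).eq_bot_or_eq_top with e | e
    · exact hI.ne_bot e
    · exact hna ⟨⟨fun a b => comm_of_mem hc (e ▸ mem_top a) (e ▸ mem_top b)⟩⟩
  obtain ⟨t, ht, t2⟩ := hI.exists_inv_not_mem hM
  have htB : t ∉ B := fun e => ht (le_normalizer e)
  have ti := inv_eq_of_mul_self t2
  have hα : ∀ x ∈ B, x ≠ 1 → ∀ g, g * x = x * g → g ∈ normalizer (B : Set G) :=
    fun x hx x1 g e => hN ▸ h.cent_le hna S x1
      (fun s hs => mem_centralizer_singleton_iff.2 (comm_of_mem hc (hS hs) hx))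
      (mem_centralizer_singleton_iff.2 e)
  obtain ⟨z, hz, z1, z2⟩ := hI.ex
  obtain ⟨g, hg⟩ := hI.exists_conj hz z1 z2 htB t2
  have hC : HypC B t := ⟨hI, fun x hx x1 y e => by
    by_contra hy
    obtain ⟨b, hb, hk⟩ := hI.exists_inverted ht t2 (hα x hx x1 y e)
    have hkM := mul_mem (hα x hx x1 y e) (le_normalizer hb)
    have hkB : y * b ∉ B := fun e => hy ((B.mul_mem_cancel_right hb).1 e)
    have hkx : x * (y * b) = y * b * x := by
      rw [← mul_assoc, ← e, mul_assoc, mul_assoc, comm_of_mem hc hx hb]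
    generalize y * b = k at hk hkM hkB hkx
    have k2 : k * k ≠ 1 := fun e => hkB (hI.mem_of_mem_norm hkM e)
    have htk : t * k ≠ k * t := fun e => k2 (by
      rwa [e, mul_inv_cancel_right, eq_inv_iff_mul_eq_one] at hk)
    have hY := h.comm (mem_norm_cent_of_inv hk) fun e => htk (mem_centralizer_singleton_iff.1 e)
    have hx1 : x ∈ centralizer ({k} : Set G) := mem_centralizer_singleton_iff.2 hkx
    have hx2 := Frob.conj_mem_of_mem_normalizer (mem_norm_cent_of_inv hk) hx1
    have hxx := comm_of_mem hY hx1 hx2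
    have hBg : ∀ w, w * t = t * w → g⁻¹ * w * g ∈ B := fun w e => hI.mem_of_comm hz z1 z2 (by
      calc g⁻¹ * w * g * z = g⁻¹ * (w * (g * z * g⁻¹)) * g := by group
        _ = _ := by rw [← hg, e, hg]; group)
    have w1 : x * (t * x * t⁻¹) ≠ 1 := fun e =>
      x1 (hI.eq_one_of_inverted htB t2 hx (eq_inv_of_mul_eq_one_right e))
    have hw := hBg (x * (t * x * t⁻¹)) (by
      calc _ = x * t * x := by group
        _ = t * (t * x * t⁻¹ * x) := by rw [ti, ← mul_assoc, ← mul_assoc, ← mul_assoc, t2, one_mul]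
        _ = _ := by rw [← hxx])
    have hxM := hα _ hw (fun e => w1 (eq_one_of_conj' e)) (g⁻¹ * x * g) (by
      calc _ = g⁻¹ * (x * (x * (t * x * t⁻¹))) * g := by group
        _ = _ := by nth_rw 1 [hxx]; group)
    have h3 := mul_mem (Frob.conj_mem_of_mem_normalizer hxM hz) hz
    have h4 : g⁻¹ * x * g * z * (g⁻¹ * x * g)⁻¹ * z = g⁻¹ * (x * (t * x * t⁻¹)⁻¹) * g := by
      rw [show (t * x * t⁻¹)⁻¹ = t * x⁻¹ * t⁻¹ by group, ti, hg]; group
    have h5 := hI.comm (Frob.conj_mem_of_mem_normalizer hxM hz) (conj_mul_self z2) hz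
    have h6 := conj_mul_self (g := g⁻¹ * x * g) z2
    by_cases u1 : g⁻¹ * x * g * z * (g⁻¹ * x * g)⁻¹ * z = 1
    · rw [h4] at u1
      have : x * (t * x * t⁻¹)⁻¹ = 1 := eq_one_of_conj' u1
      exact ht (hα x hx x1 t (mul_inv_eq_iff_eq_mul.1 (mul_inv_eq_one.1 this).symm))
    have h7 : g⁻¹ * k * g ∈ B := hI.mem_of_comm h3 u1 (by
      generalize g⁻¹ * x * g * z * (g⁻¹ * x * g)⁻¹ = v at h5 h6
      rw [mul_assoc, ← mul_assoc z, h5, mul_assoc, z2, mul_one, h6]) (by
      have := mem_centralizer_singleton_iff.1 (mul_mem hx1 (inv_mem hx2))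
      rw [h4]
      generalize x * (t * x * t⁻¹)⁻¹ = u at this
      calc _ = g⁻¹ * (k * u) * g := by group
        _ = _ := by rw [← this]; group)
    refine htk ?_
    have := comm_of_mem hc hz h7
    calc t * k = g * (z * (g⁻¹ * k * g)) * g⁻¹ := by rw [hg]; group
      _ = _ := by rw [this, hg]; group,
    SetLike.not_le_iff_exists.1 fun e => hr.one_lt.ne' (relIndex_eq_one.2 e), ht, t2⟩
  obtain ⟨n, hn, -, hK, e⟩ := hC.main fun x hx j hj => comm_of_mem hc hx (hC.K_conj_mem hj hx)
  refine ⟨n, hn, ?_, e⟩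
  have h1 := (B.subgroupOf (normalizer (B : Set G))).card_mul_index
  rw [hC.card_norm, Nat.card_congr (subgroupOfEquivOfLe le_normalizer).toEquiv, mul_comm] at h1
  rw [← hK, ← Nat.eq_of_mul_eq_mul_right Nat.card_pos h1]
  exact hr

end main

end Cfsg.Agent.BSW
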