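import Mathlib
import Cfsg.Agent.Lib.OO.CF4

/-!
Feit's coherence argument in an integral lattice with an orthonormal basis.
-/

set_option autoImplicit false

namespace Cfsg.Agent.BSW

open Finset

variable {L : Type*} [AddCommGroup L] {B : L →ₗ[ℤ] L →ₗ[ℤ] ℤ} {deg : L →ₗ[ℤ] ℤ} {irr : L → Prop}

/-- The properties of the lattice of virtual characters which are used. -/
structure Lat (B : L →ₗ[ℤ] L →ₗ[ℤ] ℤ) (deg : L →ₗ[ℤ] ℤ) (irr : L → Prop) : Prop where
  symm : ∀ x y, B x y = B y x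
  nonneg : ∀ x, 0 ≤ B x x
  eq_zero : ∀ x, B x x = 0 → x = 0
  deg_ne : ∀ x, B x x = 1 → deg x ≠ 0
  two : ∀ x, B x x = 2 → ∃ y, B y y = 1 ∧ B x y = 1
  irr_one : ∀ x, irr x → B x x = 1
  odd : ∀ x y, Odd (B x y) → ∃ z, irr z ∧ Odd (B x z) ∧ Odd (B y z)

theorem Lat.bessel (hL : Lat B deg irr) {ι : Type*} [DecidableEq ι] {J : Finset ι} {x : ι → L}
    (hx : ∀ i ∈ J, ∀ j ∈ J, B (x i) (x j) = if i = j then 1 else 0) (y : L) :
    B (y - ∑ j ∈ J, B y (x j) • x j) (y - ∑ j ∈ J, B y (x j) • x j) =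
      B y y - ∑ j ∈ J, B y (x j) ^ 2 := by
  have h1 : B y (∑ j ∈ J, B y (x j) • x j) = ∑ j ∈ J, B y (x j) ^ 2 := by
    simp only [map_sum, map_smul, smul_eq_mul, sq]
  have h2 : B (∑ j ∈ J, B y (x j) • x j) (∑ j ∈ J, B y (x j) • x j) = ∑ j ∈ J, B y (x j) ^ 2 := by
    rw [map_sum]
    refine sum_congr rfl fun i hi => ?_
    rw [map_smul, hL.symm (∑ j ∈ J, _) (x i), map_sum (B (x i)), sum_eq_single i (fun j hj h => by
      rw [map_smul, hx i hi j hj, if_neg h.symm, smul_zero]) fun h => (h hi).elim, map_smul,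
      hx i hi i hi, if_pos rfl]
    simp [sq]
  rw [map_sub, LinearMap.map_sub₂, LinearMap.map_sub₂, h2, hL.symm (∑ j ∈ J, _) y, h1]
  ring

theorem Lat.sq_le (hL : Lat B deg irr) {x : L} (hx : B x x = 1) (y : L) :
    B (y - B y x • x) (y - B y x • x) = B y y - B y x ^ 2 := by
  simpa using hL.bessel (J := {()}) (x := fun _ => x) (by simpa using hx) y

theorem eq_one_of_sq_le {a d S : ℤ} (a0 : a ≠ 0) (d0 : 0 < d) (hS : d < S)
    (h : 0 ≤ 1 + 2 * d * a - a ^ 2 * S) : a = 1 := by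
  by_contra a1
  have : a ≤ -1 ∨ 2 ≤ a := by omega
  rcases this with a2 | a2
  · nlinarith [mul_nonneg (sq_nonneg a) (show 0 ≤ S by omega)]
  · nlinarith [mul_nonneg (sq_nonneg a) (show 0 ≤ S - (d + 1) by omega),
      mul_nonneg (mul_nonneg (show 0 ≤ a by omega) (sub_nonneg.2 a2)) d0.le]

theorem eq_neg_one_of_sq_le {a k S : ℤ} (a0 : a ≠ 0) (k0 : 0 ≤ k) (hS : k + 2 ≤ S)
    (h : 0 ≤ k - 2 * a - S * a ^ 2) : a = -1 := by
  by_contra a1
  have : a ≤ -2 ∨ 1 ≤ a := by omega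
  have h1 := mul_nonneg (sub_nonneg.2 hS) (sq_nonneg a)
  have h2 := mul_nonneg k0 (show 0 ≤ a ^ 2 - 1 by rcases this with a2 | a2 <;> nlinarith)
  rcases this with a2 | a2 <;> nlinarith

variable {ι : Type*} [DecidableEq ι]

/-- A family of induced characters. -/
structure Fam (B : L →ₗ[ℤ] L →ₗ[ℤ] ℤ) (deg : L →ₗ[ℤ] ℤ) (irr : L → Prop) (I : Finset ι) (u : ι → L)
    (d : ι → ℤ) (k D : ℤ) : Prop extends Lat B deg irr where
  dot : ∀ i ∈ I, ∀ j ∈ I, B (u i) (u j) = (if i = j then 1 else 0) + k * d i * d j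
  deg_u : ∀ i ∈ I, deg (u i) = d i * D
  pos : ∀ i ∈ I, 0 < d i

/-- `u i - d i • w` is plus or minus an irreducible character. -/
def Good (B : L →ₗ[ℤ] L →ₗ[ℤ] ℤ) (u : ι → L) (d : ι → ℤ) (w : L) (i : ι) : Prop :=
  B (u i - d i • w) (u i - d i • w) = 1

namespace Fam

variable {I J : Finset ι} {u : ι → L} {d : ι → ℤ} {k D : ℤ} (h : Fam B deg irr I u d k D) {w : L}
  {i j n o : ι}
include h

theorem dot_x (hi : i ∈ I) (hj : j ∈ I) (w : L) : B (u i - d i • w) (u j - d j • w) =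
    (if i = j then 1 else 0) + k * d i * d j - d j * B (u i) w - d i * B (u j) w +
      d i * d j * B w w := by
  simp only [map_sub, map_smul, LinearMap.sub_apply, LinearMap.smul_apply, smul_eq_mul,
    h.dot i hi j hj, h.symm w (u j)]
  ring

theorem good_iff (hi : i ∈ I) : Good B u d w i ↔ 2 * B (u i) w = d i * (k + B w w) := by
  rw [Good, h.dot_x hi hi, if_pos rfl]
  refine ⟨fun e => mul_left_cancel₀ (h.pos i hi).ne' (by linear_combination -e), fun e => ?_⟩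
  linear_combination -d i * e

theorem dot_good (hi : i ∈ I) (hj : j ∈ I) (gj : Good B u d w j) :
    2 * B (u i - d i • w) (u j - d j • w) =
      2 * (if i = j then 1 else 0) + d j * (d i * (k + B w w) - 2 * B (u i) w) := by
  rw [h.dot_x hi hj]
  linear_combination -d i * (h.good_iff hj).1 gj

theorem orth (hJ : J ⊆ I) (gJ : ∀ j ∈ J, Good B u d w j) : ∀ i ∈ J, ∀ j ∈ J,
    B (u i - d i • w) (u j - d j • w) = if i = j then 1 else 0 := fun i hi j hj => by
  have := h.dot_good (hJ hi) (hJ hj) (gJ j hj)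
  rw [← (h.good_iff (hJ hi)).1 (gJ i hi), sub_self, mul_zero, add_zero] at this
  omega

theorem deg_x (hi : i ∈ I) (w : L) : deg (u i - d i • w) = d i * (D - deg w) := by
  rw [map_sub, map_smul, h.deg_u i hi, smul_eq_mul, mul_sub]

theorem deg_ne' (hi : i ∈ I) (gi : Good B u d w i) : D - deg w ≠ 0 := fun e =>
  h.deg_ne _ gi (by rw [h.deg_x hi, e, mul_zero])

theorem exists_dot (hJ : J ⊆ I) (gJ : ∀ j ∈ J, Good B u d w j) (ho : o ∈ J) (d1 : d o = 1)
    (hn : n ∈ I) (gn : ¬ Good B u d w n) : ∃ a, a ≠ 0 ∧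
      (∀ j ∈ J, B (u n - d n • w) (u j - d j • w) = a * d j) ∧
      B (u n - d n • w) (u n - d n • w) = 1 + 2 * d n * a := by
  have h1 := (h.good_iff (hJ ho)).1 (gJ o ho)
  rw [d1, one_mul] at h1
  refine ⟨d n * B (u o) w - B (u n) w, fun e => gn ((h.good_iff hn).2 ?_), fun j hj => ?_, ?_⟩
  · linear_combination d n * h1 - 2 * e
  · have := h.dot_good hn (hJ hj) (gJ j hj)
    rw [if_neg (by rintro rfl; exact gn (gJ _ hj)), ← h1] at this
    linarith
  · rw [h.dot_x hn hn, if_pos rfl]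
    linear_combination -d n ^ 2 * h1

/-- Extension of a coherent set. -/
theorem sum_le (hJ : J ⊆ I) (gJ : ∀ j ∈ J, Good B u d w j) (ho : o ∈ J) (d1 : d o = 1)
    (hn : n ∈ I) (gn : ¬ Good B u d w n) : ∑ j ∈ J, d j ^ 2 ≤ 2 * d n := by
  obtain ⟨a, a0, h1, h2⟩ := h.exists_dot hJ gJ ho d1 hn gn
  have h3 := h.bessel (h.orth hJ gJ) (u n - d n • w)
  rw [h2, sum_congr rfl fun j hj => congrArg (· ^ 2) (h1 j hj),
    sum_congr rfl fun j hj => congrArg (· • (u j - d j • w)) (h1 j hj)] at h3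
  simp only [mul_pow, ← mul_sum] at h3
  have h4 := h.nonneg (u n - d n • w - ∑ j ∈ J, (a * d j) • (u j - d j • w))
  have h5 := h.pos n hn
  by_contra! hlt
  obtain rfl := eq_one_of_sq_le a0 h5 (by omega) (h3 ▸ h4)
  have h6 := congrArg deg (sub_eq_zero.1 (h.eq_zero _ (le_antisymm (by omega) h4)))
  rw [h.deg_x hn, map_sum, sum_congr rfl fun j hj => by
    rw [map_smul, h.deg_x (hJ hj), one_mul, smul_eq_mul, ← mul_assoc, ← sq], ← sum_mul] at h6
  have := mul_right_cancel₀ (h.deg_ne' (hJ ho) (gJ o ho)) h6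
  omega

theorem base (hJ : J ⊆ I) (d1 : ∀ j ∈ J, d j = 1) (h3 : 2 < J.card) :
    ∃ w, ∀ j ∈ J, Good B u d w j := by
  obtain ⟨i, j, n, hi, hj, hn, ij, iN, jn⟩ := two_lt_card_iff.1 h3
  have hs : ∀ w, Good B u d w i → Good B u d w j → Good B u d w n → ∀ o ∈ J, Good B u d w o :=
    fun w gi gj gn o ho => by
      by_contra go
      have := h.sum_le (J := {i, j, n}) (w := w) (by simp [insert_subset_iff, hJ hi, hJ hj, hJ hn])
        (by simp [gi, gj, gn]) (mem_insert_self _ _) (d1 i hi) (hJ ho) go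
      rw [sum_insert (by simp [ij, iN]), sum_pair jn, d1 i hi, d1 j hj, d1 n hn, d1 o ho] at this
      omega
  obtain ⟨y, y1, y2⟩ := h.two (u i - u j) (by
    simp only [map_sub, LinearMap.sub_apply, h.dot i (hJ hi) i (hJ hi), h.dot i (hJ hi) j (hJ hj),
      h.dot j (hJ hj) i (hJ hi), h.dot j (hJ hj) j (hJ hj), d1 i hi, d1 j hj, if_neg ij,
      if_neg ij.symm, if_pos]
    ring)
  have gi : Good B u d (u i - y) i := by simpa [Good, d1 i hi] using y1
  have gj : Good B u d (u i - y) j := by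
    rw [h.good_iff (hJ hi), d1 i hi] at gi
    rw [h.good_iff (hJ hj), d1 j hj, ← gi]
    simp only [map_sub, LinearMap.sub_apply, h.dot i (hJ hi) i (hJ hi), h.dot j (hJ hj) i (hJ hi),
      d1 i hi, d1 j hj, if_neg ij.symm, if_pos] at y2 ⊢
    linear_combination 2 * y2
  generalize u i - y = w at gi gj
  by_cases gn : Good B u d w n
  · exact ⟨w, hs w gi gj gn⟩
  have hJ' : ({i, j} : Finset ι) ⊆ I := by simp [insert_subset_iff, hJ hi, hJ hj]
  have gJ : ∀ o ∈ ({i, j} : Finset ι), Good B u d w o := by simp [gi, gj]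
  obtain ⟨a, a0, h1, h2⟩ := h.exists_dot hJ' gJ (mem_insert_self _ _) (d1 i hi) (hJ hn) gn
  have h4 := h.bessel (h.orth hJ' gJ) (u n - d n • w)
  have h5 := h.orth hJ' gJ i (by simp) j (by simp)
  rw [sum_pair ij, sum_pair ij, h1 i (by simp), h1 j (by simp), h2] at h4
  simp only [Good, d1 i hi, d1 j hj, d1 n hn, one_smul, mul_one] at h4 h5 gi gj
  obtain rfl := eq_one_of_sq_le a0 one_pos one_lt_two (by
    linarith [h.nonneg (u n - w - (a • (u i - w) + a • (u j - w)))])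
  refine ⟨_, hs (w + (u i - w) + (u j - w)) ?_ ?_ ?_⟩
  · rw [Good, d1 i hi, one_smul, show u i - (w + (u i - w) + (u j - w)) = -(u j - w) by abel]
    simpa only [map_neg, LinearMap.neg_apply, neg_neg] using gj
  · rw [Good, d1 j hj, one_smul, show u j - (w + (u i - w) + (u j - w)) = -(u i - w) by abel]
    simpa only [map_neg, LinearMap.neg_apply, neg_neg] using gi
  · rw [Good, d1 n hn, one_smul, show u n - (w + (u i - w) + (u j - w)) =
      u n - w - ((1 : ℤ) • (u i - w) + (1 : ℤ) • (u j - w)) by simp only [one_smul]; abel, h4]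
    ring

theorem dot_w (hJ : J ⊆ I) (gJ : ∀ j ∈ J, Good B u d w j) (d1 : ∀ j ∈ J, d j = 1) (k0 : 0 ≤ k)
    (hc : k + 2 ≤ J.card) (hD : ¬ k + 1 ∣ D) : B w w = k := by
  obtain ⟨o, ho⟩ : J.Nonempty := card_pos.1 (by omega)
  have h0 := (h.good_iff (hJ ho)).1 (gJ o ho)
  have h1 : ∀ j ∈ J, B w (u j - d j • w) = B (u o) w - B w w := fun j hj => by
    have := (h.good_iff (hJ hj)).1 (gJ j hj)
    rw [d1 j hj] at this ⊢
    rw [d1 o ho] at h0
    rw [one_smul, map_sub, h.symm w (u j)]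
    omega
  have h3 := h.bessel (h.orth hJ gJ) w
  rw [sum_congr rfl fun j hj => congrArg (· ^ 2) (h1 j hj),
    sum_congr rfl fun j hj => congrArg (· • (u j - d j • w)) (h1 j hj), sum_const,
    nsmul_eq_mul] at h3
  rw [d1 o ho] at h0
  generalize ha : B (u o) w - B w w = a at h3
  have h4 := h.nonneg (w - ∑ j ∈ J, a • (u j - d j • w))
  by_contra hne
  obtain rfl := eq_neg_one_of_sq_le (a := a) (by omega) k0 hc (by omega)
  have h6 := congrArg deg (sub_eq_zero.1 (h.eq_zero _ (le_antisymm (by omega) h4)))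
  rw [map_sum, sum_congr rfl fun j hj => by rw [map_smul, h.deg_x (hJ hj), d1 j hj], sum_const,
    nsmul_eq_mul, show (J.card : ℤ) = k + 2 by omega, smul_eq_mul] at h6
  exact hD ⟨deg w - D, by linear_combination h6⟩

theorem dot_x_w (hi : i ∈ I) (gi : Good B u d w i) (hw : B w w = k) : B (u i - d i • w) w = 0 := by
  have := (h.good_iff hi).1 gi
  rw [map_sub, map_smul, LinearMap.sub_apply, LinearMap.smul_apply, smul_eq_mul, hw]
  rw [hw] at this
  linarith

theorem dot_x_u (hi : i ∈ I) (gi : Good B u d w i) (hj : j ∈ I) (gj : Good B u d w j)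
    (hw : B w w = k) : B (u i - d i • w) (u j) = if i = j then 1 else 0 := by
  have := h.orth (J := {i, j}) (w := w) (by simp [insert_subset_iff, hi, hj]) (by simp [gi, gj])
    i (by simp) j (by simp)
  rwa [map_sub, map_smul, h.dot_x_w hi gi hw, smul_zero, sub_zero] at this

/-- The case of a Suzuki 2-group of order `q ^ 3`. -/
theorem cube (hJ : J ⊆ I) (gJ : ∀ j ∈ J, Good B u d w j) (d1 : ∀ j ∈ J, d j = 1) (k0 : 0 ≤ k)
    (hc : (J.card : ℤ) = k + 2) (hw : B w w = k) (hn : n ∈ I) (gn : ¬ Good B u d w n)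
    (dn : d n = k + 1) : ∃ z b y, irr z ∧ Odd b ∧ Odd y ∧ y ^ 2 ≤ k + 1 ∧
      (∀ j ∈ J, B (u j) z = b) ∧ B (u n) z = (k + 1) * b + y := by
  obtain ⟨o, ho⟩ : J.Nonempty := card_pos.1 (by omega)
  obtain ⟨a, a0, h1, h2⟩ := h.exists_dot hJ gJ ho (d1 o ho) hn gn
  have h3 := h.bessel (h.orth hJ gJ) (u n - d n • w)
  rw [h2, sum_congr rfl fun j hj => congrArg (· ^ 2) ((h1 j hj).trans (by rw [d1 j hj, mul_one])),
    sum_congr rfl fun j hj => congrArg (· • (u j - d j • w))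
      ((h1 j hj).trans (by rw [d1 j hj, mul_one])), sum_const, nsmul_eq_mul, hc] at h3
  have h4 := h.nonneg (u n - d n • w - ∑ j ∈ J, a • (u j - d j • w))
  obtain rfl := eq_one_of_sq_le a0 (h.pos n hn) (S := k + 2) (by omega) (by linarith)
  have hx := fun j hj => h.dot_x_w (hJ hj) (gJ j hj) hw
  have h5 : B (u n - d n • w) w = -1 := by
    rw [h.dot_x hn hn, if_pos rfl, hw] at h2
    rw [map_sub, map_smul, LinearMap.sub_apply, LinearMap.smul_apply, hw, smul_eq_mul]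
    exact mul_left_cancel₀ (mul_pos two_pos (h.pos n hn)).ne' (by linear_combination -h2)
  obtain ⟨z, hz, ob, oy⟩ := h.odd w (u n - d n • w - ∑ j ∈ J, (1 : ℤ) • (u j - d j • w)) (by
    rw [h.symm, map_sub, LinearMap.sub_apply, h5, map_sum, LinearMap.sum_apply,
      sum_eq_zero fun j hj => by rw [one_smul, hx j hj]]
    decide)
  have h6 : ∀ j ∈ J, B (u j - d j • w) z = 0 := fun j hj => by
    by_contra h0
    have h7 := h.sq_le (gJ j hj) z
    rw [h.irr_one z hz, h.symm z] at h7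
    have h8 := h.nonneg (z - B (u j - d j • w) z • (u j - d j • w))
    have h9 := sub_eq_zero.1 (h.eq_zero _ (le_antisymm (by
      have := sq_pos_of_ne_zero h0
      omega) h8))
    rw [h9, map_smul, h.symm w, hx j hj, smul_zero] at ob
    exact absurd ob (by decide)
  refine ⟨z, _, _, hz, ob, oy, ?_, fun j hj => ?_, ?_⟩
  · have h7 := h.sq_le (h.irr_one z hz) (u n - d n • w - ∑ j ∈ J, (1 : ℤ) • (u j - d j • w))
    have := h7 ▸ h.nonneg _
    rw [h3] at this
    omega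
  · have := h6 j hj
    rwa [d1 j hj, one_smul, map_sub, LinearMap.sub_apply, sub_eq_zero] at this
  · rw [map_sub, LinearMap.sub_apply, map_sum, LinearMap.sum_apply,
      sum_eq_zero fun j hj => by rw [one_smul, h6 j hj], map_sub, map_smul, LinearMap.sub_apply,
      LinearMap.smul_apply, dn, smul_eq_mul]
    ring

end Fam

theorem not_cube_dvd {q b y : ℤ} (hq : 4 ≤ q) (b0 : 0 ≤ b) (ob : Odd b) (oy : Odd y)
    (hy : y ^ 2 ≤ q) : ¬ b * (q ^ 2 + q + 1) + q * y ∣ q ^ 3 + 1 := by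
  rintro ⟨m, hm⟩
  have b1 : 1 ≤ b := by obtain ⟨c, rfl⟩ := ob; omega
  have y1 : 2 * y ≤ q := by nlinarith
  have y2 : -q ≤ 2 * y := by nlinarith
  have m0 : 0 < m := by
    have : 0 < b * (q ^ 2 + q + 1) + q * y := by nlinarith
    by_contra! h
    nlinarith [mul_nonneg this.le (neg_nonneg.2 h), pow_pos (show 0 < q by omega) 3]
  obtain ⟨j, hj⟩ : ∃ j, b * m = 1 + j * q :=
    ⟨q ^ 2 - b * m * (q + 1) - y * m, by linear_combination -hm⟩
  have h1 : y * m = q ^ 2 - q - 1 - j * (q ^ 2 + q + 1) :=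
    mul_left_cancel₀ (show q ≠ 0 by omega) (by linear_combination -hm - (q ^ 2 + q + 1) * hj)
  have h2 : y * (1 + j * q) = b * (q ^ 2 - q - 1 - j * (q ^ 2 + q + 1)) := by
    rw [← h1, ← hj]; ring
  have j0 : 0 ≤ j := by
    by_contra! h
    nlinarith [mul_pos (show 0 < b by omega) m0]
  have : j = 0 ∨ j = 1 ∨ 2 ≤ j := by omega
  rcases this with rfl | rfl | j2
  · nlinarith [mul_nonneg (sub_nonneg.2 b1) (show 0 ≤ q ^ 2 - q - 1 by nlinarith)]
  · have : y = -2 * b := mul_left_cancel₀ (show q + 1 ≠ 0 by omega) (by linear_combination h2)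
    obtain ⟨c, rfl⟩ := oy
    omega
  · have h3 : 0 ≤ j * (q ^ 2 + q + 1) - (q ^ 2 - q - 1) := by nlinarith
    have h4 : 0 ≤ 1 + j * q := by positivity
    nlinarith [mul_nonneg (sub_nonneg.2 b1) h3, mul_nonneg (sub_nonneg.2 y2) h4,
      mul_nonneg (sub_nonneg.2 j2) (sq_nonneg q)]

open OO in
theorem exists_lat {G : Type*} [Group G] [Finite G] (Γ : Subgroup G) :
    ∃ (B : ZIrr Γ →ₗ[ℤ] ZIrr Γ →ₗ[ℤ] ℤ) (deg : ZIrr Γ →ₗ[ℤ] ℤ),
      Lat B deg (fun x => IsIrr Γ x) ∧ (∀ x y, (B x y : ℂ) = ⟪x.1, y.1⟫[Γ]) ∧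
        ∀ x, (deg x : ℂ) = x.1 1 := by
  classical
  choose b hb using fun x y : ZIrr Γ => Cint_cfdot_vchar x.2 y.2
  choose e he using fun x : ZIrr Γ => Cint_vchar1 x.2
  have inj : ∀ {m n : ℤ}, (m : ℂ) = n → m = n := fun h => Int.cast_injective h
  have hn : ∀ x, cfnorm Γ x.1 = b x x := fun x => cfnorm_eq_of_cfdot (by simp [hb])
  refine ⟨LinearMap.mk₂ ℤ b (fun x y z => inj (by simp [← hb, cfdotDl]))
    (fun c x y => inj (by simp [← hb, cfdotMzl, -zsmul_eq_mul])) (fun x y z => inj (by simp [← hb, cfdotDr]))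
    (fun c x y => inj (by simp [← hb, cfdotMzr, -zsmul_eq_mul])),
    ⟨⟨e, fun x y => inj (by simp [← he])⟩, fun c x => inj (by simp [← he])⟩,
    ⟨fun x y => inj ?_, fun x => ?_, fun x h => ?_, fun x h h0 => ?_, fun x h => ?_, fun x h => ?_,
      fun x y h => ?_⟩, fun x y => (hb x y).symm, fun x => (he x).symm⟩
  all_goals simp only [LinearMap.mk₂_apply] at *
  · rw [← hb, ← hb, cfdot_vchar_comm x.2 y.2]
  · exact_mod_cast hn x ▸ cfnorm_ge0 (H := Γ) x.1
  · exact Subtype.ext ((cfnorm_eq0 (vchar_mem_CF x.2)).1 (by simp [hn, h]))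
  · exact (vchar_norm1P x.2 (by simp [hn, h])).one_ne_zero ((he x).trans (by exact_mod_cast h0))
  · obtain ⟨S, h1, h2, h3, h4⟩ := vchar_small_norm x.2 (by rw [hn, h]; norm_num)
    obtain ⟨y, hy⟩ : S.Nonempty := card_pos.1 (by
      rw [hn, h] at h3
      exact_mod_cast h3 ▸ (by norm_num : (0 : ℝ) < (2 : ℤ)))
    refine ⟨⟨y, (h2 y hy).vchar⟩, inj ?_, inj ?_⟩
    · simp [← hb, (h2 y hy).cfdot_self]
    · rw [← hb, h4, h1.cfdot_sum_subset subset_rfl hy, if_pos hy, Int.cast_one]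
  · exact inj (by simp [← hb, cfdot_irr_self h])
  · by_contra! h0
    have h1 : b x y = ∑ z ∈ (Irr Γ).attach, b x ⟨z, irr_vchar (mem_Irr.1 z.2)⟩ *
        b y ⟨z, irr_vchar (mem_Irr.1 z.2)⟩ := inj (by
      rw [← hb, cfdot_sum_irr (vchar_mem_CF x.2), ← sum_attach]
      push_cast
      refine sum_congr rfl fun z _ => ?_
      rw [← hb, ← hb, (Cint_cfdot_vchar_irr y.2 (mem_Irr.1 z.2)).conj_eq])
    rw [h1, ← Int.not_even_iff_odd] at h
    refine h (even_sum _ fun z _ => ?_)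
    rw [Int.even_mul, ← Int.not_odd_iff_even, ← Int.not_odd_iff_even, ← not_and_or, not_and]
    exact h0 _ (mem_Irr.1 z.2)

end Cfsg.Agent.BSW
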