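import Mathlib
import Cfsg.Agent.Lib.BSW.Bruhat
import Cfsg.Agent.Lib.OO.CF5b
import Cfsg.Agent.Lib.OO.Quo

/-!
Simplicity of a Zassenhaus group of odd degree, and characters induced from the point stabilizer.
-/

set_option autoImplicit false

namespace Cfsg.Agent.BSW.HypC

open Subgroup OO
open scoped ComplexConjugate

variable {G : Type*} [Group G] [Finite G] {H : Subgroup G} {t : G} (hC : HypC H t)
include hC

theorem eq_top_of_normal {M : Subgroup G} (hM : M.Normal) {x : G} (hxM : x ∈ M) (hx : x ∈ H)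
    (x1 : x ≠ 1) : M = ⊤ := by
  obtain ⟨y, hy, j, hj, y', hy', e⟩ := hC.bruhat (hC.t_conj_not_mem hx x1)
  obtain ⟨i, hi, i1⟩ := hC.exists_K_ne_one
  have h1 : t * (j * (y' * y)) ∈ M := by
    have := hM.conj_mem _ (hM.conj_mem x hxM t) y⁻¹
    rwa [hC.t_inv, e, show y⁻¹ * (y * t * j * y') * y⁻¹⁻¹ = t * (j * (y' * y)) by group] at this
  generalize y' * y = z, mul_mem hy' hy = hz at h1
  have h2 : i⁻¹ * (j * z) * i⁻¹ * (j * z)⁻¹ ∈ M := by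
    have := hM.conj_mem _ (mul_mem (hM.conj_mem _ h1 i) (inv_mem h1)) t⁻¹
    rwa [← mul_assoc i, hC.mul_t hi, show t⁻¹ * (t * i⁻¹ * (j * z) * i⁻¹ * (t * (j * z))⁻¹) * t⁻¹⁻¹ =
      i⁻¹ * (j * z) * i⁻¹ * (j * z)⁻¹ by group] at this
  have hjz := mul_mem hj.1 (le_normalizer hz)
  have h3 : i⁻¹ * (j * z) * i⁻¹ * (j * z)⁻¹ ∉ H := fun h => by
    have h4 := hC.K_conj_mem (mul_mem (inv_mem hi) hj)
      (mul_mem hz (hC.K_conj_mem (inv_mem hi) (inv_mem hz)))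
    rw [show i⁻¹ * (j * z) * i⁻¹ * (j * z)⁻¹ = i⁻¹ * j * (z * (i⁻¹ * z⁻¹ * i⁻¹⁻¹)) * (i⁻¹ * j)⁻¹ *
      (i⁻¹ * (j * i⁻¹) * j⁻¹) by group, H.mul_mem_cancel_left h4, hC.K_comm hj (inv_mem hi),
      ← mul_assoc, mul_inv_cancel_right] at h
    exact i1 (inv_eq_one.1 (hC.eq_one_of_mul_self (inv_mem hi)
      (hC.eq_one_of_mem_K (mul_mem (inv_mem hi) (inv_mem hi)) h)))
  have hH : ∀ y ∈ H, y ∈ M := fun y hy => by
    obtain ⟨u, -, e⟩ := Frob.exists_conj_of_fpf (mul_mem (mul_mem (mul_mem (inv_mem hi.1) hjz)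
      (inv_mem hi.1)) (inv_mem hjz)) (hC.fpf h3) hy
    exact (M.mul_mem_cancel_right h2).1 (e ▸ hM.conj_mem _ h2 u)
  obtain ⟨s, hs, s1, s2⟩ := hC.ex
  have hI : ∀ u, u ∉ H → u * u = 1 → u ∈ M := fun u hu u2 => by
    obtain ⟨g, rfl⟩ := hC.exists_conj hs s1 s2 hu u2
    exact hM.conj_mem s (hH s hs) g
  have ht := hI t (fun h => hC.t_not_mem (le_normalizer h)) hC.t2
  have hK : ∀ j ∈ Kt H t, j ∈ M := fun j hj => (M.mul_mem_cancel_left ht).1 (hI _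
    (fun h => hC.t_not_mem ((Subgroup.mul_mem_cancel_right _ hj.1).1 (le_normalizer h))) (by
      rw [mul_assoc, ← mul_assoc j, hC.mul_t hj, ← mul_assoc, ← mul_assoc, hC.t2]; group))
  refine eq_top_iff.2 fun g _ => ?_
  by_cases hg : g ∈ normalizer (H : Set G)
  · obtain ⟨j, hj, y, hy, rfl⟩ := hC.decomp hg
    exact mul_mem (hK j hj) (hH y hy)
  · obtain ⟨x, hx, j, hj, y, hy, rfl⟩ := hC.bruhat hg
    exact mul_mem (mul_mem (mul_mem (hH x hx) ht) (hK j hj)) (hH y hy)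

theorem isSimpleGroup : IsSimpleGroup G := by
  obtain ⟨s, hs, s1, s2⟩ := hC.ex
  have : Nontrivial G := ⟨⟨_, _, s1⟩⟩
  refine ⟨fun N hN => ?_⟩
  by_cases hz : ∃ z ∈ N, z ∈ H ∧ z ≠ 1
  · obtain ⟨z, h1, h2, h3⟩ := hz
    exact Or.inr (hC.eq_top_of_normal hN h1 h2 h3)
  left
  push Not at hz
  have hinv : ∀ s ∈ H, s ≠ 1 → s * s = 1 → ∀ n ∈ N, s * n * s⁻¹ = n⁻¹ := fun s hs s1 s2 n hn => by
    obtain ⟨y, -, e⟩ := Frob.exists_conj_of_fpf (K := N) (h := s)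
      (by rw [normalizer_eq_top]; trivial) (fun n hn e => hz n hn
        (hC.mem_of_comm hs s1 s2 e.symm)) hn
    have := conj_mul_self (g := y) s2
    rw [e] at this
    rw [inv_eq_of_mul_self s2, eq_inv_iff_mul_eq_one, mul_eq_one_comm, ← this]
    group
  obtain ⟨i, hi, i1⟩ := hC.exists_K_ne_one
  have hu := hC.K_conj_mem hi hs
  refine eq_bot_iff.2 fun n hn => hz n hn (hC.cc _ (mul_mem hu hs) (fun e => s1 (hC.fpf_K hi i1 s hs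
    (mul_inv_eq_iff_eq_mul.1 ((eq_inv_of_mul_eq_one_left e).trans (inv_eq_of_mul_self s2))))) n ?_)
  rw [eq_comm, ← mul_inv_eq_iff_eq_mul]
  calc _ = i * s * i⁻¹ * (s * n * s⁻¹) * (i * s * i⁻¹)⁻¹ := by group
    _ = _ := by
      rw [hinv s hs s1 s2 n hn, hinv _ hu (conj_ne_one s1) (conj_mul_self s2) _ (inv_mem hn),
        inv_inv]

theorem isFrob : IsFrob 𝐍(H) H (Kt H t) := by
  refine ⟨⟨fun _ h => h.1, hC.ne_bot, fun e => ?_, fun k hk k1 => hC.fpf_K hk k1⟩,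
    le_antisymm (sup_le le_normalizer fun _ h => h.1) fun g hg => ?_⟩
  · obtain ⟨i, hi, i1⟩ := hC.exists_K_ne_one
    exact i1 (mem_bot.1 (e ▸ hi))
  · obtain ⟨j, hj, y, hy, rfl⟩ := hC.decomp hg
    exact mul_mem (mem_sup_right hj) (mem_sup_left hy)

theorem relIndex_norm : H.relIndex 𝐍(H) = ♯(Kt H t) := by
  have := card_mul_relIndexC (le_normalizer (H := H))
  rw [hC.card_norm, Nat.cast_mul, mul_comm] at this
  exact_mod_cast mul_right_cancel₀ (cardC_ne_zero H) this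

theorem der_norm_le : der 𝐍(H) ≤ H := commutator_le.2 fun x hx y hy => by
  obtain ⟨i, hi, u, hu, rfl⟩ := hC.decomp hx
  obtain ⟨j, hj, v, hv, rfl⟩ := hC.decomp hy
  rw [commutatorElement_def, show i * u * (j * v) * (i * u)⁻¹ * (j * v)⁻¹ =
    i * (u * (j * (v * u⁻¹) * j⁻¹)) * i⁻¹ * ((i * j) * i⁻¹ * v⁻¹ * j⁻¹) by group, hC.K_comm hi hj,
    mul_inv_cancel_right]
  exact mul_mem (hC.K_conj_mem hi (mul_mem hu (hC.K_conj_mem hj (mul_mem hv (inv_mem hu)))))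
    (hC.K_conj_mem hj (inv_mem hv))

theorem exists_conj_K {x : G} (hx : x ∈ 𝐍(H)) (hxH : x ∉ H) :
    ∃ y ∈ H, ∃ j ∈ Kt H t, j ≠ 1 ∧ x = y * j * y⁻¹ := by
  obtain ⟨h, hh, j, hj, rfl⟩ := hC.decomp' hx
  have j1 : j ≠ 1 := by rintro rfl; exact hxH (by simpa using hh)
  obtain ⟨y, hy, e⟩ := Frob.exists_conj_of_fpf hj.1 (hC.fpf_K hj j1) hh
  exact ⟨y, hy, j, hj, j1, e.symm⟩

variable {α : G → ℂ} (hα : α ∈ CF 𝐍(H))
include hα

theorem ind_H {x : G} (hx : x ∈ H) (x1 : x ≠ 1) : cfInd ⊤ 𝐍(H) α x = α x :=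
  cfInd_eq_self le_top hα (mem_top _) fun g _ hg => cfun0 hα fun h =>
    hg (inv_mem_iff.1 (hC.ti' hx x1 (by rwa [inv_inv])))

theorem ind_K {x : G} (hx : x ∈ 𝐍(H)) (hxH : x ∉ H) : cfInd ⊤ 𝐍(H) α x = α x + α x⁻¹ := by
  classical
  obtain ⟨y, hy, j, hj, j1, rfl⟩ := hC.exists_conj_K hx hxH
  rw [cfunJ (cfInd_mem_CF _ _ _) (mem_top _), conj_inv, cfunJ hα (le_normalizer hy),
    cfunJ hα (le_normalizer hy), cfIndE _ _ (mem_top _)]
  have h1 : ∀ g, α (g⁻¹ * j * g) = (if g ∈ 𝐍(H) then α j else 0) +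
      if t * g ∈ 𝐍(H) then α j⁻¹ else 0 := fun g => by
    by_cases hg : g ∈ 𝐍(H)
    · rw [if_pos hg, if_neg fun h => hC.t_not_mem ((Subgroup.mul_mem_cancel_right _ hg).1 h),
        add_zero, cfunJ' hα hg]
    rw [if_neg hg, zero_add]
    split_ifs with h
    · rw [← cfunJ' hα h j⁻¹, ← hC.t_conj hj, hC.t_inv,
        show (t * g)⁻¹ * (t * j * t) * (t * g) = g⁻¹ * j * (t * t) * g by group, hC.t2, mul_one]
    refine cfun0 hα fun e => h ?_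
    obtain ⟨u, hu, i, hi, v, hv, rfl⟩ := hC.bruhat hg
    have h2 := mul_mem (mem_Kt.1 hi).1 (le_normalizer hv)
    have h3 : u⁻¹ * j * u ∈ Kt H t := mem_Kt.2 ⟨mul_mem (mul_mem (inv_mem (le_normalizer hu))
      (mem_Kt.1 hj).1) (le_normalizer hu), by
        have := mul_mem (mul_mem h2 e) (inv_mem h2)
        rw [show i * v * ((u * t * i * v)⁻¹ * j * (u * t * i * v)) * (i * v)⁻¹ =
          t⁻¹ * (u⁻¹ * j * u) * t by group] at this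
        rwa [hC.t_inv] at this ⊢⟩
    have h4 := hC.eq_one_of_mem_K (mul_mem h3 (inv_mem hj)) (by
      rw [show u⁻¹ * j * u * j⁻¹ = u⁻¹ * (j * u * j⁻¹) by group]
      exact mul_mem (inv_mem hu) (hC.K_conj_mem hj hu))
    obtain rfl := hC.fpf_K hj j1 u hu (by
      calc j * u = u * (u⁻¹ * j * u * j⁻¹) * j := by group
        _ = _ := by rw [h4, mul_one])
    rwa [one_mul, mul_assoc, ← mul_assoc t, hC.t2, one_mul]
  have h2 : ∀ c : ℂ, ∑ g ∈ elts ((⊤ : Subgroup G) : Set G), (if g ∈ 𝐍(H) then c else 0) =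
      ♯𝐍(H) * c := fun c => by
    rw [← sum_elts_subset (A := 𝐍(H)) (f := fun g => if g ∈ 𝐍(H) then c else 0)
      (fun _ _ => mem_top _) fun g _ hg => if_neg hg, ← nsmul_eq_mul, ← sum_elts_const]
    exact Finset.sum_congr rfl fun g hg => if_pos (mem_elts.1 hg)
  simp only [h1, Finset.sum_add_distrib]
  rw [sum_elts_mul_left (mem_top t) fun g => if g ∈ 𝐍(H) then α j⁻¹ else 0, h2, h2, ← mul_add,
    inv_mul_cancel_left₀ (cardC_ne_zero _)]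

theorem ind_one : cfInd ⊤ 𝐍(H) α 1 = (1 + ♯H) * α 1 := by
  rw [cfInd1 le_top, relIndex_top_right, hC.index_norm]
  push_cast
  rfl

theorem dot_ind_on (h0 : α ∈ suppOn (H : Set G)) {β : G → ℂ} (hβ : β ∈ CF 𝐍(H)) :
    ⟪cfInd ⊤ 𝐍(H) β, cfInd ⊤ 𝐍(H) α⟫[⊤] = ⟪β, α⟫[𝐍(H)] + β 1 * conj (α 1) / ♯(Kt H t) := by
  rw [cfdot_cfInd_left le_top (CF_le_suppOn _ hβ) (cfInd_mem_CF _ _ _),
    cfdot_congr (φ' := β) (ψ' := α + (α 1 / ♯(Kt H t)) • cfReg 𝐍(H)) (fun _ _ => rfl) fun x hx => ?_,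
    cfdotDr, cfdotZr, cfdot_cfReg]
  · simp [mul_comm, mul_div_assoc]
  rw [Pi.add_apply, Pi.smul_apply, smul_eq_mul]
  by_cases x1 : x = 1
  · have := cardC_ne_zero (Kt H t)
    rw [x1, hC.ind_one hα, cfReg_one, hC.card_norm]
    push_cast
    field_simp
  rw [cfReg_of_ne _ x1, mul_zero, add_zero]
  by_cases hxH : x ∈ H
  · exact hC.ind_H hα hxH x1
  · rw [hC.ind_K hα hx hxH, h0 x⁻¹ (mt inv_mem_iff.1 hxH), add_zero]

omit hα in
theorem dot_ind_lin {l : G → ℂ} (hl : IsIrr 𝐍(H) l) (h : H ≤ cfker 𝐍(H) l) :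
    ⟪cfInd ⊤ 𝐍(H) l, cfInd ⊤ 𝐍(H) l⟫[⊤] = 1 + ⟪l, star l⟫[𝐍(H)] := by
  have l1 := (lin_irr_der1 hl (hC.der_norm_le.trans h)).one
  have hk := cardC_ne_zero (Kt H t)
  have h1 : ⟪l, cf1 H⟫[𝐍(H)] = (♯(Kt H t) : ℂ)⁻¹ := by
    rw [cfdotC, eq_inv_of_mul_eq_one_right (b := ⟪cf1 H, l⟫[𝐍(H)]) (a := (♯(Kt H t) : ℂ)) (by
      rw [← hC.relIndex_norm, cfdot_of_suppOn le_normalizer (CF_le_suppOn _ (cf1_mem_CF H)),
        cfdot_congr (φ' := cf1 H) (ψ' := cf1 H) (fun _ _ => rfl) fun x hx => by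
          rw [cfker1 (h hx), l1, cf1E hx], cfdot_cf1])]
    simp
  rw [cfdot_cfInd_left le_top (CF_le_suppOn _ hl.mem_CF) (cfInd_mem_CF _ _ _),
    cfdot_congr (φ' := l) (ψ' := l + star l - cf1 H + (♯(Kt H t) : ℂ)⁻¹ • cfReg 𝐍(H))
      (fun _ _ => rfl) fun x hx => ?_, cfdotDr, cfdotBr, cfdotDr, cfdotZr, cfdot_cfReg, h1,
    cfdot_irr_self hl, l1]
  · simp
  simp only [Pi.add_apply, Pi.sub_apply, Pi.smul_apply, smul_eq_mul, cfConjCE]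
  by_cases x1 : x = 1
  · rw [x1, hC.ind_one hl.mem_CF, cfReg_one, hC.card_norm, l1, cf1E (one_mem H), map_one]
    push_cast
    field_simp
    ring
  rw [cfReg_of_ne _ x1, mul_zero, add_zero]
  by_cases hxH : x ∈ H
  · rw [hC.ind_H hl.mem_CF hxH x1, cf1E hxH, cfker1 (h hxH), l1]
    simp
  · rw [hC.ind_K hl.mem_CF hx hxH, char_inv hl.isChar, cf1_of_not_mem hxH, sub_zero]

omit hα in
/-- An irreducible character above a character of `N(H) / H` is constant on `H^#`. -/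
theorem const_of_constt {l ξ : G → ℂ} (hl : IsIrr 𝐍(H) l) (h : H ≤ cfker 𝐍(H) l) (hξ : IsIrr ⊤ ξ)
    (h0 : ⟪cfInd ⊤ 𝐍(H) l, ξ⟫[⊤] ≠ 0) : ∃ s, ∀ x ∈ H, x ≠ 1 → ξ x = s := by
  have hlin := lin_irr_der1 hl (hC.der_norm_le.trans h)
  have h1 := hC.dot_ind_lin hl h
  have h2 : ∀ x ∈ H, x ≠ 1 → cfInd ⊤ 𝐍(H) l x = 1 := fun x hx x1 => by
    rw [hC.ind_H hl.mem_CF hx x1, cfker1 (h hx), hlin.one]
  have h3 := hl.isChar.cfInd le_top
  by_cases e : l = star l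
  swap
  · rw [cfdot_irr_ne hl hl.star e, add_zero] at h1
    obtain rfl := (h3.isIrr_of_cfdot h1).eq_of_cfdot_ne_zero hξ h0
    exact ⟨1, h2⟩
  obtain rfl : l = cf1 𝐍(H) := hl.le_cfker_iff.1 fun x hx => by
    obtain ⟨j, hj, y, hy, rfl⟩ := hC.decomp hx
    obtain ⟨i, hi, rfl⟩ := hC.exists_sqrt hj
    refine mul_mem ((mem_cfker_lin hlin).2 ?_) (h hy)
    have := congrFun hlin.mul_star i
    rwa [← e, Pi.mul_apply, cf1E hi.1, ← lin_charM hlin hi.1 hi.1] at this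
  by_cases e1 : ξ = cf1 ⊤
  · exact ⟨1, fun x _ _ => e1 ▸ cf1E (mem_top x)⟩
  have h4 : ⟪cfInd ⊤ 𝐍(H) (cf1 𝐍(H)), cf1 ⊤⟫[⊤] = 1 := by
    rw [cfdot_Ind_irr le_top (isChar_cf1 _) (isChar_cf1 _), cfRes_cf1 le_top, cfdot_cf1]
  have h5 := vchar_norm1P (sub_mem (char_vchar h3) (cf1_vchar ⊤)) (cfnorm_eq_one_iff.2 (by
    rw [cfdotBl, cfdotBr, cfdotBr, h1, h4, ← e, cfdot_cf1, cfdot_cf1,
      cfdot_char_comm (isChar_cf1 _) h3, h4]
    ring))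
  rcases h5.eq_or_eq_neg hξ.isDirr (by
    rwa [cfdotBl, cfdot_symm0 (hξ.cfdot_cf1 e1), sub_zero]) with h6 | h6
  · exact ⟨0, fun x hx x1 => by rw [← h6, Pi.sub_apply, h2 x hx x1, cf1E (mem_top x), sub_self]⟩
  · refine ⟨0, fun x hx x1 => neg_eq_zero.1 ?_⟩
    rw [← Pi.neg_apply, ← h6, Pi.sub_apply, h2 x hx x1, cf1E (mem_top x), sub_self]

end Cfsg.Agent.BSW.HypC
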