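import Mathlib
import Cfsg.Agent.Lib.BSW.Coh
import Cfsg.Agent.Lib.BSW.Ind
import Cfsg.Agent.Lib.Transfer.Fpf

/-!
Feit's theorem for Zassenhaus groups of odd degree, and the exclusion of Suzuki 2-groups of order
`q ^ 3`.
-/

set_option autoImplicit false

namespace Cfsg.Agent.BSW

open Subgroup OO
open scoped ComplexConjugate Classical

variable {G : Type*} [Group G] [Finite G] {H A D : Subgroup G} {t : G} {ψ : G → ℂ}

theorem mem_kerD {L : Subgroup G} :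
    ψ ∈ IrrKerD L H A ↔ IsIrr L ψ ∧ A ≤ cfker L ψ ∧ ¬ H ≤ cfker L ψ := by
  simp [IrrKerD]

theorem kerD_subset (L H A : Subgroup G) : IrrKerD L H A ⊆ IrrKerD L H ⊥ := fun _ h =>
  mem_kerD.2 ⟨(mem_kerD.1 h).1, bot_le, (mem_kerD.1 h).2.2⟩

/-- The characters induced from the non-principal characters of `H`. -/
structure Data (H : Subgroup G) (t : G)
    (B : ZIrr (⊤ : Subgroup G) →ₗ[ℤ] ZIrr (⊤ : Subgroup G) →ₗ[ℤ] ℤ)
    (deg : ZIrr (⊤ : Subgroup G) →ₗ[ℤ] ℤ) (u : (G → ℂ) → ZIrr (⊤ : Subgroup G))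
    (d : (G → ℂ) → ℤ) : Prop extends Fam B deg (fun x => IsIrr ⊤ x.1) (IrrKerD 𝐍(H) H ⊥) u d
      ♯(Kt H t) (♯(Kt H t) * (1 + ♯H)) where
  hB : ∀ x y, (B x y : ℂ) = ⟪x.1, y.1⟫[⊤]
  hu : ∀ ψ ∈ IrrKerD 𝐍(H) H ⊥, (u ψ).1 = cfInd ⊤ 𝐍(H) ψ
  hd : ∀ ψ ∈ IrrKerD 𝐍(H) H ⊥, ∃ θ, IsIrr H θ ∧ ψ = cfInd 𝐍(H) H θ ∧ θ 1 = d ψ
  one : ∀ ψ ∈ IrrKerD 𝐍(H) H ⊥, ψ 1 = ♯(Kt H t) * d ψ

omit [Finite G] in
theorem HypI.two_dvd (hI : HypI H) : 2 ∣ ♯H := by
  obtain ⟨z, hz, z1, z2⟩ := hI.ex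
  exact (orderOf_eq_prime (p := 2) (by rwa [sq]) z1) ▸ orderOf_dvd_natCard H hz

theorem HypC.exists_data (hC : HypC H t) : ∃ B deg u d, Data H t B deg u d := by
  obtain ⟨B, deg, hL, hB, hdeg⟩ := exists_lat (⊤ : Subgroup G)
  have : ∀ ψ : G → ℂ, ∃ (u : ZIrr (⊤ : Subgroup G)) (d : ℤ), ψ ∈ IrrKerD 𝐍(H) H ⊥ →
      u.1 = cfInd ⊤ 𝐍(H) ψ ∧ 0 < d ∧ ∃ θ, IsIrr H θ ∧ ψ = cfInd 𝐍(H) H θ ∧ θ 1 = d := fun ψ => by
    by_cases h : ψ ∈ IrrKerD 𝐍(H) H ⊥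
    swap
    · exact ⟨0, 0, fun h' => (h h').elim⟩
    obtain ⟨h1, -, h2⟩ := mem_kerD.1 h
    obtain ⟨θ, hθ, -, e⟩ := (Frobenius_Ind_irrP hC.isFrob.isFrobKer h1).1 h2
    obtain ⟨n, n0, hn⟩ := hθ.exists_one
    exact ⟨⟨_, cfInd_vchar le_top (irr_vchar h1)⟩, n, fun _ =>
      ⟨rfl, by exact_mod_cast n0, θ, hθ, e, by exact_mod_cast hn⟩⟩
  choose u d h using this
  have one : ∀ ψ ∈ IrrKerD 𝐍(H) H ⊥, ψ 1 = ♯(Kt H t) * d ψ := fun ψ hψ => by
    obtain ⟨θ, -, e, h1⟩ := (h ψ hψ).2.2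
    rw [← h1, ← hC.relIndex_norm, ← cfInd1 le_normalizer, ← e]
  refine ⟨B, deg, u, d, ⟨hL, fun i hi j hj => Int.cast_injective (α := ℂ) ?_,
    fun i hi => Int.cast_injective (α := ℂ) ?_, fun i hi => (h i hi).2.1⟩, hB,
    fun i hi => (h i hi).1, fun i hi => (h i hi).2.2, one⟩
  · obtain ⟨θ, hθ, e, -⟩ := (h j hj).2.2
    have := cardC_ne_zero (Kt H t)
    rw [hB, (h i hi).1, (h j hj).1, hC.dot_ind_on (mem_kerD.1 hj).1.mem_CF
      (e ▸ (cfInd_normal le_rfl (CF_le_suppOn _ hθ.mem_CF)).2) (mem_kerD.1 hi).1.mem_CF,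
      cfdot_irr (mem_kerD.1 hi).1 (mem_kerD.1 hj).1, one i hi, one j hj]
    simp only [map_mul, map_natCast, map_intCast]
    push_cast
    field_simp
  · rw [hdeg, (h i hi).1, hC.ind_one (mem_kerD.1 hi).1.mem_CF, one i hi]
    push_cast
    ring

namespace Data

variable {B : ZIrr (⊤ : Subgroup G) →ₗ[ℤ] ZIrr (⊤ : Subgroup G) →ₗ[ℤ] ℤ}
  {deg : ZIrr (⊤ : Subgroup G) →ₗ[ℤ] ℤ} {u : (G → ℂ) → ZIrr (⊤ : Subgroup G)} {d : (G → ℂ) → ℤ}
  (da : Data H t B deg u d) (hC : HypC H t)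
include da hC

theorem sum_sq (hA : A ⊴ 𝐍(H)) (hAH : A ≤ H) :
    ♯(Kt H t) * ∑ ψ ∈ IrrKerD 𝐍(H) H A, d ψ ^ 2 + 1 = A.relIndex H := by
  have h1 := sum_irr_cfker_square hA
  have h2 := sum_irr_cfker_square (normalIn_norm H)
  rw [← Finset.sum_filter_add_sum_filter_not _ (fun χ => H ≤ cfker 𝐍(H) χ), Finset.filter_filter,
    Finset.filter_filter, Finset.filter_congr (q := fun χ => H ≤ cfker 𝐍(H) χ) fun _ _ =>
      ⟨fun h => h.2, fun h => ⟨hAH.trans h, h⟩⟩, h2, ← relIndex_mul_relIndex A H _ hAH le_normalizer,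
    hC.relIndex_norm] at h1
  refine Int.cast_injective (α := ℂ) (mul_left_cancel₀ (cardC_ne_zero (Kt H t)) ?_)
  push_cast at h1 ⊢
  rw [mul_comm _ (A.relIndex H : ℂ), ← h1, mul_add, mul_one, add_comm, Finset.mul_sum,
    Finset.mul_sum]
  congr 1
  exact Finset.sum_congr rfl fun ψ hψ => by rw [da.one ψ (kerD_subset _ _ _ hψ)]; ring

theorem le_relIndex (hA : A ⊴ 𝐍(H)) (hD : D ⊴ 𝐍(H)) (hAD : A < D) (hDH : D ≤ H) :
    ♯(Kt H t) + 1 ≤ A.relIndex D := by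
  have h1 := da.sum_sq hC hA (hAD.le.trans hDH)
  rw [← relIndex_mul_relIndex A D H hAD.le hDH, Nat.cast_mul, ← da.sum_sq hC hD hDH] at h1
  have h2 : 1 < A.relIndex D := lt_of_le_of_ne (Nat.one_le_iff_ne_zero.2 index_ne_zero_of_finite)
    fun e => hAD.not_ge (relIndex_eq_one.1 e.symm)
  have h3 : (♯(Kt H t) : ℤ) ∣ A.relIndex D - 1 := ⟨∑ ψ ∈ IrrKerD 𝐍(H) H A, d ψ ^ 2 -
    A.relIndex D * ∑ ψ ∈ IrrKerD 𝐍(H) H D, d ψ ^ 2, by linear_combination -h1⟩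
  have := Int.le_of_dvd (by omega) h3
  omega

omit hC in
theorem lin (hψ : ψ ∈ IrrKerD 𝐍(H) H (der H)) : d ψ = 1 := by
  obtain ⟨θ, hθ, rfl, e⟩ := da.hd ψ (kerD_subset _ _ _ hψ)
  rw [(lin_irr_der1 hθ ((sub_cfker_Ind le_normalizer (der_normal H).le (norm_le_norm_der H)
    hθ.isChar).1 (mem_kerD.1 hψ).2.1)).one] at e
  exact_mod_cast e.symm

theorem card_lin : ♯(Kt H t) * ((IrrKerD 𝐍(H) H (der H)).card : ℤ) + 1 = (der H).relIndex H := by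
  rw [← da.sum_sq hC (normalIn_norm H).der (der_normal H).le,
    Finset.sum_congr rfl fun ψ hψ => by rw [da.lin hψ, one_pow]]
  simp

theorem exists_bad (hc : (♯(Kt H t) + 1) ^ 2 ≤ (der H).relIndex H) (hd : der H ≠ ⊥) :
    ∃ w, (∀ j ∈ IrrKerD 𝐍(H) H (der H), Good B u d w j) ∧ B w w = ♯(Kt H t) ∧
      ∃ n ∈ IrrKerD 𝐍(H) H ⊥, ¬ Good B u d w n := by
  have k0 : 0 < ♯(Kt H t) := Nat.card_pos
  have h1 : (♯(Kt H t) : ℤ) + 2 ≤ (IrrKerD 𝐍(H) H (der H)).card := by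
    have := da.card_lin hC
    by_contra! h
    have hc : ((♯(Kt H t) : ℤ) + 1) ^ 2 ≤ (der H).relIndex H := by exact_mod_cast hc
    nlinarith
  have hJ := kerD_subset 𝐍(H) H (der H)
  obtain ⟨w, gJ⟩ := da.base hJ (fun _ => da.lin) (by omega)
  have hw := da.dot_w hJ gJ (fun _ => da.lin) (by omega) h1 (fun h => by
    have h2 := hC.two_dvd
    have h3 : ¬ 2 ∣ ♯(Kt H t) := fun h => by
      obtain ⟨j, hj⟩ := exists_prime_orderOf_dvd_card' 2 h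
      have := hC.eq_one_of_mul_self j.2 (by
        rw [← sq, ← coe_pow, ← hj, pow_orderOf_eq_one, coe_one])
      rw [show j = 1 from Subtype.ext this, orderOf_one] at hj
      omega
    have h4 : 2 ∣ ♯(Kt H t) * (1 + ♯H) := by
      exact_mod_cast (show (2 : ℤ) ∣ ♯(Kt H t) + 1 by omega).trans h
    have := (Nat.prime_two.dvd_mul.1 h4).resolve_left h3
    omega)
  refine ⟨w, gJ, hw, ?_⟩
  by_contra! hg
  obtain ⟨o, ho⟩ : (IrrKerD 𝐍(H) H (der H)).Nonempty := Finset.card_pos.1 (by omega)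
  have h2 := fun j hj => da.dot_x_u (hJ ho) (hg o (hJ ho)) hj (hg j hj) hw
  have h3 := hg o (hJ ho)
  rw [Good] at h3
  generalize u o - d o • w = x at h2 h3
  obtain ⟨e, he, χ, hχ, hx⟩ := (vchar_norm1P x.2 (cfnorm_eq_one_iff.2
    (by rw [← da.hB, h3, Int.cast_one]))).exists_sign
  have e0 : e ≠ 0 := by rcases he with rfl | rfl <;> simp
  have h4 : ∀ j ∈ IrrKerD 𝐍(H) H ⊥, e * ⟪cfRes 𝐍(H) χ, j⟫[𝐍(H)] = if o = j then 1 else 0 :=
    fun j hj => by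
      rw [cfdot_Res_l le_top hχ.mem_CF (mem_kerD.1 hj).1.mem_CF, ← cfdotZl, ← hx, ← da.hu j hj,
        ← da.hB, h2 j hj]
      simp
  have h5 : der H ≤ cfker ⊤ χ := (le_cfker_of_constt (cfRes_mem_CF le_top hχ.mem_CF)
    (normalIn_norm H).der.le fun l hl h0 => by
      by_cases h : H ≤ cfker 𝐍(H) l
      · exact (der_normal H).le.trans h
      have := h4 l (mem_kerD.2 ⟨hl, bot_le, h⟩)
      split_ifs at this with h6
      · exact h6 ▸ (mem_kerD.1 ho).2.1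
      · exact (mul_ne_zero e0 h0 this).elim).trans
    ((cfker_Res_char hχ.isChar le_top).le.trans inf_le_right)
  obtain ⟨⟨y, hy⟩, y1⟩ := ne_bot_iff_exists_ne_one.1 hd
  obtain rfl := hχ.le_cfker_iff.1 (hC.eq_top_of_normal (normalIn_top.1 (cfker_normal hχ.mem_CF))
    (h5 hy) ((der_normal H).le hy) (by simpa using y1)).ge
  have := h4 o (hJ ho)
  rw [cfRes_cf1 le_top, cfdot_symm0 ((mem_kerD.1 ho).1.cfdot_cf1 fun e => (mem_kerD.1 ho).2.2
    (le_normalizer.trans ((mem_kerD.1 ho).1.le_cfker_iff.2 e)))] at this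
  simp at this

end Data

namespace HypC

variable (hC : HypC H t)
include hC

theorem nil : Nil H := Transfer.isNilpotent_of_isFrobPair hC.isFrob.pair

theorem not_isPGroup_quo (h2 : ¬ IsPGroup 2 H) (hA : A ⊴ H) (hd : A ≤ der H) {p : ℕ}
    [hp : Fact p.Prime] : ¬ IsPGroup p (H ⁒ A : Subgroup _) := fun h => by
  have h1 : Op' p H ≤ A := (quo_eq_bot_iff ((Opi_le _ _).trans hA.norm)).1
    (PiGrp.eq_bot (piGrp_singleton (h.to_le (quo_mono A (Opi_le _ _)))) ((Op'_piGrp p H).quo A))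
  have h3 := eq_of_le_sup_der hC.nil (Op_le p H)
    ((dprod_Op_of_nil p hC.nil).sup_eq.ge.trans (sup_le_sup_left (h1.trans hd) _))
  have h4 := h3 ▸ Op_isPGroup p H
  obtain ⟨n, hn⟩ := IsPGroup.iff_card.1 h4
  obtain rfl := (Nat.prime_dvd_prime_iff_eq Nat.prime_two hp.out).1
    (Nat.prime_two.dvd_of_dvd_pow (hn ▸ hC.two_dvd))
  exact h2 h4

/-- Feit's theorem. -/
theorem isPGroup_of_not_ab (hd : der H ≠ ⊥) : IsPGroup 2 H := by
  by_contra h2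
  obtain ⟨B, deg, u, d, da⟩ := hC.exists_data
  have hN := normalIn_norm H
  obtain ⟨w, gJ, -, hbad⟩ := da.exists_bad hC (by
    have h1 : der H ⊔ Op 2 H ≤ H := sup_le (der_normal H).le (Op_le 2 H)
    rw [← relIndex_mul_relIndex (der H) _ H le_sup_left h1, sq]
    refine Nat.mul_le_mul (da.le_relIndex hC hN.der (hN.der.sup (hN.Op 2)) (left_lt_sup.2 fun h => ?_)
      h1) (da.le_relIndex hC (hN.der.sup (hN.Op 2)) hN (h1.lt_of_ne fun h => h2 ?_) le_rfl)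
    · have h3 := eq_of_le_sup_der hC.nil (Opi_le _ H) ((dprod_Op_of_nil 2 hC.nil).sup_eq.ge.trans
        (sup_le (h.trans le_sup_right) le_sup_left))
      exact (piGrp_compl_singleton Nat.prime_two).1 (h3 ▸ Op'_piGrp 2 H) hC.two_dvd
    · exact eq_of_le_sup_der hC.nil (Op_le 2 H) (h.ge.trans (sup_comm _ _).le) ▸ Op_isPGroup 2 H) hd
  obtain ⟨n, hn, hmax⟩ := ((IrrKerD 𝐍(H) H ⊥).filter fun n => ¬ Good B u d w n).exists_max_image
    (fun n => ♯(cfker 𝐍(H) n ⊓ der H)) (by simpa [Finset.filter_nonempty_iff] using hbad)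
  obtain ⟨hn, gn⟩ := Finset.mem_filter.1 hn
  obtain ⟨n1, -, n2⟩ := mem_kerD.1 hn
  have hM := (cfker_normal n1.mem_CF).inf hN.der
  have hM1 : cfker 𝐍(H) n ⊓ der H ≤ cfker 𝐍(H) n := inf_le_left
  have hM2 : cfker 𝐍(H) n ⊓ der H ≤ der H := inf_le_right
  generalize cfker 𝐍(H) n ⊓ der H = M at hM hM1 hM2 hmax
  have hMH : M ⊴ H := hM.mono (hM2.trans (der_normal H).le) le_normalizer
  have hnil := nil_quo hC.nil M
  have hA0 := inf_Zc_ne_bot hnil (der_normal _) (by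
    rw [← quo_der hMH.norm]
    exact quo_ne_bot ((der_normal H).le.trans hMH.norm) fun h =>
      gn (gJ n (mem_kerD.2 ⟨n1, h.trans hM1, n2⟩)))
  obtain ⟨p, hp, hpd⟩ := Nat.exists_prime_and_dvd (mt card_eq_one.1 hA0)
  have := Fact.mk hp
  have hq := hN.quo M
  have hA := quoPre_normal hM ((hq.der.inf hq.Zc).Op p)
  have hD := quoPre_normal hM hq.Zc
  have hDH : quoPre M (Zc (H ⁒ M)) ≤ H := quoPre_le_of_le hMH inf_le_left
  have hAD : quoPre M (Op p (der (H ⁒ M) ⊓ Zc (H ⁒ M))) < quoPre M (Zc (H ⁒ M)) :=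
    quoPre_lt_quoPre_iff.2 (((Op_le _ _).trans inf_le_right).lt_of_ne fun e =>
      hC.not_isPGroup_quo h2 hMH hM2 (p := p) (PiGrp.isPGroup (piGrp_iff_piOf_subset.2
        (piOf_Zc_of_nil hnil ▸ piGrp_iff_piOf_subset.1 (piGrp_singleton (e ▸ Op_isPGroup p _))))))
  have hMA : M < quoPre M (Op p (der (H ⁒ M) ⊓ Zc (H ⁒ M))) :=
    (le_quoPre _).lt_of_ne fun e => (piGrp_compl_singleton hp).1
      ((hall_Opi_of_nil {p} (nil_of_le hnil (inf_le_right.trans inf_le_left))).eq_bot_iff.1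
        ((Op_eq_Opi _).symm.trans (quoPre_eq_iff.1 e.symm))) hpd
  have hAd : quoPre M (Op p (der (H ⁒ M) ⊓ Zc (H ⁒ M))) ≤ der H :=
    quoPre_le_of_le (hMH.mono hM2 (der_normal H).le)
      (quo_der hMH.norm ▸ (Op_le _ _).trans inf_le_left)
  have hc : ⁅quoPre M (Zc (H ⁒ M)), H⁆ ≤ M := (quo_le_cent_iff (quoPre_le_norm _) hMH.norm).1
    ((quo_le_iff_le_quoPre (quoPre_le_norm _)).2 (quoPre_mono inf_le_right))
  generalize quoPre M (Op p (der (H ⁒ M) ⊓ Zc (H ⁒ M))) = A at hA hAD hMA hAd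
  generalize quoPre M (Zc (H ⁒ M)) = D at hD hDH hAD hc
  have gA : ∀ j ∈ IrrKerD 𝐍(H) H A, Good B u d w j := fun j hj => by
    by_contra gj
    exact (hmax j (Finset.mem_filter.2 ⟨kerD_subset _ _ _ hj, gj⟩)).not_gt
      (card_lt (hMA.trans_le (le_inf (mem_kerD.1 hj).2.1 hAd)))
  obtain ⟨o, ho⟩ : (IrrKerD 𝐍(H) H (der H)).Nonempty := by
    obtain ⟨χ, h⟩ := exists_irr_cfker_not_le (K := H) hN.der fun h =>
      (commutator_lt_of_nil hC.nil (NormalIn.refl H) hC.ne_bot).not_ge h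
    exact ⟨χ, mem_kerD.2 h⟩
  have h3 := da.sum_le (kerD_subset _ _ A) gA (mem_kerD.2 ⟨(mem_kerD.1 ho).1,
    hAd.trans (mem_kerD.1 ho).2.1, (mem_kerD.1 ho).2.2⟩) (da.lin ho) hn gn
  have h4 := da.sum_sq hC hA (hAD.le.trans hDH)
  have h5 := da.le_relIndex hC hA hD hAD hDH
  obtain ⟨θ, hθ, e, h6⟩ := da.hd n hn
  have h7 := irr1_bound hθ hDH (hc.trans ((sub_cfker_Ind le_normalizer hMH.le hM.norm hθ.isChar).1
    (e ▸ hM1)))
  have h8 : d n ≠ 1 := fun h => gn (gJ n (mem_kerD.2 ⟨n1, e ▸ (sub_cfker_Ind le_normalizer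
    (der_normal H).le (norm_le_norm_der H) hθ.isChar).2
      (lin_char_der1 (hθ.isLinChar (by rw [h6, h, Int.cast_one]))), n2⟩))
  have h9 := da.pos n hn
  rw [h6, Complex.intCast_re] at h7
  rw [← relIndex_mul_relIndex A D H hAD.le hDH, Nat.cast_mul] at h4
  replace h7 : d n ^ 2 ≤ D.relIndex H := by exact_mod_cast h7
  replace h5 : (♯(Kt H t) : ℤ) + 1 ≤ A.relIndex D := by exact_mod_cast h5
  have k0 : (0 : ℤ) ≤ ♯(Kt H t) := by positivity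
  have d2 : 2 ≤ d n := by omega
  nlinarith [mul_le_mul h5 h7 (by positivity) (by positivity), mul_le_mul_of_nonneg_left h3 k0,
    mul_nonneg (mul_nonneg k0 h9.le) (sub_nonneg.2 d2)]

theorem not_cube {m : ℕ} (hm : 2 ≤ m) (hk : ♯(Kt H t) + 1 = 2 ^ m) (hd : ♯(der H) = 2 ^ m) :
    ♯H ≠ (2 ^ m) ^ 3 := fun hH => by
  obtain ⟨B, deg, u, d, da⟩ := hC.exists_data
  have hN := normalIn_norm H
  have hi : (der H).relIndex H = (♯(Kt H t) + 1) ^ 2 := by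
    have := card_mul_relIndexC (der_normal H).le
    rw [hd, hH, pow_succ'] at this
    rw [hk]
    exact Nat.eq_of_mul_eq_mul_left (Nat.two_pow_pos m) (by exact_mod_cast this)
  obtain ⟨w, gJ, hw, n, hn, gn⟩ := da.exists_bad hC hi.ge (fun e => by
    rw [e, card_bot] at hd
    exact (Nat.one_lt_two_pow (by omega)).ne hd)
  have k0 : (0 : ℤ) < ♯(Kt H t) := by exact_mod_cast Nat.card_pos
  have hc : ((IrrKerD 𝐍(H) H (der H)).card : ℤ) = ♯(Kt H t) + 2 := mul_left_cancel₀ k0.ne' (by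
    have := da.card_lin hC
    rw [hi] at this
    push_cast at this
    linear_combination this)
  have hJ := kerD_subset 𝐍(H) H (der H)
  have hs : ∑ j ∈ IrrKerD 𝐍(H) H (der H), d j ^ 2 = ♯(Kt H t) + 2 := by
    rw [Finset.sum_congr rfl fun ψ hψ => by rw [da.lin hψ, one_pow], ← hc]
    simp
  obtain ⟨o, ho⟩ : (IrrKerD 𝐍(H) H (der H)).Nonempty := Finset.card_pos.1 (by omega)
  have h1 := hs ▸ da.sum_le hJ gJ ho (da.lin ho) hn gn
  have h2 : (♯(Kt H t) : ℤ) + 1 ≤ d n := by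
    obtain ⟨θ, hθ, -, e⟩ := da.hd n hn
    obtain ⟨c, hc⟩ := Int.eq_ofNat_of_zero_le (da.pos n hn).le
    rw [hc] at h1 e ⊢
    obtain ⟨s, -, rfl⟩ := (Nat.dvd_prime_pow Nat.prime_two).1
      (pow_mul 2 m 3 ▸ hH ▸ dvd_irr1_cardG hθ (n := c) (by exact_mod_cast e))
    have : 2 ^ m < 2 ^ (s + 1) := by omega
    have := Nat.pow_le_pow_right two_pos
      (Nat.le_of_lt_succ ((Nat.pow_lt_pow_iff_right one_lt_two).1 this))
    omega
  have hnJ : n ∉ IrrKerD 𝐍(H) H (der H) := fun h => gn (gJ n h)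
  have h3 := da.sum_sq hC (NormalIn.bot _) bot_le
  have hI := Finset.insert_subset hn hJ
  rw [relIndex_bot_left, hH, ← hk, ← Finset.sum_sdiff hI, Finset.sum_insert hnJ, hs] at h3
  have h4 : ∑ j ∈ IrrKerD 𝐍(H) H ⊥ \ insert n (IrrKerD 𝐍(H) H (der H)), d j ^ 2 + d n ^ 2 =
      (♯(Kt H t) + 1) ^ 2 := mul_left_cancel₀ k0.ne' (by push_cast at h3; linear_combination h3)
  have h5 := Finset.sum_nonneg fun j
    (_ : j ∈ IrrKerD 𝐍(H) H ⊥ \ insert n (IrrKerD 𝐍(H) H (der H))) => sq_nonneg (d j)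
  have dn : d n = ♯(Kt H t) + 1 := le_antisymm (by nlinarith) h2
  replace hI : insert n (IrrKerD 𝐍(H) H (der H)) = IrrKerD 𝐍(H) H ⊥ :=
    hI.antisymm fun j hj => by
      by_contra h
      rw [dn, add_eq_right, Finset.sum_eq_zero_iff_of_nonneg fun _ _ => sq_nonneg _] at h4
      exact (da.pos j hj).ne' (pow_eq_zero_iff two_ne_zero |>.1 (h4 j (Finset.mem_sdiff.2 ⟨hj, h⟩)))
  obtain ⟨z, b, y, hz, ob, oy, y2, hb, hy⟩ := da.cube hJ gJ (fun _ => da.lin) k0.le hc hw hn gn dn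
  have h6 : ∀ j ∈ IrrKerD 𝐍(H) H ⊥, ⟪j, z.1⟫[𝐍(H)] = B (u j) z := fun j hj => by
    rw [da.hB, da.hu j hj, cfdot_cfInd_left le_top (CF_le_suppOn _ (mem_kerD.1 hj).1.mem_CF)
      hz.mem_CF]
  have h7 : ∀ l, IsIrr 𝐍(H) l → H ≤ cfker 𝐍(H) l → ⟪l, z.1⟫[𝐍(H)] = 0 := fun l hl h => by
    by_contra h0
    obtain ⟨s, hs⟩ := hC.const_of_constt hl h hz
      (by rwa [cfdot_cfInd_left le_top (CF_le_suppOn _ hl.mem_CF) hz.mem_CF])
    have : ∀ j ∈ IrrKerD 𝐍(H) H ⊥, (B (u j) z : ℂ) = conj ((z.1 1 - s) / ♯H) * d j := fun j hj => by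
      obtain ⟨θ, hθ, e, e1⟩ := da.hd j hj
      rw [da.hB, da.hu j hj, e, cfIndInd' le_normalizer le_top hθ.mem_CF,
        cfdot_cfInd_left le_top (CF_le_suppOn _ hθ.mem_CF) hz.mem_CF,
        cfdot_congr (φ' := θ) (ψ' := s • cf1 H + ((z.1 1 - s) / ♯H) • cfReg H) (fun _ _ => rfl)
          fun x hx => ?_, cfdotDr, cfdotZr, cfdotZr, cfdot_cfReg, hθ.cfdot_cf1 fun e2 =>
            (mem_kerD.1 hj).2.2 (e ▸ le_cfker_cfInd le_normalizer le_rfl (hθ.le_cfker_iff.2 e2)),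
        mul_zero, zero_add, e1, ← e]
      simp only [Pi.add_apply, Pi.smul_apply, smul_eq_mul, cf1E hx]
      by_cases x1 : x = 1
      · have := cardC_ne_zero H
        rw [x1, cfReg_one]
        field_simp
        ring
      · rw [cfReg_of_ne _ x1, hs x hx x1]
        ring
    have h8 := this n hn
    have h9 := this o (hJ ho)
    rw [hb o ho, da.lin ho, Int.cast_one, mul_one] at h9
    rw [hy, ← h9, dn] at h8
    obtain rfl : y = 0 := Int.cast_injective (α := ℂ) (by push_cast at h8 ⊢; linear_combination h8)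
    exact absurd oy (by decide)
  have h8 : z.1 1 = (♯(Kt H t) * (b * ((♯(Kt H t) + 1) ^ 2 + (♯(Kt H t) + 1) + 1) +
      (♯(Kt H t) + 1) * y) : ℤ) := by
    have h9 : ∀ l, IsIrr 𝐍(H) l → ⟪cfRes 𝐍(H) z.1, l⟫[𝐍(H)] = ⟪l, z.1⟫[𝐍(H)] := fun l hl =>
      (cfdot_char_comm (hz.isChar.cfRes le_top) hl.isChar).trans
        (cfdot_congr (fun _ _ => rfl) fun x hx => cfResE _ hx)
    rw [← cfResE z.1 (one_mem 𝐍(H)), cfun_apply_sum_cfdot (cfRes_mem_CF le_top hz.mem_CF),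
      ← Finset.sum_subset (s₁ := IrrKerD 𝐍(H) H ⊥) (Finset.filter_subset _ _) fun l hl h => by
        rw [h9 l (mem_Irr.1 hl), h7 l (mem_Irr.1 hl) (by simpa [mem_kerD, mem_Irr.1 hl] using h),
          zero_mul],
      Finset.sum_congr rfl fun j hj => by rw [h9 j (mem_kerD.1 hj).1, h6 j hj, da.one j hj], ← hI,
      Finset.sum_insert hnJ, Finset.sum_congr rfl fun j hj => by rw [hb j hj, da.lin hj],
      Finset.sum_const, nsmul_eq_mul, hy, dn,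
      ← Int.cast_natCast (IrrKerD 𝐍(H) H (der H)).card, hc]
    push_cast
    ring
  obtain ⟨c, -, hc1⟩ := hz.exists_one
  have h9 := dvd_irr1_cardG hz hc1
  have b0 : 0 ≤ b := by
    obtain ⟨b', hb'⟩ := Cnat_cfdot_char ((mem_kerD.1 ho).1.isChar.cfInd le_top) hz.isChar
    rw [← da.hu o (hJ ho), ← da.hB, hb o ho] at hb'
    have : b = b' := by exact_mod_cast hb'
    omega
  rw [card_top, hC.card_eq, hH, ← hk, ← Int.natCast_dvd_natCast,
    show (c : ℤ) = _ from Int.cast_injective (α := ℂ) ((Int.cast_natCast c).trans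
      (hc1.symm.trans h8)), mul_assoc, Nat.cast_mul, mul_dvd_mul_iff_left k0.ne'] at h9
  have hq : ((♯(Kt H t) : ℤ) + 1) = 2 ^ m := by exact_mod_cast hk
  refine not_cube_dvd (q := ♯(Kt H t) + 1) ?_ b0 ob oy y2 (IsCoprime.dvd_of_dvd_mul_left
    (y := ((♯(Kt H t) : ℤ) + 1) ^ 3) ?_ (by simpa [add_comm] using h9))
  · rw [hq]
    exact (pow_le_pow_right₀ one_le_two hm).trans' (by norm_num)
  · obtain ⟨m, rfl⟩ : ∃ s, m = s + 1 := ⟨m - 1, by omega⟩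
    rw [hq]
    refine (IsCoprime.pow_right (Int.isCoprime_two_right.2 ?_)).pow_right
    exact (ob.mul (Even.add_one (by simp [Int.even_add, Int.even_pow]))).add_even
      (by simp [Int.even_mul, Int.even_pow])

end HypC

end Cfsg.Agent.BSW
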