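import Mathlib
import Cfsg.Agent.Lib.BSW.SelfNorm

/-!
Groups with an elementary abelian CC-subgroup of even order; `SL(2, F)` in characteristic two.
-/

set_option autoImplicit false

namespace Cfsg.Agent.BSW

open Subgroup
open scoped MatrixGroups

section
variable {G : Type*} [Group G]

theorem comm_of_mul_self {T : Subgroup G} (h : ∀ w ∈ T, w * w = 1) : IsMulCommutative T :=
  Core.isMulCommutative_of_forall fun a ha b hb => by
    rw [← inv_eq_of_mul_self (h _ (mul_mem ha hb)), mul_inv_rev, inv_eq_of_mul_self (h _ ha),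
      inv_eq_of_mul_self (h _ hb)]

/-- An abelian CC-subgroup `H` of even order: there is a nontrivial abelian normal subgroup, or the
group is `PSL(2, 2 ^ m)`. -/
theorem dichotomy [Finite G] {H : Subgroup G} (hc : IsMulCommutative H)
    (cc : ∀ x ∈ H, x ≠ 1 → ∀ g : G, g * x = x * g → g ∈ H) {z : G} (hz : z ∈ H) (z1 : z ≠ 1)
    (z2 : z * z = 1) : (∃ N : Subgroup G, N.Normal ∧ N ≠ ⊥ ∧ IsMulCommutative N) ∨
      ∃ m : ℕ, 2 ≤ m ∧ Nat.card H = 2 ^ m ∧ H.relIndex (normalizer (H : Set G)) = 2 ^ m - 1 ∧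
        Nat.card G = (2 ^ m - 1) * 2 ^ m * (1 + 2 ^ m) ∧
        Nonempty (G ≃* Matrix.ProjectiveSpecialLinearGroup (Fin 2) (GaloisField 2 m)) := by
  have hI : HypI H := ⟨fun w hw w1 _ g => ⟨cc w hw w1 g, fun hg => comm_of_mem hc hg hw⟩,
    z, hz, z1, z2⟩
  by_cases hM : normalizer (H : Set G) = ⊤
  · exact Or.inl ⟨H, normalizer_eq_top_iff.1 hM, hI.ne_bot, hc⟩
  by_cases hN : normalizer (H : Set G) ≤ H
  · obtain ⟨K, hK, -, hF, -⟩ := Frob.exists_isFrobPair ((Frob.isFrobeniusComplement_iff H).2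
      ⟨hI.ne_bot, fun e => hM (top_le_iff.1 (e ▸ le_normalizer)), fun g hg x hx hgx => by
        by_contra x1
        exact hg (inv_mem_iff.1 (hN (mem_norm_of_cent_eq
          (fun w hw w1 g => ⟨cc w hw w1 g, fun hg => comm_of_mem hc hg hw⟩) hx x1
          (by rwa [inv_inv]))))⟩)
    refine Or.inl ⟨K, hK, hF.left_ne_bot, hF.isMulCommutative_of_even ?_⟩
    rw [← orderOf_eq_prime (p := 2) (by rwa [sq]) z1]
    exact orderOf_dvd_natCard _ hz
  obtain ⟨t, ht, t2⟩ := hI.exists_inv_not_mem hM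
  have hC : HypC H t := ⟨hI, cc, SetLike.not_le_iff_exists.1 hN, ht, t2⟩
  obtain ⟨n, hn, hH, hK, e⟩ := hC.main fun x hx j hj => comm_of_mem hc hx (hC.K_conj_mem hj hx)
  refine Or.inr ⟨n, hn, hH, ?_, by rw [hC.card_eq, hK, hH], e⟩
  have h1 := (H.subgroupOf (normalizer (H : Set G))).card_mul_index
  rw [hC.card_norm, Nat.card_congr (subgroupOfEquivOfLe le_normalizer).toEquiv, mul_comm] at h1
  rw [← hK, ← Nat.eq_of_mul_eq_mul_right Nat.card_pos h1]
  rfl

/-- The properties of `SL(2, 2 ^ n)` used for the study of its subgroups. -/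
structure CA2 (G : Type*) [Group G] : Prop where
  ca : ∀ x a b : G, x ≠ 1 → a * x = x * a → b * x = x * b → a * b = b * a
  el : ∀ z w : G, z ≠ 1 → z * z = 1 → w * z = z * w → w * w = 1
  inv : ∀ x g : G, x * x ≠ 1 → g * x * g⁻¹ * x = x * (g * x * g⁻¹) →
    g * x * g⁻¹ = x ∨ g * x * g⁻¹ = x⁻¹

theorem CA2.of_injective {G' : Type*} [Group G'] (h : CA2 G') (f : G →* G')
    (hf : Function.Injective f) : CA2 G where
  ca x a b x1 ha hb := hf (by
    rw [map_mul, map_mul]
    exact h.ca (f x) _ _ (fun e => x1 (hf (by rw [e, map_one]))) (by rw [← map_mul, ha, map_mul])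
      (by rw [← map_mul, hb, map_mul]))
  el z w z1 z2 e := hf (by
    rw [map_mul, map_one]
    exact h.el (f z) _ (fun e => z1 (hf (by rw [e, map_one]))) (by rw [← map_mul, z2, map_one])
      (by rw [← map_mul, e, map_mul]))
  inv x g x2 e := (h.inv (f x) (f g) (fun e => x2 (hf (by rw [map_mul, e, map_one])))
    (by simpa using congrArg f e)).imp (fun e => hf (by simpa using e))
      fun e => hf (by simpa using e)

theorem CA2.cent_comm (h : CA2 G) {x : G} (x1 : x ≠ 1) :
    IsMulCommutative (centralizer ({x} : Set G)) :=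
  Core.isMulCommutative_of_forall fun a ha b hb => h.ca x a b x1
    (mem_centralizer_singleton_iff.1 ha) (mem_centralizer_singleton_iff.1 hb)

theorem CA2.cent_cc (h : CA2 G) {x : G} (x1 : x ≠ 1) :
    ∀ y ∈ centralizer ({x} : Set G), y ≠ 1 → ∀ g : G, g * y = y * g ↔
      g ∈ centralizer ({x} : Set G) := fun y hy y1 g =>
  ⟨fun e => mem_centralizer_singleton_iff.2
    (h.ca y g x y1 e (mem_centralizer_singleton_iff.1 hy).symm),
    fun hg => comm_of_mem (h.cent_comm x1) hg hy⟩

end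

section
variable {F : Type*} [Field F] [CharP F 2]

theorem trace_eq_zero_iff {x : SL(2, F)} (x1 : x ≠ 1) : x.1.trace = 0 ↔ x * x = 1 := by
  have h2 := CharTwo.two_eq_zero (R := F)
  have h := Lin.SL2.mul_self x
  constructor
  · intro e
    refine Subtype.ext ?_
    rw [Matrix.SpecialLinearGroup.coe_mul, h, e]
    ext i j
    simp [CharTwo.neg_eq]
  · intro e
    by_contra ht
    rw [← Matrix.SpecialLinearGroup.coe_mul, e] at h
    have h0 := congrFun (congrFun h 0) 0
    have h1 := congrFun (congrFun h 1) 1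
    simp at h0 h1
    refine ht (mul_self_eq_zero.1 ?_)
    nth_rw 2 [Matrix.trace_fin_two]
    linear_combination -h0 - h1 + 2 * h2

theorem ca2_SL2 : CA2 SL(2, F) where
  ca x a b x1 ha hb := Lin.SL2.commute_of_commute
    (fun h => x1 (Lin.SL2.eq_one_of_mem_center h)) ha hb
  el z w z1 z2 e := by
    by_cases w1 : w = 1
    · rw [w1, mul_one]
    obtain ⟨k, l, hw⟩ := Lin.exists_of_commute_two (a := w.1) (Lin.SL2.mem_center_iff_scalar.not.1
      fun h => z1 (Lin.SL2.eq_one_of_mem_center h)) (congrArg Subtype.val e)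
    rw [← trace_eq_zero_iff w1, hw, Matrix.trace_add, Matrix.trace_smul, Matrix.trace_smul,
      (trace_eq_zero_iff z1).2 z2]
    simp [CharTwo.two_eq_zero]
  inv x g x2 e := by
    have h2 := CharTwo.two_eq_zero (R := F)
    have x1 : x ≠ 1 := by rintro rfl; simp at x2
    have ht := (trace_eq_zero_iff x1).not.2 x2
    have h1 : (g * x * g⁻¹).1.trace = x.1.trace := by
      rw [Matrix.SpecialLinearGroup.coe_mul, Matrix.trace_mul_comm,
        ← Matrix.SpecialLinearGroup.coe_mul, inv_mul_cancel_left]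
    generalize g * x * g⁻¹ = b at e h1
    obtain ⟨k, l, hb⟩ := Lin.exists_of_commute_two (a := b.1) (Lin.SL2.mem_center_iff_scalar.not.1
      fun h => x1 (Lin.SL2.eq_one_of_mem_center h)) (congrArg Subtype.val e)
    have h3 := b.det_coe
    have h4 := x.det_coe
    rw [hb] at h1 h3
    rw [Matrix.det_fin_two] at h4
    simp [Matrix.det_fin_two, Matrix.trace_fin_two] at h1 h3 ht
    obtain rfl : l = 1 := mul_right_cancel₀ ht (by linear_combination h1 - k * h2)
    have h5 : k * (k - (x.1 0 0 + x.1 1 1)) = 0 := by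
      linear_combination h3 - h4 - k * (x.1 0 0 + x.1 1 1) * h2
    rcases mul_eq_zero.1 h5 with h | h
    · exact Or.inl (Subtype.ext (by rw [hb, h]; simp))
    · refine Or.inr (Subtype.ext ?_)
      rw [Lin.SL2.coe_inv, hb, sub_eq_zero.1 h, Matrix.trace_fin_two, one_smul]
      ext i j
      simp [CharTwo.sub_eq_add]

/-- In characteristic two `PSL(2, F) = SL(2, F)`. -/
noncomputable def pslEquiv : Matrix.ProjectiveSpecialLinearGroup (Fin 2) F ≃* SL(2, F) :=
  (QuotientGroup.quotientMulEquivOfEq (eq_bot_iff.2 fun _ hx =>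
    Lin.SL2.eq_one_of_mem_center hx)).trans QuotientGroup.quotientBot

end

theorem card_psl {n : ℕ} (hn : n ≠ 0) :
    Nat.card (Matrix.ProjectiveSpecialLinearGroup (Fin 2) (GaloisField 2 n)) =
      (2 ^ n - 1) * 2 ^ n * (1 + 2 ^ n) := by
  have := Fintype.ofFinite (GaloisField 2 n)
  rw [Nat.card_congr pslEquiv.toEquiv, Lin.card_SL2, ← Nat.card_eq_fintype_card,
    GaloisField.card 2 n hn]
  ring

theorem eq_of_card_psl {m n : ℕ}
    (h : (2 ^ m - 1) * 2 ^ m * (1 + 2 ^ m) = (2 ^ n - 1) * 2 ^ n * (1 + 2 ^ n)) : m = n := by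
  have : StrictMono fun n : ℕ => (2 ^ n - 1) * 2 ^ n * (1 + 2 ^ n) := fun a b hab => by
    have h1 : 2 ^ a < 2 ^ b := Nat.pow_lt_pow_right one_lt_two hab
    have h2 : 0 < 2 ^ a := by positivity
    exact Nat.mul_lt_mul'' (Nat.mul_lt_mul'' (by omega) h1) (by omega)
  exact this.injective h

end Cfsg.Agent.BSW
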