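import Mathlib
import Cfsg.Agent.Lib.BSW.Main

/-!
Consequences of the structure equation `t a(1) t = r t r⁻¹` in an arbitrary group, and the Bruhat
decomposition of a group generated by elements satisfying the relations of a Suzuki group.
-/

set_option autoImplicit false

namespace Cfsg.Agent.BSW

open Subgroup

variable {P : Type*} [Group P] {F : Type*} [Field F] {a k : F → P} {r t : P}

structure Rel1 (a k : F → P) (r t : P) : Prop where
  a_add : ∀ c d, a (c + d) = a c * a d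
  k_mul : ∀ c d, c ≠ 0 → d ≠ 0 → k (c * d) = k c * k d
  k_conj : ∀ c, c ≠ 0 → ∀ d, k c * a d * (k c)⁻¹ = a (c * d)
  t2 : t * t = 1
  t_k : ∀ c, c ≠ 0 → t * k c = (k c)⁻¹ * t
  str : t * a 1 * t = r * t * r⁻¹

/-- The conjugate of `r` by `k c`. -/
def rho (k : F → P) (r : P) (c : F) : P := k c * r * (k c)⁻¹

namespace Rel1

variable (h : Rel1 a k r t)
include h

theorem a_zero : a 0 = 1 := by
  have := h.a_add 0 0
  rw [add_zero] at this
  exact left_eq_mul.1 this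

theorem k_one : k 1 = 1 := by
  have := h.k_mul 1 1 one_ne_zero one_ne_zero
  rw [mul_one] at this
  exact left_eq_mul.1 this

theorem k_inv {c : F} (hc : c ≠ 0) : k c⁻¹ = (k c)⁻¹ := by
  rw [eq_inv_iff_mul_eq_one, ← h.k_mul _ _ (inv_ne_zero hc) hc, inv_mul_cancel₀ hc, h.k_one]

theorem k_t {c : F} (hc : c ≠ 0) : k c * t = t * (k c)⁻¹ := by
  calc k c * t = k c * (t * k c) * (k c)⁻¹ * (k c)⁻¹ * k c := by group
    _ = _ := by rw [h.t_k c hc]; group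

theorem rho_one : rho k r 1 = r := by rw [rho, h.k_one]; group

theorem k_rho {c d : F} (hc : c ≠ 0) (hd : d ≠ 0) :
    k c * rho k r d * (k c)⁻¹ = rho k r (c * d) := by
  rw [rho, rho, h.k_mul c d hc hd]; group

theorem t_a {c : F} (hc : c ≠ 0) :
    t * a c * t = rho k r c⁻¹ * t * k (c ^ 2) * (rho k r c⁻¹)⁻¹ := by
  have h1 := h.k_conj c hc 1
  rw [mul_one] at h1
  rw [sq, h.k_mul c c hc hc, rho, h.k_inv hc]
  calc t * a c * t = (t * k c) * a 1 * ((k c)⁻¹ * t) := by rw [← h1]; group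
    _ = (k c)⁻¹ * (t * a 1 * t) * k c := by rw [h.t_k c hc]; nth_rw 2 [← h.t_k c hc]; group
    _ = (k c)⁻¹ * r * k c * ((k c)⁻¹ * t) * r⁻¹ * k c := by rw [h.str]; group
    _ = _ := by rw [← h.t_k c hc]; group

theorem t_rho {c : F} (hc : c ≠ 0) :
    t * rho k r c * t = a c⁻¹ * t * k (c ^ 2) * rho k r c⁻¹ := by
  have h1 := h.t_a (inv_ne_zero hc)
  have h2 := h.k_rho (pow_ne_zero 2 hc) (inv_ne_zero hc)
  rw [inv_inv, inv_pow, h.k_inv (pow_ne_zero 2 hc)] at h1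
  rw [show c ^ 2 * c⁻¹ = c by field_simp] at h2
  calc _ = t * (rho k r c * t * (k (c ^ 2))⁻¹ * (rho k r c)⁻¹) * rho k r c * k (c ^ 2) := by group
    _ = t * t * a c⁻¹ * t * rho k r c * k (c ^ 2) := by rw [← h1]; group
    _ = _ := by rw [h.t2, ← h2]; group

theorem t_rho_inv {c : F} (hc : c ≠ 0) :
    t * (rho k r c)⁻¹ * t = (rho k r c⁻¹)⁻¹ * t * k (c ^ 2) * (a c⁻¹)⁻¹ := by
  have h1 := congrArg (·⁻¹) (h.t_rho hc)
  simp only [mul_inv_rev, inv_eq_of_mul_self h.t2] at h1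
  rw [mul_assoc, h1, mul_assoc _ t, h.t_k _ (pow_ne_zero 2 hc)]
  group

theorem t_D {c d : F} (hc : c ≠ 0) (hd : d ≠ 0) (hcd : c + d ≠ 0) :
    t * ((rho k r c)⁻¹ * rho k r d) * t =
      (rho k r c⁻¹)⁻¹ * rho k r (d / (c * (c + d))) * t * k ((c + d) ^ 2) *
        ((rho k r (c / (d * (c + d))))⁻¹ * rho k r d⁻¹) := by
  have e0 : c⁻¹ + d⁻¹ ≠ 0 := fun e => hcd (by field_simp at e; linear_combination e)
  have h1 := h.t_a (inv_ne_zero hc)
  have h2 := h.t_a (inv_ne_zero hd)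
  have h3 := h.t_a e0
  have c2 := pow_ne_zero 2 hc
  have d2 := pow_ne_zero 2 hd
  rw [inv_inv, inv_pow, h.k_inv c2] at h1
  rw [inv_inv, inv_pow, h.k_inv d2] at h2
  have h4 : t * a (c⁻¹ + d⁻¹) * t = (t * a c⁻¹ * t) * (t * a d⁻¹ * t) := by
    rw [h.a_add, show (t * a c⁻¹ * t) * (t * a d⁻¹ * t) = t * a c⁻¹ * (t * t) * a d⁻¹ * t by group,
      h.t2]
    group
  rw [h4, h1, h2] at h3
  rw [show c⁻¹ = (c ^ 2)⁻¹ * c by field_simp, show d⁻¹ = (d ^ 2)⁻¹ * d by field_simp,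
    show d / (c * (c + d)) = (c ^ 2)⁻¹ * (c⁻¹ + d⁻¹)⁻¹ by
      rw [show c⁻¹ + d⁻¹ = (c + d) / (c * d) by field_simp; ring]; field_simp,
    show c / (d * (c + d)) = (d ^ 2)⁻¹ * (c⁻¹ + d⁻¹)⁻¹ by
      rw [show c⁻¹ + d⁻¹ = (c + d) / (c * d) by field_simp; ring]; field_simp,
    show (c + d) ^ 2 = c ^ 2 * ((c⁻¹ + d⁻¹) ^ 2 * d ^ 2) by field_simp; ring,
    ← h.k_rho (inv_ne_zero c2) hc, ← h.k_rho (inv_ne_zero d2) hd,
    ← h.k_rho (inv_ne_zero c2) (inv_ne_zero e0), ← h.k_rho (inv_ne_zero d2) (inv_ne_zero e0),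
    h.k_mul _ _ c2 (mul_ne_zero (pow_ne_zero 2 e0) d2), h.k_mul _ _ (pow_ne_zero 2 e0) d2,
    h.k_inv c2, h.k_inv d2]
  have h5 := h.t_k _ c2
  have h6 := h.k_t c2
  generalize rho k r (c⁻¹ + d⁻¹)⁻¹ = C at h3 ⊢
  generalize k ((c⁻¹ + d⁻¹) ^ 2) = κ at h3 ⊢
  generalize k (c ^ 2) = i at h3 h5 h6 ⊢
  generalize k (d ^ 2) = j at h3 ⊢
  generalize rho k r c = A at h3 ⊢
  generalize rho k r d = B at h3 ⊢
  calc _ = i⁻¹ * (i * t) * A⁻¹ * B * t := by group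
    _ = i⁻¹ * A⁻¹ * (A * t * i⁻¹ * A⁻¹ * (B * t * j⁻¹ * B⁻¹)) * B * j := by rw [h6]; group
    _ = i⁻¹ * A⁻¹ * C * i * (i⁻¹ * t) * κ * C⁻¹ * B * j := by rw [h3]; group
    _ = _ := by rw [← h5]; group

end Rel1

/-- The relations of a Suzuki group. -/
structure Rel2 (θ : F ≃+* F) (a k v : F → P) (t : P) : Prop extends Rel1 a k (v 1) t where
  a_v : ∀ d x, a d * v x = v x * a d
  v_mul : ∀ x y, v x * v y = v (x + y) * a (y * θ x)
  v_conj : ∀ l, l ≠ 0 → ∀ x, k (l * θ l) * v x * (k (l * θ l))⁻¹ = v (l * x)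
  norm_surj : ∀ c, ∃ x, x * θ x = c

theorem Rel2.prod {Q : Type*} [Group Q] {θ : F ≃+* F} {v : F → P} {a' k' v' : F → Q} {t' : Q}
    (h : Rel2 θ a k v t) (h' : Rel2 θ a' k' v' t') :
    Rel2 θ (fun c => (a c, a' c)) (fun c => (k c, k' c)) (fun c => (v c, v' c)) (t, t') where
  a_add c d := Prod.ext (h.a_add c d) (h'.a_add c d)
  k_mul c d hc hd := Prod.ext (h.k_mul c d hc hd) (h'.k_mul c d hc hd)
  k_conj c hc d := Prod.ext (h.k_conj c hc d) (h'.k_conj c hc d)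
  t2 := Prod.ext h.t2 h'.t2
  t_k c hc := Prod.ext (h.t_k c hc) (h'.t_k c hc)
  str := Prod.ext h.str h'.str
  a_v d x := Prod.ext (h.a_v d x) (h'.a_v d x)
  v_mul x y := Prod.ext (h.v_mul x y) (h'.v_mul x y)
  v_conj l hl x := Prod.ext (h.v_conj l hl x) (h'.v_conj l hl x)
  norm_surj := h.norm_surj

namespace Rel2

variable [CharP F 2] {θ : F ≃+* F} {v : F → P} (h : Rel2 θ a k v t)
include h

omit [CharP F 2] in
theorem v_zero : v 0 = 1 := by
  have := h.v_mul 0 0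
  rw [add_zero, zero_mul, h.a_zero, mul_one] at this
  exact mul_eq_left.1 this

theorem a_inv (c : F) : (a c)⁻¹ = a c :=
  inv_eq_of_mul_self (by rw [← h.a_add, CharTwo.add_self_eq_zero, h.a_zero])

theorem v_inv (x : F) : (v x)⁻¹ = v x * a (x * θ x) := by
  rw [inv_eq_iff_mul_eq_one, ← mul_assoc, h.v_mul, CharTwo.add_self_eq_zero, h.v_zero, one_mul,
    ← h.a_add, CharTwo.add_self_eq_zero, h.a_zero]

omit [CharP F 2] in
theorem rho_eq {x : F} (hx : x ≠ 0) : rho k (v 1) (x * θ x) = v x := by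
  rw [rho, h.v_conj x hx, mul_one]

omit [CharP F 2] in
theorem k_v {c : F} (hc : c ≠ 0) (x : F) : ∃ y, k c * v x = v y * k c := by
  obtain ⟨l, rfl⟩ := h.norm_surj c
  exact ⟨l * x, by rw [← h.v_conj l (left_ne_zero_of_mul hc) x]; group⟩

/-- The Borel subgroup. -/
def B : Subgroup P where
  carrier := {p | ∃ x d c, c ≠ 0 ∧ p = v x * a d * k c}
  one_mem' := ⟨0, 0, 1, one_ne_zero, by rw [h.v_zero, h.a_zero, h.k_one, mul_one, mul_one]⟩
  mul_mem' := by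
    rintro _ _ ⟨x, d, c, hc, rfl⟩ ⟨x', d', c', hc', rfl⟩
    obtain ⟨y, hy⟩ := h.k_v hc x'
    refine ⟨x + y, y * θ x + d + c * d', c * c', mul_ne_zero hc hc', ?_⟩
    calc _ = v x * a d * (k c * v x') * a d' * k c' := by group
      _ = v x * (a d * v y) * (k c * a d' * (k c)⁻¹) * (k c * k c') := by rw [hy]; group
      _ = v x * v y * a d * a (c * d') * k (c * c') := by
        rw [h.a_v, h.k_conj c hc, h.k_mul c c' hc hc']; group
      _ = _ := by rw [h.v_mul, h.a_add, h.a_add]; group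
  inv_mem' := by
    rintro _ ⟨x, d, c, hc, rfl⟩
    obtain ⟨y, hy⟩ := h.k_v (inv_ne_zero hc) x
    refine ⟨y, c⁻¹ * (d + x * θ x), c⁻¹, inv_ne_zero hc, ?_⟩
    calc _ = (k c)⁻¹ * (a d * v x) * a (x * θ x) := by
          rw [mul_inv_rev, mul_inv_rev, h.a_inv, h.v_inv]; group
      _ = (k c⁻¹ * v x) * a (d + x * θ x) := by rw [h.a_v, h.a_add, h.k_inv hc]; group
      _ = _ := by rw [hy, ← h.k_conj _ (inv_ne_zero hc)]; group

theorem v_mem (x : F) : v x ∈ h.B :=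
  ⟨x, 0, 1, one_ne_zero, by rw [h.a_zero, h.k_one, mul_one, mul_one]⟩

theorem a_mem (x : F) : a x ∈ h.B :=
  ⟨0, x, 1, one_ne_zero, by rw [h.v_zero, h.k_one, mul_one, one_mul]⟩

theorem k_mem {c : F} (hc : c ≠ 0) : k c ∈ h.B :=
  ⟨0, 0, c, hc, by rw [h.v_zero, h.a_zero, mul_one, one_mul]⟩

theorem rho_mem {c : F} (hc : c ≠ 0) : rho k (v 1) c ∈ h.B :=
  mul_mem (mul_mem (h.k_mem hc) (h.v_mem 1)) (inv_mem (h.k_mem hc))

theorem t_conj (hN : ∀ x y, x * θ x = y * θ y → x = y) (x d : F) :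
    v x * a d = 1 ∨ ∃ m ∈ h.B, ∃ m' ∈ h.B, t * (v x * a d) * t = m * t * m' := by
  have N0 : ∀ x, x ≠ 0 → x * θ x ≠ 0 := fun x hx => mul_ne_zero hx (by simpa using hx)
  by_cases hx : x = 0
  · subst hx
    rw [h.v_zero, one_mul]
    by_cases hd : d = 0
    · exact Or.inl (hd ▸ h.a_zero)
    · exact Or.inr ⟨_, h.rho_mem (inv_ne_zero hd), _, mul_mem (h.k_mem (pow_ne_zero 2 hd))
        (inv_mem (h.rho_mem (inv_ne_zero hd))), by rw [h.t_a hd, mul_assoc]⟩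
  right
  have e : v x * a d = (v (θ.symm (d / x)))⁻¹ * v (θ.symm (d / x) + x) := by
    rw [h.v_inv, mul_assoc, h.a_v, ← mul_assoc, h.v_mul, mul_assoc, ← h.a_add,
      CharTwo.add_cancel_left]
    congr 2
    rw [RingEquiv.apply_symm_apply]
    field_simp
    linear_combination -(θ.symm (d / x)) * d * CharTwo.two_eq_zero (R := F)
  rw [e]
  generalize θ.symm (d / x) = l
  by_cases hl : l = 0
  · subst hl
    rw [h.v_zero, inv_one, one_mul, zero_add, ← h.rho_eq hx]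
    exact ⟨_, h.a_mem _, _, mul_mem (h.k_mem (pow_ne_zero 2 (N0 x hx)))
      (h.rho_mem (inv_ne_zero (N0 x hx))), by rw [h.t_rho (N0 x hx), mul_assoc]⟩
  by_cases hl' : l + x = 0
  · rw [hl', h.v_zero, mul_one, ← h.rho_eq hl]
    exact ⟨_, inv_mem (h.rho_mem (inv_ne_zero (N0 l hl))), _, mul_mem
      (h.k_mem (pow_ne_zero 2 (N0 l hl))) (inv_mem (h.a_mem _)),
      by rw [h.t_rho_inv (N0 l hl), mul_assoc]⟩
  have h0 : l * θ l + (l + x) * θ (l + x) ≠ 0 := fun e =>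
    hx (left_eq_add.1 (hN _ _ (CharTwo.add_eq_zero.1 e)))
  have h1 := N0 l hl
  have h2 := N0 _ hl'
  rw [← h.rho_eq hl, ← h.rho_eq hl', h.t_D h1 h2 h0]
  exact ⟨_, mul_mem (inv_mem (h.rho_mem (inv_ne_zero h1))) (h.rho_mem (by positivity)), _,
    mul_mem (h.k_mem (pow_ne_zero 2 h0)) (mul_mem (inv_mem (h.rho_mem (by positivity)))
      (h.rho_mem (inv_ne_zero h2))), mul_assoc _ _ _⟩

/-- The subgroup `B ∪ B t B`. -/
def R (hN : ∀ x y, x * θ x = y * θ y → x = y) : Subgroup P where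
  carrier := {p | p ∈ h.B ∨ ∃ m ∈ h.B, ∃ m' ∈ h.B, p = m * t * m'}
  one_mem' := Or.inl (one_mem _)
  mul_mem' := by
    rintro p q (hp | ⟨m, hm, m', hm', rfl⟩) (hq | ⟨n, hn, n', hn', rfl⟩)
    · exact Or.inl (mul_mem hp hq)
    · exact Or.inr ⟨_, mul_mem hp hn, _, hn', by group⟩
    · exact Or.inr ⟨_, hm, _, mul_mem hm' hq, by group⟩
    · obtain ⟨x, d, c, hc, e⟩ := mul_mem hm' hn
      have e1 : m * t * m' * (n * t * n') = m * (t * (v x * a d) * t) * ((k c)⁻¹ * n') := by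
        calc _ = m * t * (m' * n) * t * n' := by group
          _ = m * t * (v x * a d) * (k c * t) * n' := by rw [e]; group
          _ = _ := by rw [h.k_t hc]; group
      have h1 := mul_mem (inv_mem (h.k_mem hc)) hn'
      rw [e1]
      rcases h.t_conj hN x d with e | ⟨i, hi, j, hj, e⟩
      · rw [e, mul_one, h.t2, mul_one]
        exact Or.inl (mul_mem hm h1)
      · exact Or.inr ⟨_, mul_mem hm hi, _, mul_mem hj h1, by rw [e]; group⟩
  inv_mem' := by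
    rintro p (hp | ⟨m, hm, m', hm', rfl⟩)
    · exact Or.inl (inv_mem hp)
    · exact Or.inr ⟨_, inv_mem hm', _, inv_mem hm, by
        rw [mul_inv_rev, mul_inv_rev, inv_eq_of_mul_self h.t2, mul_assoc]⟩

end Rel2

end Cfsg.Agent.BSW
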