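import Mathlib
import Cfsg.Agent.Lib.BSW.SzRel

/-!
Coordinates on `H` when `|H| = q ^ 2`: `H` is a Suzuki 2-group of type `A`.
-/

set_option autoImplicit false

namespace Cfsg.Agent.BSW

open Subgroup

/-- A multiplicative quadratic map between finite fields of characteristic two and the same order
which is not additive is a product of two field homomorphisms. -/
theorem exists_ringHom_mul {E F : Type*} [Field E] [Field F] [Finite E] [Finite F] [CharP E 2]
    [CharP F 2] (hc : Nat.card E = Nat.card F) (χ : E → F) (h0 : χ 0 = 0) (h1 : χ 1 = 1)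
    (hmul : ∀ x y, χ (x * y) = χ x * χ y) (Γ : E → E → F)
    (hΓ : ∀ x y, χ (x + y) = χ x + χ y + Γ x y) (hadd : ∀ x y z, Γ (x + y) z = Γ x z + Γ y z)
    (hne : ∃ x y, Γ x y ≠ 0) : ∃ σ τ : E →+* F, ∀ x, χ x = σ x * τ x := by
  classical
  have h2 := CharTwo.two_eq_zero (R := F)
  let _ := ZMod.algebra E 2
  let _ := ZMod.algebra F 2
  have hfin : Module.finrank (ZMod 2) E = Module.finrank (ZMod 2) F := by
    have a := Module.natCard_eq_pow_finrank (K := ZMod 2) (V := E)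
    have b := Module.natCard_eq_pow_finrank (K := ZMod 2) (V := F)
    rw [hc, b] at a
    exact (Nat.pow_right_injective (by simp) a).symm
  have := Fintype.ofFinite (E →ₐ[ZMod 2] F)
  have li := linearIndependent_algHom_toLinearMap (ZMod 2) E F
  have hsp := li.span_eq_top_of_card_eq_finrank' (by
    rw [Module.finrank_linearMap_self, ← Nat.card_eq_fintype_card,
      FiniteField.natCard_algHom_of_finrank_dvd hfin.dvd])
  have hsym : ∀ x y, Γ x y = Γ y x := fun x y => by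
    linear_combination hΓ y x - hΓ x y + congrArg χ (add_comm x y)
  have hsc : ∀ z x y, Γ (z * x) (z * y) = χ z * Γ x y := fun z x y => by
    have := hΓ (z * x) (z * y)
    rw [← mul_add, hmul, hmul, hmul, hΓ] at this
    linear_combination -this
  let g : E →ₗ[ZMod 2] F := (AddMonoidHom.mk' (fun x => Γ x 1) fun x y => hadd x y 1).toZModLinearMap 2
  obtain ⟨c, hc⟩ := (Submodule.mem_span_range_iff_exists_fun F).1
    (show g ∈ Submodule.span F (Set.range fun σ : E →ₐ[ZMod 2] F => σ.toLinearMap) from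
      hsp ▸ Submodule.mem_top)
  have hg : ∀ x, Γ x 1 = ∑ σ : E →ₐ[ZMod 2] F, c σ * σ x := fun x => by
    have := congrArg (fun f : E →ₗ[ZMod 2] F => f x) hc
    simp only [LinearMap.coe_sum, Finset.sum_apply, LinearMap.smul_apply, smul_eq_mul,
      AlgHom.toLinearMap_apply] at this
    exact this.symm
  have hg' : ∀ x y, Γ x y = ∑ σ : E →ₐ[ZMod 2] F, c σ * (χ y / σ y) * σ x := fun x y => by
    by_cases hy : y = 0
    · have := hΓ x 0
      rw [add_zero, h0] at this
      simp [hy, h0]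
      linear_combination -this
    · have := hsc y (x / y) 1
      rw [mul_one, mul_div_cancel₀ _ hy, hg, Finset.mul_sum] at this
      rw [this]
      exact Finset.sum_congr rfl fun σ _ => by rw [map_div₀]; ring
  obtain ⟨σ, hσ⟩ : ∃ σ, c σ ≠ 0 := by
    by_contra! h
    obtain ⟨x, y, e⟩ := hne
    exact e (by simp [hg', h])
  have hψ : ∀ y z, χ (y + z) / σ (y + z) = χ y / σ y + χ z / σ z := fun y z => by
    have := Fintype.linearIndependent_iff.1 li
      (fun σ => c σ * (χ (y + z) / σ (y + z) - (χ y / σ y + χ z / σ z))) (by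
        ext x
        simp only [LinearMap.coe_sum, Finset.sum_apply, LinearMap.smul_apply, smul_eq_mul,
          AlgHom.toLinearMap_apply, LinearMap.zero_apply]
        have := hadd y z x
        rw [hsym (y + z), hsym y, hsym z, hg', hg' x y, hg' x z, ← Finset.sum_add_distrib,
          ← sub_eq_zero, ← Finset.sum_sub_distrib] at this
        rw [← this]
        exact Finset.sum_congr rfl fun σ _ => by ring) σ
    exact sub_eq_zero.1 ((mul_eq_zero.1 this).resolve_left hσ)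
  refine ⟨σ, ⟨⟨⟨fun y => χ y / σ y, by simp [h1]⟩, fun x y => by
    simp only [hmul, map_mul]; rw [div_mul_div_comm]⟩, by simp [h0], hψ⟩, fun x => ?_⟩
  by_cases hx : x = 0
  · simp [hx, h0]
  · exact (mul_div_cancel₀ _ (by simpa using hx)).symm

/-- A copy of `F` which is to be given a new addition. -/
@[ext] structure Tw (F : Type*) where
  val : F

theorem exists_theta {F : Type*} [Field F] [Finite F] [CharP F 2] (s Γ : F → F → F)
    (hass : ∀ c d e, s (s c d) e = s c (s d e)) (hzero : ∀ c, s 0 c = c) (hself : ∀ c, s c c = 0)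
    (hsc : ∀ l c d, s (l * c) (l * d) = l * s c d) (hsq : ∀ c d, s c d = c + d + Γ c d)
    (hadd : ∀ c d e, Γ (s c d) e = Γ c e + Γ d e) (hne : ∃ c d, Γ c d ≠ 0) :
    ∃ θ : F ≃+* F, (∀ x y, (x + y) * θ (x + y) = s (x * θ x) (y * θ y)) ∧
      Function.Bijective fun x => x * θ x := by
  let e : Tw F ≃ F := ⟨Tw.val, Tw.mk, fun _ => rfl, fun _ => rfl⟩
  let _ : Add (Tw F) := ⟨fun x y => ⟨s x.1 y.1⟩⟩
  let _ : Neg (Tw F) := ⟨id⟩
  let _ : Mul (Tw F) := ⟨fun x y => ⟨x.1 * y.1⟩⟩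
  let _ : Inv (Tw F) := ⟨fun x => ⟨x.1⁻¹⟩⟩
  let _ : Zero (Tw F) := ⟨⟨0⟩⟩
  let _ : One (Tw F) := ⟨⟨1⟩⟩
  let fld : Field (Tw F) := Field.ofMinimalAxioms (Tw F) (fun c d e => Tw.ext (hass _ _ _))
    (fun c => Tw.ext (hzero _)) (fun c => Tw.ext (hself _)) (fun _ _ _ => Tw.ext (mul_assoc _ _ _))
    (fun _ _ => Tw.ext (mul_comm _ _)) (fun _ => Tw.ext (one_mul _))
    (fun c hc => Tw.ext (mul_inv_cancel₀ fun e => hc (Tw.ext e))) (Tw.ext inv_zero)
    (fun l c d => Tw.ext (hsc _ _ _).symm) ⟨⟨0⟩, ⟨1⟩, fun e => zero_ne_one (congrArg Tw.val e)⟩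
  have : Finite (Tw F) := Finite.of_equiv F e.symm
  have : CharP (Tw F) 2 := CharTwo.of_one_ne_zero_of_two_eq_zero one_ne_zero
    (one_add_one_eq_two.symm.trans (Tw.ext (hself 1)))
  obtain ⟨σ, τ, hστ⟩ := exists_ringHom_mul (E := Tw F) (F := F) (Nat.card_congr e) Tw.val rfl rfl
    (fun _ _ => rfl) (fun c d => Γ c.1 d.1) (fun c d => hsq c.1 d.1) (fun c d e => hadd c.1 d.1 e.1)
    (by obtain ⟨c, d, h⟩ := hne; exact ⟨⟨c⟩, ⟨d⟩, h⟩)
  let σe : Tw F ≃+* F := RingEquiv.ofBijective σ ((Nat.bijective_iff_injective_and_card _).2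
    ⟨σ.injective, Nat.card_congr e⟩)
  let τe : Tw F ≃+* F := RingEquiv.ofBijective τ ((Nat.bijective_iff_injective_and_card _).2
    ⟨τ.injective, Nat.card_congr e⟩)
  have hι : ∀ x, x * (σe.symm.trans τe) x = (σe.symm x).1 := fun x =>
    ((hστ (σe.symm x)).trans (congrArg (· * τe (σe.symm x)) (σe.apply_symm_apply x))).symm
  refine ⟨σe.symm.trans τe, fun x y => ?_, ?_⟩
  · rw [hι, hι, hι, map_add]
    rfl
  · rw [funext hι]
    exact e.bijective.comp σe.symm.bijective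

universe u

variable {G : Type u} [Group G] {H : Subgroup G} {t : G} {F : Type*} [Field F] {a k : F → G}

structure Coord (H : Subgroup G) (t : G) (θ : F ≃+* F) (b : F) (a k v : F → G) : Prop where
  fr : Frame H t a k
  str : t * a 1 * t = v 1 * t * (v 1)⁻¹
  v_mem : ∀ x, v x ∈ H
  v_mul : ∀ x y, v x * v y = v (x + y) * a ((b + 1) * (x * θ y) + b * (y * θ x))
  v_conj : ∀ l, l ≠ 0 → ∀ x, k (l * θ l) * v x * (k (l * θ l))⁻¹ = v (l * x)
  v_surj : ∀ y ∈ H, ∃ x d, y = v x * a d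
  norm_inj : ∀ x y, x * θ x = y * θ y → x = y
  ne : ∃ x, θ x ≠ x

variable [Finite G]

namespace Frame

variable (fr : Frame H t a k) (hC : HypC H t)
include fr hC

theorem rel1 {r : G} (e : t * a 1 * t = r * t * r⁻¹) : Rel1 a k r t :=
  ⟨fr.a_add, fun _ _ => fr.k_mul hC, fr.k_conj, hC.t2, fun c _ => hC.t_mul (fr.k_mem c), e⟩

omit [Finite G] in
theorem a_comm (c : F) {y : G} (hy : y ∈ H) : a c * y = y * a c :=
  (hC.comm (fr.a_mem c) (fr.a_sq c) hy).symm

omit [Finite G] in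
theorem sq_rho {x : G} (hx : x ∈ H) {w : F} (hw : x * x = a w) {c : F} (hc : c ≠ 0) (d : F) :
    rho k x c * a d * (rho k x c * a d) = a (c * w) := by
  have := fr.a_comm hC d (hC.K_conj_mem (fr.k_mem c) hx)
  calc _ = rho k x c * (a d * rho k x c) * a d := by group
    _ = k c * (x * x) * (k c)⁻¹ * (a d * a d) := by rw [rho, this]; group
    _ = _ := by rw [hw, fr.a_sq, mul_one, fr.k_conj c hc]

theorem exists_rho (hq : Nat.card H = Nat.card F ^ 2) {x : G} (hx : x ∈ H) {w : F} (w0 : w ≠ 0)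
    (hw : x * x = a w) {y : G} (hy : y ∈ H) (y2 : y * y ≠ 1) :
    ∃ c, c ≠ 0 ∧ ∃ d, y = rho k x c * a d := by
  classical
  have := fr.finite
  let f : Fˣ × F → {y : H // (y : G) * y ≠ 1} := fun p =>
    ⟨⟨rho k x p.1 * a p.2, mul_mem (hC.K_conj_mem (fr.k_mem _) hx) (fr.a_mem _)⟩, by
      rw [fr.sq_rho hC hx hw p.1.ne_zero]; exact fr.a_ne_one (mul_ne_zero p.1.ne_zero w0)⟩
  have h1 : Nat.card {y : H // (y : G) * y = 1} = Nat.card F := (Nat.card_eq_of_bijective
    (fun c => (⟨⟨a c, fr.a_mem c⟩, fr.a_sq c⟩ : {y : H // (y : G) * y = 1}))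
    ⟨fun c d e => fr.a_inj (congrArg (·.1.1) e), fun y => by
      obtain ⟨c, hc⟩ := fr.a_surj y.1 y.1.2 y.2
      exact ⟨c, Subtype.ext (Subtype.ext hc)⟩⟩).symm
  have h2 := Nat.card_congr (Equiv.sumCompl fun y : H => (y : G) * y = 1)
  rw [Nat.card_sum, h1, hq] at h2
  have hf : Function.Bijective f := (Nat.bijective_iff_injective_and_card f).2 ⟨by
    rintro ⟨c, d⟩ ⟨c', d'⟩ e
    have e : rho k x c * a d = rho k x c' * a d' := congrArg (·.1.1) e
    have e2 := fr.sq_rho hC hx hw c.ne_zero d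
    rw [e, fr.sq_rho hC hx hw c'.ne_zero] at e2
    obtain rfl : c' = c := Units.ext (mul_right_cancel₀ w0 (fr.a_inj e2))
    rw [fr.a_inj (mul_left_cancel e)], by
    rw [Nat.card_prod, Nat.card_units, Nat.sub_mul, one_mul, ← sq, ← h2, Nat.add_sub_cancel_left]⟩
  obtain ⟨⟨c, d⟩, e⟩ := hf.2 ⟨⟨y, hy⟩, y2⟩
  exact ⟨c, c.ne_zero, d, (congrArg (·.1.1) e).symm⟩

theorem not_elem (hq : Nat.card H = Nat.card F ^ 2) : ¬ ∀ y ∈ H, y * y = 1 := fun h => by
  have := fr.finite
  have h1 : Nat.card H ≤ Nat.card F := Nat.card_le_card_of_surjective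
    (fun c => (⟨a c, fr.a_mem c⟩ : H)) fun y => by
      obtain ⟨c, hc⟩ := fr.a_surj y y.2 (h y y.2)
      exact ⟨c, Subtype.ext hc⟩
  have h2 : 1 < Nat.card F := Finite.one_lt_card
  nlinarith

theorem not_three (hq : Nat.card H = Nat.card F ^ 2) : ∀ ω ∈ Kt H t, ω ^ 3 = 1 → ω = 1 :=
  fun ω hω ω3 => by
    by_contra ω1
    exact fr.not_elem hC hq fun y hy => hC.mul_self_of_three hω ω1 ω3 hy

theorem r_sq (h2 : IsPGroup 2 H) (hq : Nat.card H = Nat.card F ^ 2) {r : G} (hr : r ∈ H)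
    (e : t * a 1 * t = r * t * r⁻¹) : r * r = a 1 := by
  have r2 : r * r ≠ 1 := fun r2 => fr.not_elem hC hq (fr.mul_self_of_not_three hC
    (fr.str_eq hC hr e fun j hj => (hC.comm hr r2 (hC.K_conj_mem hj hr)).symm)
    (fr.not_three hC hq))
  obtain ⟨x, hx, x2, x4⟩ : ∃ x ∈ H, x * x ≠ 1 ∧ x * x * (x * x) = 1 := by
    obtain ⟨n, hn⟩ := h2 ⟨r, hr⟩
    replace hn : r ^ 2 ^ n = 1 := congrArg Subtype.val hn
    clear e
    induction n generalizing r with
    | zero => exact (r2 (by rw [show r = 1 by simpa using hn, mul_one])).elim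
    | succ n ih =>
      by_cases h : r * r * (r * r) = 1
      · exact ⟨r, hr, r2, h⟩
      · exact ih (mul_mem hr hr) h (by rwa [← sq, ← pow_mul, ← pow_succ'])
  obtain ⟨w, hw⟩ := fr.a_surj _ (mul_mem hx hx) x4
  have w0 : w ≠ 0 := by rintro rfl; exact x2 (hw ▸ fr.a_zero)
  obtain ⟨c, hc, d, hd⟩ := fr.exists_rho hC hq hx w0 hw.symm hr r2
  have h3 := fr.sq_rho hC hx hw.symm hc d
  rw [← hd] at h3
  have hs := fr.a_mem 1
  have s2 := fr.a_sq 1
  have hz := fr.a_mem (c * w)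
  have z1 := fr.a_ne_one (mul_ne_zero hc w0)
  have z2 := fr.a_sq (c * w)
  have h4 : r * (a 1 * t) * r⁻¹ = (a 1 * t) ^ 2 := by
    rw [← mul_assoc, ← fr.a_comm hC 1 hr, mul_assoc, mul_assoc, ← mul_assoc r, ← e, sq]; group
  have h5 : a 1 * (a 1 * t) * (a 1)⁻¹ = (a 1 * t)⁻¹ := by
    rw [← mul_assoc, s2, mul_inv_rev, hC.t_inv, one_mul]
  have h6 : a 1 * t ∉ H := fun h => hC.t_not_mem (le_normalizer ((H.mul_mem_cancel_left hs).1 h))
  rw [h3]
  generalize a 1 * t = g at h4 h5 h6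
  have h7 : a (c * w) * g * (a (c * w))⁻¹ = g ^ 4 := by
    calc _ = r * (r * g * r⁻¹) * r⁻¹ := by rw [← h3]; group
      _ = _ := by rw [h4, ← conj_pow, h4, ← pow_mul]
  generalize a (c * w) = z at hz z1 z2 h7
  generalize a 1 = s at hs s2 h5
  have h8 : g ^ 16 = g := by
    calc g ^ 16 = z * (z * g * z⁻¹) * z⁻¹ := by rw [h7, ← conj_pow, h7, ← pow_mul]
      _ = z * z * g * (z * z)⁻¹ := by group
      _ = g := by rw [z2]; group
  have h9 : g ^ 5 ∈ H := hC.mem_of_comm hz z1 z2 (mul_inv_eq_iff_eq_mul.1 (by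
    rw [← conj_pow, h7, ← pow_mul, show 4 * 5 = 16 + 4 from rfl, pow_add, h8, ← pow_succ'])).symm
  have h10 : g ^ 5 = (g ^ 5)⁻¹ := by
    rw [← inv_pow, ← h5, conj_pow, ← hC.comm hs s2 h9, mul_inv_cancel_right]
  have h11 : g ^ 5 = 1 := by
    have h12 : g ^ 15 * g = 1 * g := by rw [← pow_succ, h8, one_mul]
    calc g ^ 5 = g ^ 15 * (g ^ 5)⁻¹ * (g ^ 5)⁻¹ := by group
      _ = 1 := by rw [mul_right_cancel h12, one_mul]; nth_rw 1 [← h10]; group
  have h13 : g ^ 4 = g⁻¹ := eq_inv_of_mul_eq_one_left (by rw [← pow_succ, h11])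
  by_contra hne
  refine h6 (hC.cc (s⁻¹ * z) (mul_mem (inv_mem hs) hz) (fun e => hne (inv_mul_eq_one.1 e).symm) g ?_)
  calc g * (s⁻¹ * z) = s⁻¹ * (s * g * s⁻¹) * z := by group
    _ = _ := by rw [h5, ← h13, ← h7]; group

theorem exists_coord (h2 : IsPGroup 2 H) (hq : Nat.card H = Nat.card F ^ 2) {r : G} (hr : r ∈ H)
    (e : t * a 1 * t = r * t * r⁻¹) : ∃ θ b v, Coord H t θ b a k v := by
  classical
  have := fr.finite
  have := fr.charP
  have two := CharTwo.two_eq_zero (R := F)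
  have r2 := fr.r_sq hC h2 hq hr e
  have rel := fr.rel1 hC e
  let u : F → G := fun c => if c = 0 then 1 else rho k r c
  have u0 : u 0 = 1 := if_pos rfl
  have u1 : ∀ c, c ≠ 0 → u c = rho k r c := fun c hc => if_neg hc
  have um : ∀ c, u c ∈ H := fun c => by
    by_cases hc : c = 0
    · rw [hc, u0]; exact one_mem _
    · rw [u1 c hc]; exact hC.K_conj_mem (fr.k_mem c) hr
  have usq : ∀ c d, u c * a d * (u c * a d) = a c := fun c d => by
    by_cases hc : c = 0
    · rw [hc, u0, one_mul, fr.a_sq, fr.a_zero]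
    · rw [u1 c hc, fr.sq_rho hC hr r2 hc, mul_one]
  have uinj : ∀ {c d c' d'}, u c * a d = u c' * a d' → c = c' ∧ d = d' := fun {c d c' d'} e => by
    have := usq c d
    rw [e, usq] at this
    obtain rfl := fr.a_inj this
    exact ⟨rfl, fr.a_inj (mul_left_cancel e)⟩
  have usurj : ∀ y ∈ H, ∃ c d, y = u c * a d := fun y hy => by
    by_cases y2 : y * y = 1
    · obtain ⟨d, rfl⟩ := fr.a_surj y hy y2
      exact ⟨0, d, by rw [u0, one_mul]⟩
    · obtain ⟨c, hc, d, e⟩ := fr.exists_rho hC hq hr one_ne_zero r2 hy y2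
      exact ⟨c, d, by rwa [u1 c hc]⟩
  have uconj : ∀ l, l ≠ 0 → ∀ c, k l * u c * (k l)⁻¹ = u (l * c) := fun l hl c => by
    by_cases hc : c = 0
    · rw [hc, mul_zero, u0]; group
    · rw [u1 c hc, u1 _ (mul_ne_zero hl hc), rel.k_rho hl hc]
  choose s β hs using fun c d => usurj _ (mul_mem (um c) (um d))
  have ac : ∀ c d, a c * u d = u d * a c := fun c d => fr.a_comm hC c (um d)
  have mul3 : ∀ c d e f, u c * a e * (u d * a f) = u (s c d) * a (β c d + e + f) := fun c d e f => by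
    rw [mul_assoc, ← mul_assoc (a e), ac, ← mul_assoc, ← mul_assoc, hs, fr.a_add, fr.a_add]; group
  have ua : ∀ c, u c = u c * a 0 := fun c => by rw [fr.a_zero, mul_one]
  have hass : ∀ c d e, s (s c d) e = s c (s d e) ∧
      β (s c d) e + β c d = β c (s d e) + β d e := fun c d e => by
    have := mul_assoc (u c) (u d) (u e)
    rw [hs c d, hs d e, ua e, ua c, mul3, mul3] at this
    simpa using uinj this
  have hzero : ∀ c, s 0 c = c ∧ β 0 c = 0 := fun c => uinj (by rw [← hs, u0, one_mul, ← ua])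
  have hself : ∀ c, s c c = 0 ∧ β c c = c := fun c => uinj (by
    rw [← hs, u0, one_mul, ← usq c 0, ← ua])
  have hsc : ∀ l c d, s (l * c) (l * d) = l * s c d ∧ β (l * c) (l * d) = l * β c d :=
    fun l c d => by
      by_cases hl : l = 0
      · simpa [hl] using hzero 0
      · refine uinj ?_
        rw [← hs, ← uconj l hl, ← uconj l hl, ← uconj l hl, ← fr.k_conj l hl, conj_mul, conj_mul, hs]
  have hcomm : ∀ c d, s c d = s d c := fun c d => by
    have hi : ∀ c d, (u c * a d)⁻¹ = u c * a (c + d) := fun c d => by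
      rw [inv_eq_iff_mul_eq_one, mul3, (hself c).1, (hself c).2, u0, one_mul, fr.a_eq_one_iff]
      linear_combination (c + d) * two
    have h1 := hi (s c d) (β c d)
    rw [← hs, mul_inv_rev, ua c, ua d, hi, hi, mul3] at h1
    exact (uinj h1).1.symm
  have hΓ : ∀ c d, u d * u c = u c * u d * a (β c d + β d c) := fun c d => by
    rw [hs, hs, hcomm, mul_assoc, ← fr.a_add, CharTwo.add_cancel_left]
  have hsq : ∀ c d, s c d = c + d + (β c d + β d c) := fun c d => fr.a_inj (by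
    rw [← usq _ (β c d), ← hs, fr.a_add, fr.a_add, ← usq c 0, ← usq d 0, ← ua, ← ua,
      mul_assoc (u c), ← mul_assoc (u d), hΓ, mul_assoc _ (a _), ac]
    group)
  have hadd : ∀ c d e, β (s c d) e + β e (s c d) = (β c e + β e c) + (β d e + β e d) :=
    fun c d e => by
      have h1 := (hass c d e).2
      have h2 := (hass c e d).2
      have h3 := (hass e c d).2
      rw [hcomm e d] at h2
      rw [hcomm e c] at h3
      linear_combination h1 - h2 + h3 + (β e (s c d) - β e c - β e d) * two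
  have hne : ∃ c d, β c d + β d c ≠ 0 := by
    by_contra! h
    have hcm : ∀ x ∈ H, ∀ y ∈ H, x * y = y * x := fun x hx y hy => by
      obtain ⟨c, d, rfl⟩ := usurj x hx
      obtain ⟨c', d', rfl⟩ := usurj y hy
      rw [mul3, mul3, hcomm, CharTwo.add_eq_zero.1 (h c c'), add_right_comm]
    obtain ⟨n, -, h1, h2, -⟩ := hC.main fun x hx j hj => hcm x hx _ (hC.K_conj_mem hj hx)
    have h3 : 1 < Nat.card F := Finite.one_lt_card
    have h4 : 0 < 2 ^ n := by positivity
    rw [fr.card_K, ← h1, hq] at h2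
    have : Nat.card F = Nat.card F ^ 2 := by omega
    nlinarith
  obtain ⟨θ, ιadd, hbij⟩ := exists_theta s (fun c d => β c d + β d c) (fun c d e => (hass c d e).1)
    (fun c => (hzero c).1) (fun c => (hself c).1) (fun l c d => (hsc l c d).1) hsq hadd hne
  obtain ⟨ι, hι⟩ : ∃ ι : F → F, ∀ x, ι x = x * θ x := ⟨_, fun _ => rfl⟩
  simp only [← hι] at ιadd hbij
  have ιmul : ∀ x y, ι (x * y) = ι x * ι y := fun x y => by rw [hι, hι, hι, map_mul]; ring
  have hΓι : ∀ x y, β (ι x) (ι y) + β (ι y) (ι x) = x * θ y + y * θ x := fun x y => by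
    have := hsq (ι x) (ι y)
    rw [← ιadd, hι (x + y), map_add] at this
    linear_combination -this - hι x - hι y
  obtain ⟨c, d, hcd⟩ : ∃ c d, c * θ d + d * θ c ≠ 0 := by
    obtain ⟨c, d, h⟩ := hne
    obtain ⟨c, rfl⟩ : ∃ x, ι x = c := hbij.2 c
    obtain ⟨d, rfl⟩ : ∃ x, ι x = d := hbij.2 d
    exact ⟨c, d, hΓι c d ▸ h⟩
  refine ⟨θ, (β (ι c) (ι d) + c * θ d) / (c * θ d + d * θ c), fun x => u (ι x), fr, ?_,
    fun x => um _, fun x y => ?_, fun l hl x => ?_, fun y hy => ?_, fun x y e => ?_, ?_⟩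
  · rw [show ι 1 = 1 by rw [hι, map_one, mul_one], u1 1 one_ne_zero, rel.rho_one, e]
  · rw [hs, ιadd]
    congr 2
    have h1 : u (ι (c * x)) * u (ι (d * x)) * (u (ι (c * y)) * u (ι (d * y))) =
        u (ι (c * x)) * u (ι (c * y)) * a (c * y * θ (d * x) + d * x * θ (c * y)) *
          (u (ι (d * x)) * u (ι (d * y))) := by
      rw [mul_assoc, ← mul_assoc (u (ι (d * x))), hΓ, hΓι, mul_assoc _ (a _), ac,
        mul_assoc _ (a _), ← mul_assoc (a _), ac, mul_assoc _ (a _), ac]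
      group
    rw [hs, hs (ι (c * y)), hs (ι (c * x)), hs (ι (d * x)), mul_assoc _ (a _) (a _), ← fr.a_add,
      mul3, mul3] at h1
    have h2 := (uinj h1).2
    simp only [← ιadd] at h2
    rw [← add_mul c d x, ← add_mul c d y, ← mul_add c x y, ← mul_add d x y] at h2
    simp only [ιmul] at h2
    rw [(hsc _ _ _).2, (hsc _ _ _).2, (hsc _ _ _).2, mul_comm (ι c) (ι x), mul_comm (ι d) (ι x),
      mul_comm (ι c) (ι y), mul_comm (ι d) (ι y), mul_comm (ι c) (ι _), mul_comm (ι d) (ι _),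
      (hsc _ _ _).2, (hsc _ _ _).2, (hsc _ _ _).2] at h2
    generalize β (ι c) (ι d) = β0 at h2
    generalize β (ι x) (ι y) = β1 at h2
    simp only [hι, map_add, map_mul] at h2
    field_simp
    linear_combination h2 + (x * θ x * β0 * 0 - c * x * θ d * θ y) * two
  · rw [← hι, uconj _ (by rw [hι]; exact mul_ne_zero hl (by simpa using hl)), ιmul]
  · obtain ⟨c, d, e⟩ := usurj y hy
    obtain ⟨c, rfl⟩ : ∃ x, ι x = c := hbij.2 c
    exact ⟨c, d, e⟩
  · exact hbij.1 ((hι x).trans (e.trans (hι y).symm))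
  · by_contra! h
    exact hcd (by rw [h, h, mul_comm, CharTwo.add_self_eq_zero])

end Frame

end Cfsg.Agent.BSW
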