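import Mathlib
import Cfsg.Prelude.Def_Sz
import Cfsg.Agent.Lib.BSW.SzRel

/-!
The matrix group `Lie.Sz`: generators, relations and Bruhat decomposition.
-/

set_option autoImplicit false

namespace Cfsg.Agent.BSW.SzM

open Subgroup Matrix Cfsg.Lie

variable {F : Type*} [Field F] [CharP F 2] (θ : F ≃+* F)

/-- The unipotent elements. -/
def Sm (x y : F) : Matrix (Fin 4) (Fin 4) F :=
  !![1, x, y, θ y + x * y + x ^ 2 * θ x; 0, 1, θ x, y + x * θ x; 0, 0, 1, x; 0, 0, 0, 1]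

/-- The diagonal elements. -/
def Dm (κ : F) : Matrix (Fin 4) (Fin 4) F :=
  !![κ, 0, 0, 0; 0, θ κ / κ, 0, 0; 0, 0, κ / θ κ, 0; 0, 0, 0, 1 / κ]

/-- The Weyl element. -/
def Wm : Matrix (Fin 4) (Fin 4) F := !![0, 0, 0, 1; 0, 0, 1, 0; 0, 1, 0, 0; 1, 0, 0, 0]

variable {θ}

theorem Sm_mul (hθ : ∀ x, θ (θ x) = x ^ 2) (x y z w : F) :
    Sm θ x y * Sm θ z w = Sm θ (x + z) (y + w + x * θ z) := by
  ext i j
  fin_cases i <;> fin_cases j <;> simp [Sm, Matrix.mul_apply, Fin.sum_univ_four, hθ] <;>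
    linear_combination (norm := (ring_nf <;> reduce_mod_char!))

omit [CharP F 2] in
theorem Sm_zero : Sm θ 0 0 = 1 := by
  ext i j
  fin_cases i <;> fin_cases j <;> simp [Sm]

omit [CharP F 2] in
theorem Dm_mul (κ μ : F) : Dm θ κ * Dm θ μ = Dm θ (κ * μ) := by
  ext i j
  fin_cases i <;> fin_cases j <;> simp [Dm, Matrix.mul_apply, Fin.sum_univ_four] <;> ring

omit [CharP F 2] in
theorem Dm_one : Dm θ 1 = 1 := by
  ext i j
  fin_cases i <;> fin_cases j <;> simp [Dm]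

omit [CharP F 2] in
theorem Wm_mul : (Wm : Matrix (Fin 4) (Fin 4) F) * Wm = 1 := by
  ext i j
  fin_cases i <;> fin_cases j <;> simp [Wm, Matrix.mul_apply, Fin.sum_univ_four]

omit [CharP F 2] in
theorem Dm_Sm (hθ : ∀ x, θ (θ x) = x ^ 2) {κ : F} (h : κ ≠ 0) (x y : F) :
    Dm θ κ * Sm θ x y = Sm θ (κ ^ 2 / θ κ * x) (θ κ * y) * Dm θ κ := by
  have h' : θ κ ≠ 0 := by simpa using h
  ext i j
  fin_cases i <;> fin_cases j <;> simp [Dm, Sm, Matrix.mul_apply, Fin.sum_univ_four, hθ] <;>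
    field_simp

omit [CharP F 2] in
theorem Wm_Dm (κ : F) : Dm θ κ * (Wm * Dm θ κ) = Wm ∨ κ = 0 := by
  refine or_iff_not_imp_right.2 fun h => ?_
  have h' : θ κ ≠ 0 := by simpa using h
  ext i j
  fin_cases i <;> fin_cases j <;> simp [Dm, Wm, Matrix.mul_apply, Fin.sum_univ_four] <;>
    field_simp

theorem Wm_str : Wm * Sm θ 0 1 * Wm * Sm θ 1 1 = Sm θ 1 1 * Wm := by
  ext i j
  fin_cases i <;> fin_cases j <;>
    simp [Sm, Wm, Matrix.mul_apply, Fin.sum_univ_four, CharTwo.add_self_eq_zero]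

/-- The defining condition of the Suzuki group. -/
structure Sig (θ : F ≃+* F) (g : Matrix (Fin 4) (Fin 4) F) : Prop where
  col : ∀ i j, g 0 i * g 3 j + g 1 i * g 2 j + g 2 i * g 1 j + g 3 i * g 0 j = Wm i j
  star : star4 g = g.map θ

theorem star4_mul {h g : Matrix (Fin 4) (Fin 4) F}
    (hh : ∀ i j, h i 0 * h j 3 + h i 1 * h j 2 + h i 2 * h j 1 + h i 3 * h j 0 = Wm i j)
    (hg : ∀ i j, g 0 i * g 3 j + g 1 i * g 2 j + g 2 i * g 1 j + g 3 i * g 0 j = Wm i j) :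
    star4 (h * g) = star4 h * star4 g := by
  ext p r
  have h1 := hh (pairOf p).1 (pairOf p).2
  have h2 := hg (pairOf r).1 (pairOf r).2
  have h3 : ∀ p, (Wm : Matrix (Fin 4) (Fin 4) F) (pairOf p).1 (pairOf p).2 = 0 := fun p => by
    fin_cases p <;> simp [Wm, pairOf]
  rw [h3] at h1 h2
  simp only [star4, Matrix.mul_apply, Fin.sum_univ_four, Matrix.of_apply]
  generalize (pairOf p).1 = k at h1
  generalize (pairOf p).2 = l at h1
  generalize (pairOf r).1 = i at h2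
  generalize (pairOf r).2 = j at h2
  simp only [pairOf, cons_val]
  linear_combination (norm := (ring_nf <;> reduce_mod_char!))
    (g 0 i * g 3 j + g 3 i * g 0 j) * h1 + (h k 1 * h l 2 + h k 2 * h l 1) * h2

theorem Sig.mul {h g : Matrix (Fin 4) (Fin 4) F} (h1 : Sig θ h)
    (hh : ∀ i j, h i 0 * h j 3 + h i 1 * h j 2 + h i 2 * h j 1 + h i 3 * h j 0 = Wm i j)
    (hg : Sig θ g) : Sig θ (h * g) where
  col i j := by
    have c := h1.col
    have c00 := c 0 0
    have c01 := c 0 1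
    have c02 := c 0 2
    have c03 := c 0 3
    have c11 := c 1 1
    have c12 := c 1 2
    have c13 := c 1 3
    have c22 := c 2 2
    have c23 := c 2 3
    have c33 := c 3 3
    simp [Wm] at c00 c01 c02 c03 c11 c12 c13 c22 c23 c33
    rw [← hg.col i j]
    simp only [Matrix.mul_apply, Fin.sum_univ_four]
    linear_combination g 0 i * g 0 j * c00 + (g 0 i * g 1 j + g 1 i * g 0 j) * c01 +
      (g 0 i * g 2 j + g 2 i * g 0 j) * c02 + (g 0 i * g 3 j + g 3 i * g 0 j) * c03 +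
      g 1 i * g 1 j * c11 + (g 1 i * g 2 j + g 2 i * g 1 j) * c12 +
      (g 1 i * g 3 j + g 3 i * g 1 j) * c13 + g 2 i * g 2 j * c22 +
      (g 2 i * g 3 j + g 3 i * g 2 j) * c23 + g 3 i * g 3 j * c33
  star := by rw [star4_mul hh hg.col, h1.star, hg.star, Matrix.map_mul]

theorem sig_S (hθ : ∀ x, θ (θ x) = x ^ 2) (x y : F) : Sig θ (Sm θ x y) where
  col i j := by
    fin_cases i <;> fin_cases j <;> simp [Sm, Wm] <;>
      linear_combination (norm := (ring_nf <;> reduce_mod_char!))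
  star := by
    ext i j
    fin_cases i <;> fin_cases j <;> simp [Sm, star4, pairOf, hθ] <;>
      linear_combination (norm := (ring_nf <;> reduce_mod_char!))

theorem row_S (x y : F) (i j : Fin 4) : Sm θ x y i 0 * Sm θ x y j 3 + Sm θ x y i 1 * Sm θ x y j 2 +
    Sm θ x y i 2 * Sm θ x y j 1 + Sm θ x y i 3 * Sm θ x y j 0 = Wm i j := by
  fin_cases i <;> fin_cases j <;> simp [Sm, Wm] <;>
    linear_combination (norm := (ring_nf <;> reduce_mod_char!))

theorem sig_W : Sig θ Wm where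
  col i j := by fin_cases i <;> fin_cases j <;> simp [Wm]
  star := by
    ext i j
    fin_cases i <;> fin_cases j <;> simp [Wm, star4, pairOf, CharTwo.neg_eq]

omit [CharP F 2] in
theorem row_W (i j : Fin 4) : (Wm i 0 * Wm j 3 + Wm i 1 * Wm j 2 + Wm i 2 * Wm j 1 +
    Wm i 3 * Wm j 0 : F) = Wm i j := by
  fin_cases i <;> fin_cases j <;> simp [Wm]

omit [CharP F 2] in
theorem sig_D (hθ : ∀ x, θ (θ x) = x ^ 2) {κ : F} (h : κ ≠ 0) : Sig θ (Dm θ κ) where
  col i j := by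
    have h' : θ κ ≠ 0 := by simpa using h
    fin_cases i <;> fin_cases j <;> simp [Dm, Wm, h, h']
  star := by
    have h' : θ κ ≠ 0 := by simpa using h
    ext i j
    fin_cases i <;> fin_cases j <;> simp [Dm, star4, pairOf, hθ] <;> field_simp

theorem Sig.upper (hθ : ∀ x, θ (θ x) = x ^ 2) {g : Matrix (Fin 4) (Fin 4) F} (hg : Sig θ g)
    (h30 : g 3 0 = 0) : ∃ x y κ, κ ≠ 0 ∧ g = Sm θ x y * Dm θ κ := by
  have c01 := hg.col 0 1
  have c02 := hg.col 0 2
  have c03 := hg.col 0 3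
  have c12 := hg.col 1 2
  have c13 := hg.col 1 3
  have c23 := hg.col 2 3
  have s := fun i j => congrFun (congrFun hg.star i) j
  have s00 := s 0 0
  have s10 := s 1 0
  have s20 := s 2 0
  have s30 := s 3 0
  have s01 := s 0 1
  have s02 := s 0 2
  simp [Wm, star4, pairOf, h30] at c01 c02 c03 c12 c13 c23 s00 s10 s20 s30 s01 s02
  have h20 : g 2 0 = 0 := by
    by_contra h
    rw [s30.resolve_left h, mul_zero, eq_comm] at s20
    exact h (by simpa using s20)
  rw [h20] at c01 c02 c03 s10 s20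
  have h10 : g 1 0 = 0 := by
    by_contra h
    have h31 : g 3 1 = 0 := by simpa [h] using s20
    have h21 : g 2 1 = 0 := by simpa [h, h31] using c01
    rw [h21, eq_comm] at s10
    exact h (by simpa using s10)
  rw [h10] at c01 c02 c03 s10 s00 s01
  have h00 : g 0 0 ≠ 0 := fun h => by simp [h] at c03
  have h00' : θ (g 0 0) ≠ 0 := by simpa using h00
  have h31 : g 3 1 = 0 := by simpa [h00] using c01
  have h32 : g 3 2 = 0 := by simpa [h00] using c02
  have h21 : g 2 1 = 0 := by simpa [h00] using s10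
  rw [h31, h21] at c12 c13
  rw [h32] at c12 c23
  simp only [zero_mul, mul_zero, add_zero, zero_add] at c12 c13 c23
  have h33 : g 3 3 = 1 / g 0 0 := by field_simp; linear_combination c03
  have h11 : g 1 1 = θ (g 0 0) / g 0 0 := by field_simp; linear_combination s00
  have h22 : g 2 2 = g 0 0 / θ (g 0 0) := by
    rw [h11] at c12
    field_simp at c12 ⊢
    linear_combination c12
  obtain ⟨x, h01⟩ : ∃ x, g 0 1 = x * (θ (g 0 0) / g 0 0) :=
    ⟨g 0 1 / (θ (g 0 0) / g 0 0), by field_simp⟩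
  obtain ⟨y, h02⟩ : ∃ y, g 0 2 = y * (g 0 0 / θ (g 0 0)) :=
    ⟨g 0 2 / (g 0 0 / θ (g 0 0)), by field_simp⟩
  have h12 : g 1 2 = θ x * (g 0 0 / θ (g 0 0)) := by
    rw [h01, map_mul, map_div₀, hθ, zero_mul, sub_zero] at s01
    field_simp at s01 ⊢
    linear_combination s01
  have h23 : g 2 3 = x * (1 / g 0 0) := by
    rw [h01, h11, h33] at c13
    refine mul_left_cancel₀ (div_ne_zero h00' h00) ?_
    linear_combination (norm := (ring_nf <;> reduce_mod_char!)) c13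
  have h13 : g 1 3 = (y + x * θ x) * (1 / g 0 0) := by
    rw [h02, h12, h23, h22, h33] at c23
    field_simp at c23 ⊢
    linear_combination (norm := (ring_nf <;> reduce_mod_char!)) c23
  have h03 : g 0 3 = (θ y + x * y + x ^ 2 * θ x) * (1 / g 0 0) := by
    rw [h02, h01, h13, h11, map_mul, map_div₀, hθ] at s02
    field_simp at s02 ⊢
    linear_combination (norm := (ring_nf <;> reduce_mod_char!)) s02
  refine ⟨x, y, g 0 0, h00, ?_⟩
  ext i j
  fin_cases i <;> fin_cases j <;> simp [Sm, Dm, Matrix.mul_apply, Fin.sum_univ_four, *]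

theorem Sig.lower (hθ : ∀ x, θ (θ x) = x ^ 2) {g : Matrix (Fin 4) (Fin 4) F} (hg : Sig θ g)
    (h30 : g 3 0 ≠ 0) : ∃ x y, (Wm * (Sm θ x y * g) : Matrix _ _ F) 3 0 = 0 := by
  refine ⟨g 2 0 / g 3 0, (g 1 0 + θ (g 2 0 / g 3 0) * g 2 0) / g 3 0 +
    g 2 0 / g 3 0 * θ (g 2 0 / g 3 0), ?_⟩
  set x := g 2 0 / g 3 0 with hx
  set y := (g 1 0 + θ x * g 2 0) / g 3 0 + x * θ x with hy
  have hh := (sig_S hθ x y).mul (row_S x y) hg
  have h1 : (Sm θ x y * g) 3 0 = g 3 0 := by simp [Sm, Matrix.mul_apply, Fin.sum_univ_four]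
  have h2 : (Sm θ x y * g) 2 0 = 0 := by
    simp [Sm, Matrix.mul_apply, Fin.sum_univ_four, hx, h30, CharTwo.add_self_eq_zero]
  have h3 : (Sm θ x y * g) 1 0 = 0 := by
    simp [Sm, Matrix.mul_apply, Fin.sum_univ_four, hy, h30, CharTwo.add_self_eq_zero,
      CharTwo.add_cancel_right]
  generalize Sm θ x y * g = h at hh h1 h2 h3
  have s00 := congrFun (congrFun hh.star 0) 0
  have s20 := congrFun (congrFun hh.star 2) 0
  simp [star4, pairOf, h1, h2, h3, h30] at s00 s20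
  simpa [Wm, Matrix.mul_apply, Fin.sum_univ_four, s20] using s00.symm

variable (hθ : ∀ x, θ (θ x) = x ^ 2)

/-- The unipotent elements. -/
def S (x y : F) : GL (Fin 4) F :=
  ⟨Sm θ x y, Sm θ x (y + x * θ x),
    by rw [Sm_mul hθ, CharTwo.add_self_eq_zero, CharTwo.add_cancel_left, CharTwo.add_self_eq_zero,
      Sm_zero],
    by rw [Sm_mul hθ, CharTwo.add_self_eq_zero, add_right_comm y, CharTwo.add_self_eq_zero y,
      zero_add, CharTwo.add_self_eq_zero, Sm_zero]⟩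

open Classical in
/-- The diagonal elements. -/
noncomputable def D (θ : F ≃+* F) (κ : F) : GL (Fin 4) F :=
  if h : κ = 0 then 1 else ⟨Dm θ κ, Dm θ κ⁻¹, by rw [Dm_mul, mul_inv_cancel₀ h, Dm_one],
    by rw [Dm_mul, inv_mul_cancel₀ h, Dm_one]⟩

/-- The Weyl element. -/
def W : GL (Fin 4) F := ⟨Wm, Wm, Wm_mul, Wm_mul⟩

omit [CharP F 2] in
theorem D_val {κ : F} (h : κ ≠ 0) : (D θ κ : Matrix (Fin 4) (Fin 4) F) = Dm θ κ := by
  rw [D, dif_neg h]

theorem S_mul (x y z w : F) : S hθ x y * S hθ z w = S hθ (x + z) (y + w + x * θ z) :=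
  Units.ext (Sm_mul hθ x y z w)

theorem D_conj {κ : F} (h : κ ≠ 0) (x y : F) :
    D θ κ * S hθ x y * (D θ κ)⁻¹ = S hθ (κ ^ 2 / θ κ * x) (θ κ * y) :=
  mul_inv_eq_iff_eq_mul.2 (Units.ext (by
    rw [Units.val_mul, Units.val_mul, D_val h]; exact Dm_Sm hθ h x y))

theorem rel2 (hs : ∀ c, ∃ x, x * θ x = c) :
    Rel2 θ (fun c => S hθ 0 c) (fun c => D θ (θ.symm c)) (fun x => S hθ x (x * θ x)) W where
  a_add c d := by simp [S_mul]
  k_mul c d hc hd := Units.ext (by
    rw [Units.val_mul, D_val (by simp [hc, hd]), D_val (by simpa using hc),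
      D_val (by simpa using hd), Dm_mul, map_mul])
  k_conj c hc d := by simp [D_conj hθ (show θ.symm c ≠ 0 by simpa using hc)]
  t2 := Units.ext Wm_mul
  t_k c hc := eq_inv_mul_iff_mul_eq.2 (Units.ext (by
    have h : θ.symm c ≠ 0 := by simpa using hc
    rw [Units.val_mul, Units.val_mul, D_val h]
    exact (Wm_Dm _).resolve_right h))
  str := eq_mul_inv_iff_mul_eq.2 (Units.ext (by simpa [S, W] using Wm_str))
  a_v d x := by simp [S_mul, add_comm]
  v_mul x y := by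
    simp only [S_mul, map_add, map_zero, add_zero, mul_zero]
    congr 1
    linear_combination (norm := (ring_nf <;> reduce_mod_char!))
  v_conj l hl x := by
    have h' : θ l ≠ 0 := by simpa using hl
    rw [D_conj hθ (by simp [hl, h']), RingEquiv.apply_symm_apply, map_mul,
      RingEquiv.symm_apply_apply, mul_pow, ← hθ (θ.symm l), RingEquiv.apply_symm_apply, map_mul]
    congr 1
    · field_simp
    · ring
  norm_surj := hs

theorem mem_B (hs : ∀ c, ∃ x, x * θ x = c) {g : GL (Fin 4) F} :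
    g ∈ (rel2 hθ hs).B ↔ ∃ x y κ, κ ≠ 0 ∧ (g : Matrix (Fin 4) (Fin 4) F) = Sm θ x y * Dm θ κ := by
  constructor
  · rintro ⟨x, d, c, hc, rfl⟩
    have h : θ.symm c ≠ 0 := by simpa using hc
    exact ⟨_, _, _, h, by rw [S_mul, Units.val_mul, D_val h]; rfl⟩
  · rintro ⟨x, y, κ, h, e⟩
    refine ⟨x, x * θ x + y, θ κ, by simpa using h, Units.ext ?_⟩
    simp only [S_mul, RingEquiv.symm_apply_apply, Units.val_mul, D_val h, e, add_zero, map_zero,
      mul_zero, CharTwo.add_cancel_left]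
    rfl

theorem uniq {x d c : F} (hc : c ≠ 0) (e : S hθ x (x * θ x) * S hθ 0 d * D θ (θ.symm c) = 1) :
    x = 0 ∧ d = 0 ∧ c = 1 := by
  have h : θ.symm c ≠ 0 := by simpa using hc
  have e := congrArg Units.val e
  rw [S_mul, Units.val_mul, D_val h] at e
  have e0 := congrFun (congrFun e 0) 0
  have e1 := congrFun (congrFun e 0) 1
  have e2 := congrFun (congrFun e 0) 2
  simp [S, Sm, Dm, Matrix.mul_apply, Fin.sum_univ_four, hc] at e0 e1 e2
  exact ⟨e1, by simpa [e1] using e2, by simpa using congrArg θ e0⟩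

theorem W_not_mem (hs : ∀ c, ∃ x, x * θ x = c) : W ∉ (rel2 hθ hs).B := fun h => by
  obtain ⟨x, y, κ, -, e⟩ := (mem_B hθ hs).1 h
  simpa [W, Wm, Sm, Dm, Matrix.mul_apply, Fin.sum_univ_four] using congrFun (congrFun e 3) 0

omit [CharP F 2] in
theorem sig_iff {e : ℕ} (he : ∀ x, θ x = x ^ e) {g : GL (Fin 4) F} :
    g ∈ Sp4 F ∧ star4 (g : Matrix (Fin 4) (Fin 4) F) =
      (g : Matrix (Fin 4) (Fin 4) F).map (fun x => x ^ e) ↔ Sig θ g := by
  rw [← funext he]
  refine ⟨fun h => ⟨fun i j => ?_, h.2⟩, fun h => ⟨fun u v => ?_, h.star⟩⟩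
  · have := h.1 (Pi.single i 1) (Pi.single j 1)
    simp only [altForm4, Units.coeHom_apply, mulVec_single_one, col_apply] at this
    rw [this]
    fin_cases i <;> fin_cases j <;> simp [Wm]
  · have c := h.col
    simp only [altForm4, Units.coeHom_apply, Matrix.mulVec, dotProduct, Fin.sum_univ_four]
    linear_combination (norm := (simp [Wm]; ring))
      u 0 * (v 0 * c 0 0 + v 1 * c 0 1 + v 2 * c 0 2 + v 3 * c 0 3) +
      u 1 * (v 0 * c 1 0 + v 1 * c 1 1 + v 2 * c 1 2 + v 3 * c 1 3) +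
      u 2 * (v 0 * c 2 0 + v 1 * c 2 1 + v 2 * c 2 2 + v 3 * c 2 3) +
      u 3 * (v 0 * c 3 0 + v 1 * c 3 1 + v 2 * c 3 2 + v 3 * c 3 3)

theorem R_eq (hs : ∀ c, ∃ x, x * θ x = c) (hN : ∀ x y, x * θ x = y * θ y → x = y) {e : ℕ}
    (he : ∀ x, θ x = x ^ e) : (rel2 hθ hs).R hN = Sz F e := by
  have hB : (rel2 hθ hs).B ≤ Sz F e := by
    rintro _ ⟨x, d, c, hc, rfl⟩
    have h : θ.symm c ≠ 0 := by simpa using hc
    exact mul_mem (mul_mem (subset_closure ((sig_iff he).2 (sig_S hθ _ _)))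
      (subset_closure ((sig_iff he).2 (sig_S hθ _ _))))
      (subset_closure ((sig_iff he).2 (D_val (θ := θ) h ▸ sig_D hθ h)))
  refine le_antisymm ?_ ((closure_le _).2 fun g hg => ?_)
  · rintro g (hg | ⟨m, hm, m', hm', rfl⟩)
    · exact hB hg
    · exact mul_mem (mul_mem (hB hm) (subset_closure ((sig_iff he).2 sig_W))) (hB hm')
  have hg := (sig_iff he).1 hg
  by_cases h : (g : Matrix (Fin 4) (Fin 4) F) 3 0 = 0
  · exact Or.inl ((mem_B hθ hs).2 (hg.upper hθ h))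
  obtain ⟨x, y, h1⟩ := hg.lower hθ h
  have h2 : W * (S hθ x y * g) ∈ (rel2 hθ hs).B := (mem_B hθ hs).2
    ((sig_W.mul row_W ((sig_S hθ x y).mul (row_S x y) hg)).upper hθ h1)
  have h3 : S hθ x y ∈ (rel2 hθ hs).B :=
    (mem_B hθ hs).2 ⟨x, y, 1, one_ne_zero, by rw [Dm_one, mul_one]; rfl⟩
  exact Or.inr ⟨_, inv_mem h3, _, h2, by
    rw [mul_assoc, ← mul_assoc W, (rel2 hθ hs).t2, one_mul, inv_mul_cancel_left]⟩

end Cfsg.Agent.BSW.SzM
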