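import Mathlib
import Cfsg.Agent.Lib.BSW.SzCoord

/-!
The structure equation forces `θ ^ 2 = 2`.
-/

set_option autoImplicit false

namespace Cfsg.Agent.BSW

open Subgroup

section alg
variable {F : Type*} [Field F] [CharP F 2]

theorem alg_S1 {b l l' n n' ε ε' : F} (hn : n * n' = l + l' + 1)
    (he : ε * ε' = (b + 1) * l + b * l')
    (A : ε * (n + l + 1) * (l + 1) = l ^ 2 * (n + 1))
    (A' : ε' * (n' + l' + 1) * (l' + 1) = l' ^ 2 * (n' + 1))
    (S : ε * ε' * ((l + 1) * (l' + 1)) * (n * n' + ((b + 1) * (n * (l' + 1)) + b * ((l + 1) * n'))) =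
      l * l' * (n * n' + ((b + 1) * ((l + 1) * n * n') + b * (n * ((l' + 1) * n'))) +
        ((b + 1) * (l * n * l') + b * (l * (l' * n'))))) :
    (l * l') ^ 2 * (n + l) =
      ε * ε' * ((l + 1) * (l' + 1)) * ((l' + 1) * (n + l + 1) + b * (l * l')) := by
  have AA : ε * (n + l + 1) * (l + 1) * (ε' * (n' + l' + 1) * (l' + 1)) =
    l ^ 2 * (n + 1) * (l' ^ 2 * (n' + 1)) := by rw [A, A']
  linear_combination (norm := (ring_nf; reduce_mod_char!)) S + b * AA +
    (ε * ε' * ((l + 1) * (l' + 1)) * (b + 1) + l * l' * (l + b * (l + l') + b * l * l')) * hn +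
      l * l' * ((l + 1) * (l' + 1)) * he

theorem alg_E {b l l' n : F} (W0 : (l + 1) * (l' + 1) ≠ 0) (V0 : l * l' ≠ 0)
    (S1 : (l * l') ^ 2 * (n + l) = ((b + 1) * l + b * l') * ((l + 1) * (l' + 1)) *
      ((l' + 1) * (n + l + 1) + b * (l * l')))
    (S2 : ((l + 1) * (l' + 1)) ^ 2 * (n + (l + 1)) = ((b + 1) * (l + 1) + b * (l' + 1)) *
      (l * l') * (l' * (n + l) + b * ((l + 1) * (l' + 1)))) :
    b * (b + 1) * (l + l') * (b * (l + l') * (l' ^ 2 + l + 1) + l' ^ 2 + l') = 0 := by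
  refine mul_left_cancel₀ (mul_ne_zero W0 V0) ?_
  linear_combination (norm := (ring_nf; reduce_mod_char!))
    (((l + 1) * (l' + 1)) ^ 2 + ((b + 1) * (l + 1) + b * (l' + 1)) * (l * l') * l') * S1 +
    ((l * l') ^ 2 + ((b + 1) * l + b * l') * ((l + 1) * (l' + 1)) * (l' + 1)) * S2

theorem alg_one {l l' n : F} (l0 : l' ≠ 0)
    (S1 : (l * l') ^ 2 * (n + l) = l' * ((l + 1) * (l' + 1)) * ((l' + 1) * (n + l + 1) + l * l')) :
    (n * (l + l' + 1) + l' + l ^ 2 + 1) * (l * l' + l' + 1) = 0 := by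
  refine mul_left_cancel₀ l0 ?_
  linear_combination (norm := (ring_nf; reduce_mod_char!)) S1

end alg

universe u

variable {G : Type u} [Group G] [Finite G] {H : Subgroup G} {t : G} {F : Type*} [Field F]
  {a k v : F → G} {θ : F ≃+* F} {b : F}

namespace Coord

variable (co : Coord H t θ b a k v) (hC : HypC H t)
include co

omit [Finite G] in
theorem v_zero : v 0 = 1 := by
  have := co.v_mul 0 0
  simpa [co.fr.a_zero] using this

theorem norm_surj (c : F) : ∃ x, x * θ x = c :=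
  have := co.fr.finite
  Finite.surjective_of_injective (f := fun x => x * θ x) co.norm_inj c

omit [Finite G] co in
theorem norm_ne {x : F} (hx : x ≠ 0) : x * θ x ≠ 0 := mul_ne_zero hx (by simpa using hx)

omit [Finite G] in
theorem rho_eq {x : F} (hx : x ≠ 0) : rho k (v 1) (x * θ x) = v x := by
  rw [rho, co.v_conj x hx, mul_one]

omit [Finite G] in
theorem symm : Coord H t θ.symm (b + 1) a k (v ∘ θ.symm) where
  fr := co.fr
  str := by simpa using co.str
  v_mem x := co.v_mem _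
  v_mul x y := by
    have := co.fr.charP
    simp only [Function.comp, co.v_mul, map_add, RingEquiv.apply_symm_apply]
    congr 2
    linear_combination (norm := (ring_nf; reduce_mod_char!))
  v_conj l hl x := by
    have := co.v_conj (θ.symm l) (by simpa using hl) (θ.symm x)
    rwa [RingEquiv.apply_symm_apply, mul_comm _ l, ← map_mul] at this
  v_surj y hy := by
    obtain ⟨x, d, e⟩ := co.v_surj y hy
    exact ⟨θ x, d, by simpa using e⟩
  norm_inj x y e := θ.symm.injective (co.norm_inj _ _ (by simpa [mul_comm] using e))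
  ne := by
    obtain ⟨x, hx⟩ := co.ne
    exact ⟨θ x, by simpa using hx.symm⟩

include hC

omit [Finite G] in
theorem mul3 (x y e f : F) : v x * a e * (v y * a f) =
    v (x + y) * a ((b + 1) * (x * θ y) + b * (y * θ x) + e + f) := by
  rw [mul_assoc, ← mul_assoc (a e), co.fr.a_comm hC e (co.v_mem y), ← mul_assoc, ← mul_assoc,
    co.v_mul, co.fr.a_add _ f, co.fr.a_add _ e]
  group

omit [Finite G] in
theorem sq (x d : F) : v x * a d * (v x * a d) = a (x * θ x) := by
  have := co.fr.charP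
  rw [co.mul3 hC, CharTwo.add_self_eq_zero, co.v_zero, one_mul]
  congr 1
  linear_combination (norm := (ring_nf; reduce_mod_char!))

omit [Finite G] in
theorem inj {x d y e : F} (h : v x * a d = v y * a e) : x = y ∧ d = e := by
  have := co.sq hC x d
  rw [h, co.sq hC] at this
  obtain rfl := co.norm_inj _ _ (co.fr.a_inj this)
  exact ⟨rfl, co.fr.a_inj (mul_left_cancel h)⟩

omit [Finite G] in
theorem v_inv (x : F) : (v x)⁻¹ = v x * a (x * θ x) := by
  have := co.sq hC x 0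
  rw [co.fr.a_zero, mul_one] at this
  rw [inv_eq_iff_mul_eq_one, ← mul_assoc, this, co.fr.a_sq]

omit [Finite G] in
theorem inv_mul (x y : F) : (v x)⁻¹ * v y =
    v (x + y) * a (x * θ x + ((b + 1) * (x * θ y) + b * (y * θ x))) := by
  rw [co.v_inv hC, ← mul_one (v y), ← co.fr.a_zero, co.mul3 hC, add_zero, add_comm (x * θ x)]

theorem t_D {l m n : F} (l0 : l ≠ 0) (m0 : m ≠ 0) (n0 : n ≠ 0)
    (hn : n * θ n = l * θ l + m * θ m) : ∃ Y ∈ H, t * ((v l)⁻¹ * v m) * t =
      (v l⁻¹)⁻¹ * v (m / (l * n)) * t * k ((n * θ n) ^ 2) * Y := by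
  have h := (co.fr.rel1 hC co.str).t_D (norm_ne l0) (norm_ne m0) (hn ▸ norm_ne n0)
  have hm : ∀ c, rho k (v 1) c ∈ H := fun c => hC.K_conj_mem (co.fr.k_mem c) (co.v_mem 1)
  rw [← hn, co.rho_eq l0, co.rho_eq m0, show (l * θ l)⁻¹ = l⁻¹ * θ l⁻¹ by rw [map_inv₀, mul_inv],
    show m * θ m / (l * θ l * (n * θ n)) = m / (l * n) * θ (m / (l * n)) by
      rw [map_div₀, map_mul]; ring, co.rho_eq (inv_ne_zero l0),
    co.rho_eq (div_ne_zero m0 (mul_ne_zero l0 n0))] at h
  exact ⟨_, mul_mem (inv_mem (hm _)) (hm _), h⟩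

omit [Finite G] in
theorem D_eq (l : F) : (v l)⁻¹ * v (l + 1) = v 1 * a ((b + 1) * l + b * θ l) := by
  have := co.fr.charP
  rw [co.inv_mul hC, CharTwo.add_cancel_left, map_add, map_one]
  congr 2
  linear_combination (norm := (ring_nf; reduce_mod_char!))

theorem e_ne {l : F} (hl : θ l ≠ l) : (b + 1) * l + b * θ l ≠ 0 := fun e => by
  have := co.fr.charP
  have l0 : l ≠ 0 := by rintro rfl; simp at hl
  have l1 : l + 1 ≠ 0 := fun e => hl (by rw [CharTwo.add_eq_zero.1 e, map_one])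
  obtain ⟨n, hn⟩ := co.norm_surj (l * θ l + (l + 1) * θ (l + 1))
  have n0 : n ≠ 0 := by
    rintro rfl
    rw [zero_mul, eq_comm, CharTwo.add_eq_zero] at hn
    simpa using co.norm_inj _ _ hn
  obtain ⟨Y, hY, h⟩ := co.t_D hC l0 l1 n0 hn
  have rel := co.fr.rel1 hC co.str
  have h2 := rel.t_rho one_ne_zero
  rw [inv_one, rel.rho_one] at h2
  rw [co.D_eq hC, e, co.fr.a_zero, mul_one, h2] at h
  have h3 := co.fr.k_inj (by simp) (pow_ne_zero 2 (norm_ne n0)) (hC.bruhat_unique (co.fr.a_mem _)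
    (co.fr.k_mem _) (co.v_mem _) (mul_mem (inv_mem (co.v_mem _)) (co.v_mem _)) (co.fr.k_mem _)
    hY h).2.1
  rw [hn, map_add, map_one] at h3
  refine hl (CharTwo.add_eq_zero.1 (pow_eq_zero_iff two_ne_zero |>.1 ?_))
  linear_combination (norm := (ring_nf; reduce_mod_char!)) h3

theorem S1 {l n : F} (l0 : l ≠ 0) (l1 : l + 1 ≠ 0) (hn : n * θ n = l + θ l + 1)
    (e0 : (b + 1) * l + b * θ l ≠ 0) : (l * θ l) ^ 2 * (n + l) = ((b + 1) * l + b * θ l) *
      ((l + 1) * (θ l + 1)) * ((θ l + 1) * (n + l + 1) + b * (l * θ l)) := by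
  have := co.fr.charP
  have hn' : n * θ n = l * θ l + (l + 1) * θ (l + 1) := by
    rw [map_add, map_one]
    linear_combination (norm := (ring_nf; reduce_mod_char!)) hn
  have n0 : n ≠ 0 := by
    rintro rfl
    rw [zero_mul, eq_comm, CharTwo.add_eq_zero] at hn'
    simpa using co.norm_inj _ _ hn'
  obtain ⟨Y, hY, h1⟩ := co.t_D hC l0 l1 n0 hn'
  obtain ⟨Z, hZ, h2⟩ := co.t_D hC l1 l0 n0 (hn'.trans (add_comm _ _))
  obtain ⟨ε, hε⟩ := co.norm_surj ((b + 1) * l + b * θ l)
  have rel := co.fr.rel1 hC co.str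
  have h3 := co.D_eq hC l
  rw [show (v (l + 1))⁻¹ * v l = ((v l)⁻¹ * v (l + 1))⁻¹ by group, h3] at h2
  rw [h3] at h1
  rw [← hε] at h1 h2 e0 ⊢
  have ε0 := left_ne_zero_of_mul e0
  have hj := co.fr.k_mem (ε * θ ε)
  have h4 := rel.t_a e0
  have h5 := rel.t_rho one_ne_zero
  have h6 := co.fr.k_conj _ e0 1
  rw [inv_one, one_pow, rel.k_one, rel.rho_one, mul_one] at h5
  rw [_root_.sq, rel.k_mul _ _ e0 e0, rho, rel.k_inv e0, inv_inv] at h4
  rw [mul_one] at h6
  have h7 := hC.t_mul hj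
  have h8 := hC.mul_t hj
  have hX1 := mul_mem (inv_mem (co.v_mem l⁻¹)) (co.v_mem ((l + 1) / (l * n)))
  have hX2 := mul_mem (inv_mem (co.v_mem (l + 1)⁻¹)) (co.v_mem (l / ((l + 1) * n)))
  have hκ := co.fr.k_mem ((n * θ n) ^ 2)
  have h9 := (hC.bruhat_unique (hC.K_conj_mem hj hX1) (mul_mem (inv_mem hj) hκ) hY
    (mul_mem (co.v_mem 1) hX2) (mul_mem hκ (inv_mem hj))
    (mul_mem (hC.K_conj_mem hj hZ) (co.v_mem 1)) (by
      have c1 := co.fr.a_comm hC (ε * θ ε) (co.v_mem 1)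
      have c2 := co.fr.a_inv (ε * θ ε)
      generalize (v l⁻¹)⁻¹ * v ((l + 1) / (l * n)) = X1 at h1
      generalize (v (l + 1)⁻¹)⁻¹ * v (l / ((l + 1) * n)) = X2 at h2
      generalize k ((n * θ n) ^ 2) = κ at h1 h2
      generalize k (ε * θ ε) = j at h4 h6 h7 h8
      calc _ = j * X1 * (j⁻¹ * t) * j⁻¹ * κ * Y := by group
        _ = j * (t * (v 1 * a (ε * θ ε)) * t) := by rw [← h7, h1]; group
        _ = j * (t * a (ε * θ ε) * (t * t) * v 1 * t) := by rw [← c1, hC.t2]; group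
        _ = j * ((t * a (ε * θ ε) * t) * (t * v 1 * t)) := by group
        _ = v 1 * j * (t * j) * (v 1)⁻¹ * (j * a 1 * j⁻¹) * (j * t) * v 1 := by rw [h4, h5]; group
        _ = v 1 * (t * (v 1 * a (ε * θ ε))⁻¹ * t) * j⁻¹ * v 1 := by
          rw [h6, h7, h8, ← c1, mul_inv_rev, c2]; group
        _ = _ := by rw [h2]; group)).1
  rw [← conj_mul, ← conj_inv, co.v_conj ε ε0, co.v_conj ε ε0, co.inv_mul hC, co.inv_mul hC,
    ← mul_one (v 1), ← co.fr.a_zero, co.mul3 hC] at h9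
  obtain ⟨hA, hS⟩ := co.inj hC h9
  have hA' := congrArg θ hA
  simp only [map_add, map_mul, map_div₀, map_inv₀, map_one] at hA' hS
  have l0' : θ l ≠ 0 := by simpa using l0
  have l1' : θ l + 1 ≠ 0 := by simpa using (map_ne_zero θ).2 l1
  have n0' : θ n ≠ 0 := by simpa using n0
  refine alg_S1 (n' := θ n) hn hε ?_ ?_ ?_
  · field_simp at hA
    linear_combination (norm := (ring_nf; reduce_mod_char!)) hA
  · field_simp at hA'
    linear_combination (norm := (ring_nf; reduce_mod_char!)) hA'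
  · field_simp at hS
    linear_combination (norm := (ring_nf; reduce_mod_char!)) hS

theorem S12 {l : F} (l0 : l ≠ 0) (l1 : l + 1 ≠ 0) (e0 : (b + 1) * l + b * θ l ≠ 0)
    (e1 : (b + 1) * (l + 1) + b * θ (l + 1) ≠ 0) : ∃ n, n * θ n = l + θ l + 1 ∧
    (l * θ l) ^ 2 * (n + l) = ((b + 1) * l + b * θ l) *
      ((l + 1) * (θ l + 1)) * ((θ l + 1) * (n + l + 1) + b * (l * θ l)) ∧
    ((l + 1) * (θ l + 1)) ^ 2 * (n + (l + 1)) = ((b + 1) * (l + 1) + b * (θ l + 1)) *
      (l * θ l) * (θ l * (n + l) + b * ((l + 1) * (θ l + 1))) := by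
  have := co.fr.charP
  obtain ⟨n, hn⟩ := co.norm_surj (l + θ l + 1)
  refine ⟨n, hn, co.S1 hC l0 l1 hn e0, ?_⟩
  have := co.S1 hC (n := n) l1 (by rwa [CharTwo.add_cancel_right]) (by
    rw [map_add, map_one]
    linear_combination (norm := (ring_nf; reduce_mod_char!)) hn) e1
  rw [map_add, map_one] at this
  linear_combination (norm := (ring_nf; reduce_mod_char!)) this

theorem b_eq : b = 0 ∨ b = 1 := by
  have := co.fr.charP
  by_contra! hb
  have key : ∀ l, θ l ≠ l → b * (l + θ l) * (θ l ^ 2 + l + 1) + θ l ^ 2 + θ l = 0 := fun l hl => by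
    have l0 : l ≠ 0 := by rintro rfl; simp at hl
    have l1 : l + 1 ≠ 0 := fun e => hl (by rw [CharTwo.add_eq_zero.1 e, map_one])
    obtain ⟨n, -, S1, S2⟩ := co.S12 hC l0 l1 (co.e_ne hC hl) (co.e_ne hC (by simpa using hl))
    exact (mul_eq_zero.1 (alg_E (by simpa using norm_ne (θ := θ) l1) (norm_ne l0) S1 S2)).resolve_left
      (mul_ne_zero (mul_ne_zero hb.1 (CharTwo.add_eq_zero.not.2 hb.2))
        (CharTwo.add_eq_zero.not.2 hl.symm))
  obtain ⟨l, hl⟩ := co.ne
  have s0 := CharTwo.add_eq_zero.not.2 hl.symm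
  have h1 := key l hl
  have h2 := key (l ^ 2) fun e => s0 (pow_eq_zero_iff two_ne_zero |>.1 (by
    rw [map_pow] at e
    linear_combination (norm := (ring_nf; reduce_mod_char!)) e))
  rw [map_pow] at h2
  have h3 : b * (b + 1) * ((l + θ l) * (θ l ^ 2 + l + 1)) ^ 2 = 0 := by
    linear_combination (norm := (ring_nf; reduce_mod_char!)) h2 +
      (b * (l + θ l) * (θ l ^ 2 + l + 1) + θ l ^ 2 + θ l) * h1
  have h4 := (mul_eq_zero.1 (pow_eq_zero_iff two_ne_zero |>.1 ((mul_eq_zero.1 h3).resolve_left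
    (mul_ne_zero hb.1 (CharTwo.add_eq_zero.not.2 hb.2))))).resolve_left s0
  have h5 : θ l * θ (l + 1) = 0 := by
    rw [map_add, map_one]
    linear_combination h1 - b * (l + θ l) * h4
  rcases mul_eq_zero.1 h5 with h | h
  · exact hl (by rw [(map_eq_zero θ).1 h, map_zero])
  · exact hl (by rw [CharTwo.add_eq_zero.1 ((map_eq_zero θ).1 h), map_one])

end Coord

theorem Coord.theta_sq (co : Coord H t θ 1 a k v) (hC : HypC H t)
    (h3 : ∀ l : F, l ^ 2 + l + 1 ≠ 0) (l : F) : θ (θ l) = l ^ 2 := by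
  have := co.fr.charP
  by_cases l0 : l = 0
  · simp [l0]
  by_cases l1 : l + 1 = 0
  · simp [CharTwo.add_eq_zero.1 l1]
  have l0' : θ l ≠ 0 := by simpa using l0
  have l1' : θ l + 1 ≠ 0 := by simpa using (map_ne_zero θ).2 l1
  obtain ⟨n, hn, S1, S2⟩ := co.S12 hC l0 l1 (by simpa [CharTwo.add_self_eq_zero] using l0)
    (by simpa [CharTwo.add_self_eq_zero] using l1')
  have h1 := alg_one (l := l) (n := n) l0'
    (by linear_combination (norm := (ring_nf; reduce_mod_char!)) S1)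
  have h2 := alg_one (l := l + 1) (n := n) l1'
    (by linear_combination (norm := (ring_nf; reduce_mod_char!)) S2)
  have h4 : n * (l + θ l + 1) + θ l + l ^ 2 + 1 = 0 := by
    by_contra h
    have h5 := (mul_eq_zero.1 h1).resolve_left h
    have h6 := (mul_eq_zero.1 h2).resolve_left fun e => h (by
      linear_combination (norm := (ring_nf; reduce_mod_char!)) e)
    have h7 : θ l = l := by linear_combination (norm := (ring_nf; reduce_mod_char!)) h5 + h6
    rw [h7] at h5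
    exact h3 l (by linear_combination h5)
  have h5 := congrArg θ h4
  simp only [map_add, map_mul, map_pow, map_one, map_zero] at h5
  have P0 : l + θ l + 1 ≠ 0 := fun e => by
    have : l * θ l = (l + 1) * θ (l + 1) := by
      rw [map_add, map_one]
      linear_combination (norm := (ring_nf; reduce_mod_char!)) e
    simpa using co.norm_inj _ _ this
  refine mul_left_cancel₀ (mul_ne_zero l0' l1') ?_
  linear_combination (norm := (ring_nf; reduce_mod_char!))
    (θ n * (θ l + θ (θ l) + 1)) * h4 + (θ l + l ^ 2 + 1) * h5 +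
      (l + θ l + 1) * (θ l + θ (θ l) + 1) * hn

end Cfsg.Agent.BSW
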