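import Mathlib
import Cfsg.Agent.Lib.BSW.SzTheta
import Cfsg.Agent.Lib.BSW.SzMat

/-!
Identification with the Suzuki groups.
-/

set_option autoImplicit false

namespace Cfsg.Agent.BSW

open Subgroup

section
variable {P Q : Type*} [Group P] [Group Q] {F : Type*} [Field F] [CharP F 2] {θ : F ≃+* F}
  {a k v : F → P} {t : P} {a' k' v' : F → Q} {t' : Q}

theorem Rel2.equiv_of_hom (f : P →* Q) (h : Rel2 θ a k v t) (h' : Rel2 θ a' k' v' t')
    (fa : ∀ c, f (a c) = a' c) (fk : ∀ c, f (k c) = k' c) (fv : ∀ c, f (v c) = v' c)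
    (ft : f t = t') (hN : ∀ x y, x * θ x = y * θ y → x = y)
    (u1 : ∀ x d c, c ≠ 0 → v' x * a' d * k' c = 1 → x = 0 ∧ d = 0 ∧ c = 1) (u2 : t' ∉ h'.B) :
    Nonempty (h.R hN ≃* h'.R hN) := by
  have hB : ∀ p ∈ h.B, f p ∈ h'.B := by
    rintro _ ⟨x, d, c, hc, rfl⟩
    exact ⟨x, d, c, hc, by rw [map_mul, map_mul, fa, fk, fv]⟩
  have hB' : ∀ q ∈ h'.B, ∃ p ∈ h.B, f p = q := by
    rintro _ ⟨x, d, c, hc, rfl⟩
    exact ⟨_, ⟨x, d, c, hc, rfl⟩, by rw [map_mul, map_mul, fa, fk, fv]⟩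
  refine ⟨MulEquiv.ofBijective ((f.comp (h.R hN).subtype).codRestrict (h'.R hN) ?_)
    ⟨(injective_iff_map_eq_one _).2 ?_, ?_⟩⟩
  · rintro ⟨_, hp | ⟨m, hm, m', hm', rfl⟩⟩
    · exact Or.inl (hB _ hp)
    · exact Or.inr ⟨_, hB _ hm, _, hB _ hm', by simp [ft]⟩
  · rintro ⟨_, ⟨x, d, c, hc, rfl⟩ | ⟨m, hm, m', hm', rfl⟩⟩ e
    · have e : f (v x * a d * k c) = 1 := congrArg Subtype.val e
      rw [map_mul, map_mul, fa, fk, fv] at e
      obtain ⟨rfl, rfl, rfl⟩ := u1 x d c hc e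
      exact Subtype.ext (by simp [h.v_zero, h.a_zero, h.k_one])
    · have e : f (m * t * m') = 1 := congrArg Subtype.val e
      rw [map_mul, map_mul, ft] at e
      exact (u2 ((h'.B.mul_mem_cancel_left (hB m hm)).1
        ((h'.B.mul_mem_cancel_right (hB m' hm')).1 (e ▸ one_mem _)))).elim
  · rintro ⟨_, hq | ⟨m, hm, m', hm', rfl⟩⟩
    · obtain ⟨p, hp, rfl⟩ := hB' _ hq
      exact ⟨⟨p, Or.inl hp⟩, rfl⟩
    · obtain ⟨p, hp, rfl⟩ := hB' _ hm
      obtain ⟨p', hp', rfl⟩ := hB' _ hm'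
      exact ⟨⟨_, Or.inr ⟨p, hp, p', hp', rfl⟩⟩, Subtype.ext (by simp [ft])⟩

end

universe u

variable {G : Type u} [Group G] [Finite G] {H : Subgroup G} {t : G} {F : Type*} [Field F]
  {a k v : F → G} {θ : F ≃+* F}

theorem Coord.isSimpleGroup {b : F} (co : Coord H t θ b a k v) (hC : HypC H t)
    (h2 : IsPGroup 2 H) : IsSimpleGroup G := by
  have := co.fr.charP
  have := co.fr.finite
  have fr := co.fr
  have : Nontrivial G := ⟨⟨_, _, fr.a_ne_one one_ne_zero⟩⟩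
  refine ⟨fun N hN => ?_⟩
  obtain ⟨l, l0, l1⟩ := fr.exists_ne hC
  have l1' : l + 1 ≠ 0 := CharTwo.add_eq_zero.not.2 l1
  by_cases hz : ∃ z ∈ N, z ∈ H ∧ z ≠ 1
  · right
    obtain ⟨z, hzN, hz, z1, z2⟩ : ∃ z ∈ N, z ∈ H ∧ z ≠ 1 ∧ z * z = 1 := by
      obtain ⟨z, hzN, hz, z1⟩ := hz
      obtain ⟨n, hn⟩ := h2 ⟨z, hz⟩
      replace hn : z ^ 2 ^ n = 1 := congrArg Subtype.val hn
      induction n generalizing z with
      | zero => exact (z1 (by simpa using hn)).elim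
      | succ n ih =>
        by_cases h : z * z = 1
        · exact ⟨z, hzN, hz, z1, h⟩
        · exact ih _ (mul_mem hzN hzN) (mul_mem hz hz) h (by rwa [← _root_.sq, ← pow_mul, ← pow_succ'])
    have hi : ∀ u, u * u = 1 → u ∈ N := fun u u2 => by
      by_cases u1 : u = 1
      · exact u1 ▸ one_mem _
      obtain ⟨g, rfl⟩ := hC.exists_conj_of_ne_top hC.norm_ne_top hz z1 z2 u1 u2
      exact hN.conj_mem z hzN g
    have ht := hi t hC.t2
    have hK : ∀ j ∈ Kt H t, j ∈ N := fun j hj => (N.mul_mem_cancel_left ht).1 (hi _ (by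
      rw [mul_assoc, ← mul_assoc j, hC.mul_t hj, ← mul_assoc, ← mul_assoc, hC.t2]; group))
    have hH : ∀ y ∈ H, y ∈ N := fun y hy => by
      obtain ⟨x, d, rfl⟩ := co.v_surj y hy
      obtain ⟨x, rfl⟩ : ∃ y, x = y + l * y := ⟨x / (l + 1), by field_simp; ring⟩
      refine mul_mem ?_ (hi _ (fr.a_sq d))
      have h3 := hK _ (fr.k_mem (l * θ l))
      rw [← N.mul_mem_cancel_right (hi _ (fr.a_sq _)), ← co.inv_mul hC, ← co.v_conj l l0,
        ← mul_assoc, ← mul_assoc]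
      exact mul_mem (by simpa using hN.conj_mem _ h3 (v x)⁻¹) (inv_mem h3)
    refine eq_top_iff.2 fun g _ => ?_
    by_cases hg : g ∈ normalizer (H : Set G)
    · obtain ⟨j, hj, y, hy, rfl⟩ := hC.decomp hg
      exact mul_mem (hK j hj) (hH y hy)
    · obtain ⟨x, hx, j, hj, y, hy, rfl⟩ := hC.bruhat hg
      exact mul_mem (mul_mem (mul_mem (hH x hx) ht) (hK j hj)) (hH y hy)
  left
  push Not at hz
  have hinv : ∀ c, c ≠ 0 → ∀ n ∈ N, a c * n * (a c)⁻¹ = n⁻¹ := fun c hc n hn => by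
    obtain ⟨y, -, e⟩ := Frob.exists_conj_of_fpf (K := N) (h := a c)
      (by rw [normalizer_eq_top]; trivial) (fun n hn e => hz n hn
        (hC.mem_of_comm (fr.a_mem c) (fr.a_ne_one hc) (fr.a_sq c) e.symm)) hn
    have := conj_mul_self (g := y) (fr.a_sq c)
    rw [e] at this
    rw [fr.a_inv, eq_inv_iff_mul_eq_one, mul_eq_one_comm, ← this]
    group
  refine eq_bot_iff.2 fun n hn => hz n hn
    (hC.mem_of_comm (fr.a_mem (l + 1)) (fr.a_ne_one l1') (fr.a_sq _) ?_)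
  rw [fr.a_add, eq_comm, ← mul_inv_eq_iff_eq_mul]
  calc _ = a l * (a 1 * n * (a 1)⁻¹) * (a l)⁻¹ := by group
    _ = _ := by rw [hinv 1 one_ne_zero n hn, hinv l l0 _ (inv_mem hn), inv_inv]

theorem Coord.nonempty_equiv (co : Coord H t θ 1 a k v) (hC : HypC H t)
    (hθ : ∀ x, θ (θ x) = x ^ 2) {e : ℕ} (he : ∀ x, θ x = x ^ e) : Nonempty (G ≃* Lie.Sz F e) := by
  have := co.fr.charP
  have fr := co.fr
  have h : Rel2 θ a k v t := ⟨fr.rel1 hC co.str, fun d x => fr.a_comm hC d (co.v_mem x),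
    fun x y => by rw [co.v_mul, CharTwo.add_self_eq_zero, zero_mul, zero_add, one_mul], co.v_conj,
    co.norm_surj⟩
  have h' := SzM.rel2 hθ co.norm_surj
  have hH : ∀ y ∈ H, y ∈ h.B := fun y hy => by
    obtain ⟨x, d, rfl⟩ := co.v_surj y hy
    exact mul_mem (h.v_mem x) (h.a_mem d)
  have hK : ∀ j ∈ Kt H t, j ∈ h.B := fun j hj => by
    obtain ⟨c, hc, rfl⟩ := fr.k_surj j hj
    exact h.k_mem hc
  have htop : h.R co.norm_inj = ⊤ := eq_top_iff.2 fun g _ => by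
    by_cases hg : g ∈ normalizer (H : Set G)
    · obtain ⟨j, hj, y, hy, rfl⟩ := hC.decomp hg
      exact Or.inl (mul_mem (hK j hj) (hH y hy))
    · obtain ⟨x, hx, j, hj, y, hy, rfl⟩ := hC.bruhat hg
      exact Or.inr ⟨x, hH x hx, _, mul_mem (hK j hj) (hH y hy), mul_assoc _ _ _⟩
  obtain ⟨e1⟩ := Rel2.equiv_of_hom (MonoidHom.fst _ _) (h.prod h') h (fun _ => rfl) (fun _ => rfl)
    (fun _ => rfl) rfl co.norm_inj (fun x d c hc e => by
      have h1 := mul_mem (co.v_mem x) (fr.a_mem d)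
      have h2 : k c = 1 := hC.eq_one_of_mem_K (fr.k_mem c)
        ((H.mul_mem_cancel_left h1).1 (e ▸ one_mem _))
      rw [h2, mul_one, ← mul_one 1] at e
      nth_rw 1 [← co.v_zero] at e
      rw [← fr.a_zero] at e
      exact ⟨(co.inj hC e).1, (co.inj hC e).2, fr.k_inj hc one_ne_zero (h2.trans (fr.k_one hC).symm)⟩)
    (by
      rintro ⟨x, d, c, -, e⟩
      exact hC.t_not_mem (e ▸ mul_mem (le_normalizer (mul_mem (co.v_mem x) (fr.a_mem d)))
        (fr.k_mem c).1))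
  obtain ⟨e2⟩ := Rel2.equiv_of_hom (MonoidHom.snd _ _) (h.prod h') h' (fun _ => rfl) (fun _ => rfl)
    (fun _ => rfl) rfl co.norm_inj (fun x d c hc e => SzM.uniq hθ hc e) (SzM.W_not_mem hθ co.norm_surj)
  exact ⟨((topEquiv.symm.trans (MulEquiv.subgroupCongr htop.symm)).trans (e1.symm.trans e2)).trans
    (MulEquiv.subgroupCongr (SzM.R_eq hθ co.norm_surj _ he))⟩

theorem eq_pow_of_sq {m : ℕ} (θ : GaloisField 2 (2 * m + 1) ≃+* GaloisField 2 (2 * m + 1))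
    (hθ : ∀ x, θ (θ x) = x ^ 2) (x : GaloisField 2 (2 * m + 1)) : θ x = x ^ 2 ^ (m + 1) := by
  let σ : GaloisField 2 (2 * m + 1) ≃ₐ[ZMod 2] GaloisField 2 (2 * m + 1) :=
    AlgEquiv.ofRingEquiv (f := θ) fun r => DFunLike.congr_fun
      (RingHom.ext_zmod (θ.toRingHom.comp (algebraMap (ZMod 2) _)) (algebraMap (ZMod 2) _)) r
  have h1 : σ ^ (2 * m + 1) = 1 := by
    have := pow_card_eq_one' (x := σ)
    rwa [IsGalois.card_aut_eq_finrank, GaloisField.finrank _ (by omega)] at this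
  have h2 : ∀ j x, (σ ^ (2 * j)) x = x ^ 2 ^ j := fun j => by
    induction j with
    | zero => simp
    | succ j ih =>
      intro x
      rw [mul_add, pow_add, AlgEquiv.mul_apply, ih, mul_one, _root_.sq, AlgEquiv.mul_apply, pow_succ',
        pow_mul]
      exact congrArg (· ^ 2 ^ j) (hθ x)
  rw [← h2, show 2 * (m + 1) = 2 * m + 1 + 1 by ring, pow_succ, h1, one_mul]
  rfl

theorem HypC.suzuki (hC : HypC H t) (h2 : IsPGroup 2 H)
    (hq : Nat.card H = (Nat.card (Kt H t) + 1) ^ 2) :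
    ∃ m : ℕ, 1 ≤ m ∧ Nat.card H = (2 ^ (2 * m + 1)) ^ 2 ∧ IsSimpleGroup G ∧
      Nonempty (G ≃* Lie.Sz (GaloisField 2 (2 * m + 1)) (2 ^ (m + 1))) := by
  obtain ⟨n, hn, a, k, fr, r, hr, e⟩ := hC.exists_frame
  rw [fr.card_K, Nat.sub_add_cancel Nat.card_pos] at hq
  have h3 : ∀ l : GaloisField 2 n, l ^ 2 + l + 1 ≠ 0 := fun l hl => by
    have l0 : l ≠ 0 := by rintro rfl; simp at hl
    have l1 : l ≠ 1 := by rintro rfl; simp [CharTwo.add_self_eq_zero] at hl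
    refine fr.k_ne_one hC l0 l1 (fr.not_three hC hq _ (fr.k_mem l) ?_)
    rw [pow_three, ← fr.k_mul hC l0 l0, ← fr.k_mul hC l0 (mul_ne_zero l0 l0), ← fr.k_one hC]
    congr 1
    linear_combination (l - 1) * hl
  obtain ⟨m, rfl⟩ : Odd n := by
    rw [← Nat.not_even_iff_odd]
    rintro ⟨j, rfl⟩
    have : Fact (Nat.Prime 3) := ⟨Nat.prime_three⟩
    obtain ⟨l, hl⟩ := exists_prime_orderOf_dvd_card' (G := (GaloisField 2 (j + j))ˣ) 3 (by
      rw [Nat.card_units, GaloisField.card _ _ (by omega), ← two_mul, pow_mul]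
      exact Nat.sub_one_dvd_pow_sub_one 4 j)
    have h4 : (l : GaloisField 2 (j + j)) ^ 3 = 1 := by
      rw [← Units.val_pow_eq_pow_val, ← hl, pow_orderOf_eq_one, Units.val_one]
    have h5 : (l : GaloisField 2 (j + j)) - 1 ≠ 0 := fun e => by
      rw [Units.val_eq_one.1 (sub_eq_zero.1 e), orderOf_one] at hl
      omega
    exact h3 l (mul_left_cancel₀ h5 (by linear_combination h4))
  obtain ⟨θ, v, co⟩ : ∃ θ v, Coord H t θ 1 a k v := by
    obtain ⟨θ, b, v, co⟩ := fr.exists_coord hC h2 hq hr e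
    rcases co.b_eq hC with rfl | rfl
    · exact ⟨_, _, zero_add (1 : GaloisField 2 (2 * m + 1)) ▸ co.symm⟩
    · exact ⟨_, _, co⟩
  have hθ := co.theta_sq hC h3
  exact ⟨m, by omega, by rw [hq, GaloisField.card _ _ (by omega)], co.isSimpleGroup hC h2,
    co.nonempty_equiv hC hθ (eq_pow_of_sq θ hθ)⟩

end Cfsg.Agent.BSW
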